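import Mathlib

/-!
Commutator subspaces and eigenspaces of a representation of a group, used for the lower bound on
the degree of alternating sections of linear groups.
-/

set_option autoImplicit false

namespace Cfsg.Agent.AltSection

open Module

variable {k V G : Type*} [Field k] [AddCommGroup V] [Module k V] [Group G] (ρ : G →* Module.End k V)

theorem rho_mul (g h : G) (v : V) : ρ (g * h) v = ρ g (ρ h v) := by rw [map_mul]; rfl

theorem rho_one (v : V) : ρ 1 v = v := by rw [map_one]; rfl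

theorem rho_inv_apply (g : G) (v : V) : ρ g⁻¹ (ρ g v) = v := by
  rw [← rho_mul, inv_mul_cancel, rho_one]

theorem rho_apply_inv (g : G) (v : V) : ρ g (ρ g⁻¹ v) = v := by
  rw [← rho_mul, mul_inv_cancel, rho_one]

theorem rho_injective_apply (g : G) : Function.Injective (ρ g) := fun v w h => by
  rw [← rho_inv_apply ρ g v, h, rho_inv_apply]

/-- The image of `g - 1`. -/
def moved (g : G) : Submodule k V := LinearMap.range (ρ g - 1)

theorem mem_moved {g : G} {w : V} : w ∈ moved ρ g ↔ ∃ v, ρ g v - v = w := Iff.rfl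

theorem sub_mem_moved (g : G) (v : V) : ρ g v - v ∈ moved ρ g := ⟨v, rfl⟩

theorem moved_inv (g : G) : moved ρ g⁻¹ = moved ρ g := by
  have key : ∀ a : G, moved ρ a⁻¹ ≤ moved ρ a := by
    rintro a _ ⟨v, rfl⟩
    refine ⟨-ρ a⁻¹ v, ?_⟩
    show ρ a (-ρ a⁻¹ v) - -ρ a⁻¹ v = ρ a⁻¹ v - v
    rw [map_neg, rho_apply_inv]; abel
  exact le_antisymm (key g) (by simpa using key g⁻¹)

/-- The span of the images of `g - 1`, `g ∈ s`. -/
def bracket (s : Set G) : Submodule k V := ⨆ g ∈ s, moved ρ g

theorem moved_le_bracket {s : Set G} {g : G} (hg : g ∈ s) : moved ρ g ≤ bracket ρ s :=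
  le_biSup (fun g => moved ρ g) hg

theorem bracket_le {s : Set G} {W : Submodule k V} (h : ∀ g ∈ s, moved ρ g ≤ W) :
    bracket ρ s ≤ W := iSup₂_le h

theorem bracket_mono {s t : Set G} (h : s ⊆ t) : bracket ρ s ≤ bracket ρ t :=
  bracket_le ρ fun _ hg => moved_le_bracket ρ (h hg)

theorem moved_le_bracket_of_mem_closure {s : Set G} {g : G} (hg : g ∈ Subgroup.closure s) :
    moved ρ g ≤ bracket ρ s := by
  induction hg using Subgroup.closure_induction with
  | mem x hx => exact moved_le_bracket ρ hx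
  | one => rintro _ ⟨v, rfl⟩; simp [rho_one]
  | mul a b _ _ ha hb =>
    rintro _ ⟨v, rfl⟩
    have : (ρ (a * b) - 1) v = (ρ a (ρ b v) - ρ b v) + (ρ b v - v) := by
      show ρ (a * b) v - v = _
      rw [rho_mul]; abel
    rw [this]
    exact add_mem (ha (sub_mem_moved ρ a _)) (hb (sub_mem_moved ρ b _))
  | inv a _ ha => rw [moved_inv]; exact ha

theorem map_moved (g a : G) : (moved ρ a).map (ρ g) = moved ρ (g * a * g⁻¹) := by
  refine le_antisymm ?_ ?_
  · rintro _ ⟨_, ⟨v, rfl⟩, rfl⟩
    refine ⟨ρ g v, ?_⟩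
    show ρ (g * a * g⁻¹) (ρ g v) - ρ g v = ρ g (ρ a v - v)
    rw [rho_mul, rho_inv_apply, rho_mul, map_sub]
  · rintro _ ⟨v, rfl⟩
    refine ⟨_, sub_mem_moved ρ a (ρ g⁻¹ v), ?_⟩
    show ρ g (ρ a (ρ g⁻¹ v) - ρ g⁻¹ v) = ρ (g * a * g⁻¹) v - v
    rw [rho_mul, rho_mul, map_sub, rho_apply_inv]

theorem map_bracket (g : G) (s : Set G) :
    (bracket ρ s).map (ρ g) = bracket ρ ((fun a => g * a * g⁻¹) '' s) := by
  simp only [bracket, Submodule.map_iSup, map_moved]
  rw [iSup_image]

/-- If `(h - 1)(g - 1) = 0` for all `g ∈ s`, then `h` fixes the commutator space of `s`. -/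
theorem fix_bracket {s : Set G} {h : G}
    (hs : ∀ g ∈ s, ∀ w ∈ moved ρ g, ρ h w = w) {w : V} (hw : w ∈ bracket ρ s) : ρ h w = w := by
  have : bracket ρ s ≤ Module.End.eigenspace (ρ h) 1 := bracket_le ρ fun g hg w hw => by
    rw [Module.End.mem_eigenspace_iff, one_smul]; exact hs g hg w hw
  simpa using Module.End.mem_eigenspace_iff.1 (this hw)

theorem mem_eig {g : G} {μ : k} {v : V} :
    v ∈ Module.End.eigenspace (ρ g) μ ↔ ρ g v = μ • v := Module.End.mem_eigenspace_iff

/-- `g` of order prime to the characteristic has no fixed vectors on the image of `g - 1`. -/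
theorem eq_zero_of_moved_of_fixed {g : G} {m : ℕ} (hg : g ^ m = 1) (hm : (m : k) ≠ 0) {v : V}
    (hv : v ∈ moved ρ g) (hfix : ρ g v = v) : v = 0 := by
  obtain ⟨w, rfl⟩ := hv
  set u := (ρ g - 1) w with hu
  have hgw : ρ g w = w + u := by rw [hu]; show ρ g w = w + (ρ g w - w); abel
  have key : ∀ j : ℕ, ρ (g ^ j) w = w + (j : k) • u := by
    intro j
    induction j with
    | zero => simp [rho_one]
    | succ j ih => rw [pow_succ', rho_mul, ih, map_add, map_smul, hgw, hfix, Nat.cast_succ,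
        add_smul, one_smul]; abel
  have h := key m
  rw [hg, rho_one, left_eq_add, smul_eq_zero] at h
  exact h.resolve_left hm

theorem apply_eig_mem (g a : G) {μ : k} {v : V} (hv : v ∈ Module.End.eigenspace (ρ a) μ) :
    ρ g v ∈ Module.End.eigenspace (ρ (g * a * g⁻¹)) μ := by
  rw [mem_eig] at hv ⊢
  rw [rho_mul, rho_inv_apply, rho_mul, hv, map_smul]

theorem apply_eig_mem_of_commute {g a : G} (h : g * a = a * g) {μ : k} {v : V}
    (hv : v ∈ Module.End.eigenspace (ρ a) μ) : ρ g v ∈ Module.End.eigenspace (ρ a) μ := by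
  have := apply_eig_mem ρ g a hv
  rwa [h, mul_inv_cancel_right] at this

theorem map_eig (g a : G) (μ : k) :
    (Module.End.eigenspace (ρ a) μ).map (ρ g) = Module.End.eigenspace (ρ (g * a * g⁻¹)) μ := by
  refine le_antisymm ?_ fun v hv => ?_
  · rintro _ ⟨v, hv, rfl⟩; exact apply_eig_mem ρ g a hv
  · refine ⟨ρ g⁻¹ v, ?_, rho_apply_inv ρ g v⟩
    have := apply_eig_mem ρ g⁻¹ _ hv
    simpa [mul_assoc] using this

theorem finrank_map_rho (g : G) (W : Submodule k V) : finrank k (W.map (ρ g)) = finrank k W :=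
  (Submodule.equivMapOfInjective _ (rho_injective_apply ρ g) W).finrank_eq.symm

theorem pow_apply_eig {g : G} {μ : k} {v : V} (hv : ρ g v = μ • v) (j : ℕ) :
    ρ (g ^ j) v = μ ^ j • v := by
  induction j with
  | zero => simp [rho_one]
  | succ j ih => rw [pow_succ', rho_mul, ih, map_smul, hv, smul_smul, pow_succ]

theorem eigval_pow_eq_one {g : G} {m : ℕ} (hg : g ^ m = 1) {μ : k} {v : V} (hv : ρ g v = μ • v)
    (hv0 : v ≠ 0) : μ ^ m = 1 := by
  have h := pow_apply_eig ρ hv m
  rw [hg, rho_one] at h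
  exact smul_left_injective k hv0 (show μ ^ m • v = (1 : k) • v by rw [one_smul, ← h])

theorem eig_inv {g : G} {μ : k} (hμ : μ ≠ 0) :
    Module.End.eigenspace (ρ g⁻¹) μ⁻¹ = Module.End.eigenspace (ρ g) μ := by
  ext v
  rw [mem_eig, mem_eig]
  constructor
  · intro h
    have := congrArg (ρ g) h
    rw [rho_apply_inv, map_smul] at this
    conv_rhs => rw [this]
    rw [smul_smul, mul_inv_cancel₀ hμ, one_smul]
  · intro h
    have := congrArg (ρ g⁻¹) h
    rw [rho_inv_apply, map_smul] at this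
    conv_rhs => rw [this]
    rw [smul_smul, inv_mul_cancel₀ hμ, one_smul]

/-- A finite-order element of order prime to the characteristic is diagonalizable. -/
theorem iSup_eig_eq_top [IsAlgClosed k] [FiniteDimensional k V] {g : G} {m : ℕ} (hg : g ^ m = 1)
    (hm : (m : k) ≠ 0) : ⨆ μ, Module.End.eigenspace (ρ g) μ = ⊤ := by
  have hss : (ρ g).IsSemisimple := by
    refine Module.End.isSemisimple_of_squarefree_aeval_eq_zero
      (p := Polynomial.X ^ m - Polynomial.C (1 : k)) ?_ ?_
    · exact (Polynomial.separable_X_pow_sub_C (1 : k) hm one_ne_zero).squarefree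
    · rw [map_sub, map_pow, Polynomial.aeval_X, Polynomial.aeval_C, ← map_pow, hg, map_one,
        map_one, sub_self]
  rw [← hss.iSup_maxGenEigenspace_eq_top_iff]
  exact Module.End.iSup_maxGenEigenspace_eq_top (ρ g)

/-- If every eigenspace for eigenvalues `≠ 1` is trivial then `g` acts trivially. -/
theorem exists_eig_ne_one [IsAlgClosed k] [FiniteDimensional k V] {g : G} {m : ℕ} (hg : g ^ m = 1)
    (hm : (m : k) ≠ 0) (hne : ρ g ≠ 1) :
    ∃ μ : k, μ ≠ 1 ∧ μ ^ m = 1 ∧ Module.End.eigenspace (ρ g) μ ≠ ⊥ := by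
  by_contra hcon
  push Not at hcon
  refine hne (LinearMap.ext fun v => ?_)
  have hv : v ∈ ⨆ μ, Module.End.eigenspace (ρ g) μ := by rw [iSup_eig_eq_top ρ hg hm]; trivial
  have hle : (⨆ μ, Module.End.eigenspace (ρ g) μ) ≤ Module.End.eigenspace (ρ g) 1 := by
    refine iSup_le fun μ w hw => ?_
    rcases eq_or_ne w 0 with rfl | hw0
    · exact zero_mem _
    by_cases h1 : μ = 1
    · exact h1 ▸ hw
    exact absurd (((Submodule.eq_bot_iff _).1 (hcon μ h1 (eigval_pow_eq_one ρ hg (mem_eig ρ |>.1 hw) hw0))) w hw) hw0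
  simpa using (mem_eig ρ).1 (hle hv)

/-- A group action restricted to an invariant subspace. -/
def subRep (W : Submodule k V) (hW : ∀ g : G, ∀ w ∈ W, ρ g w ∈ W) : G →* Module.End k W where
  toFun g := (ρ g).restrict (hW g)
  map_one' := LinearMap.ext fun w => Subtype.ext (rho_one ρ w)
  map_mul' a b := LinearMap.ext fun w => Subtype.ext (rho_mul ρ a b w)

theorem subRep_apply (W : Submodule k V) (hW : ∀ g : G, ∀ w ∈ W, ρ g w ∈ W) (g : G) (w : W) :
    ((subRep ρ W hW g) w : V) = ρ g w := rfl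

theorem sum_finrank_of_indep [FiniteDimensional k V] {ι : Type*} (f : ι → Submodule k V)
    (hf : iSupIndep f) (s : Finset ι) :
    ∑ i ∈ s, finrank k (f i) = finrank k (s.sup f : Submodule k V) := by
  classical
  induction s using Finset.induction_on with
  | empty => rw [Finset.sum_empty, Finset.sup_empty, finrank_bot]
  | @insert a s ha ih =>
    rw [Finset.sum_insert ha, Finset.sup_insert, ih]
    have hd : Disjoint (f a) (s.sup f) := by
      rw [Finset.sup_eq_iSup]
      exact (hf a).mono_right (iSup₂_mono' fun i hi => ⟨i, fun e => ha (by rw [← e]; exact hi), le_rfl⟩)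
    have := Submodule.finrank_sup_add_finrank_inf_eq (f a) (s.sup f)
    rw [hd.eq_bot, finrank_bot, add_zero] at this
    exact this.symm

theorem sum_finrank_le [FiniteDimensional k V] {ι : Type*} (f : ι → Submodule k V)
    (hf : iSupIndep f) (s : Finset ι) {Y : Submodule k V} (hY : ∀ i ∈ s, f i ≤ Y) :
    ∑ i ∈ s, finrank k (f i) ≤ finrank k Y := by
  rw [sum_finrank_of_indep f hf s]
  exact Submodule.finrank_mono (Finset.sup_le hY)

theorem one_le_finrank [FiniteDimensional k V] {W : Submodule k V} (h : W ≠ ⊥) : 1 ≤ finrank k W :=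
  Submodule.one_le_finrank_iff.2 h

theorem two_disjoint_le [FiniteDimensional k V] {A B : Submodule k V} (h : A ⊓ B = ⊥) :
    finrank k A + finrank k B ≤ finrank k V := by
  have := Submodule.finrank_sup_add_finrank_inf_eq A B
  rw [h, finrank_bot, add_zero] at this
  rw [← this]
  exact Submodule.finrank_le _

theorem finrank_lt_of_lt' [FiniteDimensional k V] {A B : Submodule k V} (h : A ≤ B) (hne : A ≠ B) :
    finrank k A < finrank k B :=
  Submodule.finrank_lt_finrank_of_lt (lt_of_le_of_ne h hne)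

end Cfsg.Agent.AltSection
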