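import Mathlib

/-!
Elements of alternating groups transported along embeddings of small index types.
-/

set_option autoImplicit false
set_option linter.unusedSectionVars false

namespace Cfsg.Agent.AltSection

open Equiv

variable {α : Type*} [Fintype α] [DecidableEq α] {m l : ℕ}

/-- Transport of a permutation of `Fin m` along an embedding, as a permutation. -/
def permExt (e : Fin m ↪ α) : Perm (Fin m) →* Perm α :=
  Perm.extendDomainHom e.toEquivRange

theorem permExt_apply (e : Fin m ↪ α) (x : Perm (Fin m)) (i : Fin m) :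
    permExt e x (e i) = e (x i) :=
  Perm.extendDomain_apply_image x e.toEquivRange i

theorem permExt_apply_of_notMem (e : Fin m ↪ α) (x : Perm (Fin m)) {a : α}
    (ha : a ∉ Set.range e) : permExt e x a = a :=
  Perm.extendDomain_apply_not_subtype x _ ha

theorem sign_permExt (e : Fin m ↪ α) (x : Perm (Fin m)) :
    Perm.sign (permExt e x) = Perm.sign x :=
  Perm.sign_extendDomain x _

/-- Transport of even permutations of `Fin m` along an embedding. -/
def altExt (e : Fin m ↪ α) : alternatingGroup (Fin m) →* alternatingGroup α :=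
  ((permExt e).comp (alternatingGroup (Fin m)).subtype).codRestrict (alternatingGroup α) fun x => by
    show permExt e x.1 ∈ alternatingGroup α
    rw [Perm.mem_alternatingGroup, sign_permExt]; exact x.2

theorem coe_altExt (e : Fin m ↪ α) (x : alternatingGroup (Fin m)) :
    (altExt e x : Perm α) = permExt e x := rfl

theorem altExt_injective (e : Fin m ↪ α) : Function.Injective (altExt e) := fun x y h =>
  Subtype.ext (Perm.extendDomainHom_injective _ (congrArg Subtype.val h))

theorem permExt_trans (e : Fin m ↪ α) (f : Fin l ↪ Fin m) (x : Perm (Fin l)) :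
    permExt (f.trans e) x = permExt e (permExt f x) := by
  refine Equiv.ext fun a => ?_
  by_cases ha : a ∈ Set.range e
  · obtain ⟨i, rfl⟩ := ha
    rw [permExt_apply]
    by_cases hi : i ∈ Set.range f
    · obtain ⟨j, rfl⟩ := hi
      rw [permExt_apply]
      exact permExt_apply (f.trans e) x j
    · rw [permExt_apply_of_notMem f x hi, permExt_apply_of_notMem]
      rintro ⟨j, hj⟩
      exact hi ⟨j, e.injective hj⟩
  · rw [permExt_apply_of_notMem e _ ha, permExt_apply_of_notMem]
    rintro ⟨j, hj⟩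
    exact ha ⟨f j, hj⟩

theorem altExt_trans (e : Fin m ↪ α) (f : Fin l ↪ Fin m) (x : alternatingGroup (Fin l)) :
    altExt (f.trans e) x = altExt e (altExt f x) := Subtype.ext (permExt_trans e f x)

/-- An embedding moved by a permutation. -/
def moveEmb (g : alternatingGroup α) (e : Fin m ↪ α) : Fin m ↪ α :=
  e.trans (g : Perm α).toEmbedding

theorem moveEmb_apply (g : alternatingGroup α) (e : Fin m ↪ α) (i : Fin m) :
    moveEmb g e i = (g : Perm α) (e i) := rfl

theorem permExt_conj (g : Perm α) (e : Fin m ↪ α) (x : Perm (Fin m)) :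
    permExt (e.trans g.toEmbedding) x = g * permExt e x * g⁻¹ := by
  refine Equiv.ext fun a => ?_
  obtain ⟨b, rfl⟩ := g.surjective a
  rw [Perm.mul_apply, Perm.mul_apply, show g⁻¹ (g b) = b from g.symm_apply_apply b]
  by_cases hb : b ∈ Set.range e
  · obtain ⟨i, rfl⟩ := hb
    rw [permExt_apply]
    exact permExt_apply (e.trans g.toEmbedding) x i
  · rw [permExt_apply_of_notMem e x hb, permExt_apply_of_notMem]
    rintro ⟨j, hj⟩
    exact hb ⟨j, g.injective hj⟩

theorem altExt_conj (g : alternatingGroup α) (e : Fin m ↪ α) (x : alternatingGroup (Fin m)) :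
    g * altExt e x * g⁻¹ = altExt (moveEmb g e) x :=
  Subtype.ext (permExt_conj g.1 e x.1).symm

theorem altExt_commute (e : Fin m ↪ α) (f : Fin l ↪ α) (h : ∀ i j, e i ≠ f j)
    (x : alternatingGroup (Fin m)) (y : alternatingGroup (Fin l)) :
    altExt e x * altExt f y = altExt f y * altExt e x := by
  refine Subtype.ext (Perm.Disjoint.commute (fun a => ?_))
  by_cases ha : a ∈ Set.range e
  · obtain ⟨i, rfl⟩ := ha
    exact Or.inr (permExt_apply_of_notMem f y fun ⟨j, hj⟩ => h i j hj.symm)
  · exact Or.inl (permExt_apply_of_notMem e x ha)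

theorem exists_move (hm : m + 2 ≤ Fintype.card α) (e f : Fin m ↪ α) :
    ∃ g : alternatingGroup α, moveEmb g e = f := by
  haveI := alternatingGroup.isMultiplyPretransitive α
  haveI : MulAction.IsMultiplyPretransitive (alternatingGroup α) α m :=
    MulAction.isMultiplyPretransitive_of_le (n := Nat.card α - 2)
      (by rw [Nat.card_eq_fintype_card]; omega) (Nat.sub_le _ _)
  obtain ⟨g, hg⟩ := MulAction.exists_smul_eq (alternatingGroup α) e f
  exact ⟨g, by rw [← hg]; rfl⟩

/-- The standard three-cycle. -/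
def c3 : alternatingGroup (Fin 3) := ⟨finRotate 3, Perm.mem_alternatingGroup.2 (by decide)⟩

/-- The standard double transposition. -/
def d4 : alternatingGroup (Fin 4) := ⟨swap 0 1 * swap 2 3, Perm.mem_alternatingGroup.2 (by decide)⟩

theorem c3_pow_three : c3 ^ 3 = 1 := by decide

theorem d4_sq : d4 ^ 2 = 1 := by decide

theorem c3_ne_one : c3 ≠ 1 := by decide

theorem d4_ne_one : d4 ≠ 1 := by decide

/-- The three-cycle on the points of `e`. -/
def cyc (e : Fin 3 ↪ α) : alternatingGroup α := altExt e c3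

/-- The double transposition on the points of `e`. -/
def dbl (e : Fin 4 ↪ α) : alternatingGroup α := altExt e d4

theorem cyc_conj (g : alternatingGroup α) (e : Fin 3 ↪ α) :
    g * cyc e * g⁻¹ = cyc (moveEmb g e) := altExt_conj g e c3

theorem dbl_conj (g : alternatingGroup α) (e : Fin 4 ↪ α) :
    g * dbl e * g⁻¹ = dbl (moveEmb g e) := altExt_conj g e d4

theorem cyc_pow_three (e : Fin 3 ↪ α) : cyc e ^ 3 = 1 := by
  rw [cyc, ← map_pow, c3_pow_three, map_one]

theorem dbl_sq (e : Fin 4 ↪ α) : dbl e ^ 2 = 1 := by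
  rw [dbl, ← map_pow, d4_sq, map_one]

theorem cyc_ne_one (e : Fin 3 ↪ α) : cyc e ≠ 1 := fun h =>
  c3_ne_one (altExt_injective e (h.trans (map_one _).symm))

theorem dbl_ne_one (e : Fin 4 ↪ α) : dbl e ≠ 1 := fun h =>
  d4_ne_one (altExt_injective e (h.trans (map_one _).symm))

/-- The range of an embedding as a finite set. -/
def pts (e : Fin m ↪ α) : Finset α := Finset.univ.map e

theorem mem_pts {e : Fin m ↪ α} {a : α} : a ∈ pts e ↔ ∃ i, e i = a := by simp [pts]

theorem card_pts (e : Fin m ↪ α) : (pts e).card = m := by simp [pts]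

theorem pts_moveEmb (g : alternatingGroup α) (e : Fin m ↪ α) :
    pts (moveEmb g e) = (pts e).map (g : Perm α).toEmbedding := by
  rw [pts, pts, Finset.map_map]; rfl

theorem disjoint_pts {e : Fin m ↪ α} {f : Fin l ↪ α} (h : Disjoint (pts e) (pts f)) :
    ∀ i j, e i ≠ f j := fun i j hij =>
  Finset.disjoint_left.1 h (mem_pts.2 ⟨i, rfl⟩) (mem_pts.2 ⟨j, hij.symm⟩)

/-- The even permutations supported in `M`. -/
def altOn (M : Finset α) : Subgroup (alternatingGroup α) := (alternatingGroup.ofSubtype M).range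

theorem mem_altOn {M : Finset α} {g : alternatingGroup α} :
    g ∈ altOn M ↔ ∀ a, (g : Perm α) a ≠ a → a ∈ M := by
  rw [altOn, alternatingGroup.mem_range_ofSubtype_iff]
  exact ⟨fun h a ha => h (Perm.mem_support.2 ha), fun h a ha => h a (Perm.mem_support.1 ha)⟩

theorem altExt_mem_altOn {M : Finset α} {e : Fin m ↪ α} (h : pts e ⊆ M)
    (x : alternatingGroup (Fin m)) : altExt e x ∈ altOn M :=
  mem_altOn.2 fun a ha => by
    by_contra hM
    exact ha (permExt_apply_of_notMem e x fun ⟨i, hi⟩ => hM (h (mem_pts.2 ⟨i, hi⟩)))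

theorem altOn_univ : altOn (Finset.univ : Finset α) = ⊤ :=
  eq_top_iff.2 fun _ _ => mem_altOn.2 fun a _ => Finset.mem_univ a

theorem moveEmb_mem_altOn_fix {M : Finset α} {g : alternatingGroup α} (hg : g ∈ altOn M)
    {a : α} (ha : a ∉ M) : (g : Perm α) a = a := by
  by_contra h; exact ha (mem_altOn.1 hg a h)

theorem conj_mem_altOn {M : Finset α} {g x : alternatingGroup α} (hx : x ∈ altOn M) :
    g * x * g⁻¹ ∈ altOn (M.map (g : Perm α).toEmbedding) :=
  mem_altOn.2 fun a ha => by
    rw [Finset.mem_map]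
    refine ⟨(g : Perm α).symm a, mem_altOn.1 hx _ fun h => ha ?_, (g : Perm α).apply_symm_apply a⟩
    show (g : Perm α) ((x : Perm α) ((g : Perm α).symm a)) = a
    rw [h, Equiv.apply_symm_apply]

/-- A three-cycle is some `cyc e`. -/
theorem exists_cyc {g : alternatingGroup α} (hg : Perm.IsThreeCycle (g : Perm α)) :
    ∃ e : Fin 3 ↪ α, g = cyc e := by
  obtain ⟨a, ha⟩ := hg.isCycle.nonempty_support
  have hnd : [a, (g : Perm α) a, (g : Perm α) ((g : Perm α) a)].Nodup :=
    hg.nodup_iff_mem_support.mpr ha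
  have hs := hg.support_eq_iff_mem_support.mpr ha
  set σ := (g : Perm α) with hσ
  have h3 : σ (σ (σ a)) = a := by
    have h1 : σ ^ 3 = 1 := by rw [← hg.orderOf]; exact pow_orderOf_eq_one σ
    have := congrArg (fun π : Perm α => π a) h1
    simpa [pow_succ, Perm.mul_apply] using this
  simp only [List.nodup_cons, List.mem_cons, List.not_mem_nil, or_false, not_or] at hnd
  obtain ⟨⟨h01, h02⟩, h12, -⟩ := hnd
  let f : Fin 3 → α := ![a, σ a, σ (σ a)]
  have hf : Function.Injective f := by
    intro i j hij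
    fin_cases i <;> fin_cases j <;> simp [f] at hij ⊢ <;>
      first
        | exact h01 hij | exact h01 hij.symm | exact h02 hij | exact h02 hij.symm
        | exact h12 hij | exact h12 hij.symm
  refine ⟨⟨f, hf⟩, Subtype.ext (Equiv.ext fun b => ?_)⟩
  show σ b = permExt ⟨f, hf⟩ c3.1 b
  by_cases hb : b ∈ Set.range f
  · obtain ⟨i, rfl⟩ := hb
    rw [show f i = (⟨f, hf⟩ : Fin 3 ↪ α) i from rfl, permExt_apply]
    fin_cases i <;> first | rfl | exact h3
  · rw [permExt_apply_of_notMem _ _ hb]
    have : b ∉ σ.support := by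
      rw [hs]
      simp only [Finset.mem_insert, Finset.mem_singleton]
      rintro (rfl | rfl | rfl)
      · exact hb ⟨0, rfl⟩
      · exact hb ⟨1, rfl⟩
      · exact hb ⟨2, rfl⟩
    exact Perm.notMem_support.1 this

/-- The even permutations on `M` are generated by the three-cycles on `M`. -/
theorem altOn_le_closure_cyc (M : Finset α) :
    altOn M ≤ Subgroup.closure {g | ∃ e : Fin 3 ↪ α, pts e ⊆ M ∧ g = cyc e} := by
  rw [altOn, MonoidHom.range_eq_map, ← alternatingGroup.closure_isThreeCycles_eq_top,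
    MonoidHom.map_closure, Subgroup.closure_le]
  rintro _ ⟨x, hx, rfl⟩
  obtain ⟨e, he⟩ := exists_cyc (g := x) hx
  refine Subgroup.subset_closure ⟨e.trans (Function.Embedding.subtype _), fun a ha => ?_, ?_⟩
  · obtain ⟨i, rfl⟩ := mem_pts.1 ha
    exact (e i).2
  · subst he
    refine Subtype.ext (Equiv.ext fun a => ?_)
    show Perm.ofSubtype (permExt e c3.1) a = permExt (e.trans (Function.Embedding.subtype _)) c3.1 a
    by_cases ha : a ∈ M
    · by_cases hr : (⟨a, ha⟩ : M) ∈ Set.range e
      · obtain ⟨i, hi⟩ := hr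
        have ea : a = (e.trans (Function.Embedding.subtype _)) i := by simp [hi]
        rw [Perm.ofSubtype_apply_of_mem _ ha, ← hi, permExt_apply]
        conv_rhs => rw [ea, permExt_apply]
        rfl
      · rw [Perm.ofSubtype_apply_of_mem _ ha, permExt_apply_of_notMem _ _ hr,
          permExt_apply_of_notMem]
        rintro ⟨i, hi⟩
        exact hr ⟨i, Subtype.ext hi⟩
    · rw [Perm.ofSubtype_apply_of_not_mem _ ha, permExt_apply_of_notMem]
      rintro ⟨i, hi⟩
      exact ha (hi ▸ (e i).2)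

end Cfsg.Agent.AltSection

namespace Cfsg.Agent.AltSection

open Equiv

variable {α : Type*} [Fintype α] [DecidableEq α] {m : ℕ}

theorem ofSubtype_altExt {M : Finset α} (e : Fin m ↪ M) (x : alternatingGroup (Fin m)) :
    alternatingGroup.ofSubtype M (altExt e x) = altExt (e.trans (Function.Embedding.subtype _)) x := by
  refine Subtype.ext (Equiv.ext fun a => ?_)
  show Perm.ofSubtype (permExt e x.1) a = permExt (e.trans (Function.Embedding.subtype _)) x.1 a
  by_cases ha : a ∈ M
  · by_cases hr : (⟨a, ha⟩ : M) ∈ Set.range e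
    · obtain ⟨i, hi⟩ := hr
      have ea : a = (e.trans (Function.Embedding.subtype _)) i := by simp [hi]
      rw [Perm.ofSubtype_apply_of_mem _ ha, ← hi, permExt_apply]
      conv_rhs => rw [ea, permExt_apply]
      rfl
    · rw [Perm.ofSubtype_apply_of_mem _ ha, permExt_apply_of_notMem _ _ hr, permExt_apply_of_notMem]
      rintro ⟨i, hi⟩
      exact hr ⟨i, Subtype.ext hi⟩
  · rw [Perm.ofSubtype_apply_of_not_mem _ ha, permExt_apply_of_notMem]
    rintro ⟨i, hi⟩
    exact ha (hi ▸ (e i).2)

theorem altOn_mono {M N : Finset α} (h : M ⊆ N) : altOn M ≤ altOn N :=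
  fun _ hg => mem_altOn.2 fun a ha => h (mem_altOn.1 hg a ha)

/-- An embedding into a finite set of prescribed size. -/
theorem exists_emb {M : Finset α} (h : m ≤ M.card) : ∃ e : Fin m ↪ α, pts e ⊆ M := by
  obtain ⟨e⟩ : Nonempty (Fin m ↪ M) :=
    Function.Embedding.nonempty_of_card_le (by simpa using h)
  exact ⟨e.trans (Function.Embedding.subtype _), fun a ha => by
    obtain ⟨i, rfl⟩ := mem_pts.1 ha; exact (e i).2⟩

/-- Three distinct points as an embedding. -/
def emb3 (a b c : α) (hab : a ≠ b) (hac : a ≠ c) (hbc : b ≠ c) : Fin 3 ↪ α :=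
  ⟨![a, b, c], by
    intro i j hij
    fin_cases i <;> fin_cases j <;> simp_all [eq_comm]⟩

theorem pts_emb3 {a b c : α} (hab : a ≠ b) (hac : a ≠ c) (hbc : b ≠ c) :
    pts (emb3 a b c hab hac hbc) = {a, b, c} := by
  ext x
  simp only [mem_pts, Fin.exists_fin_succ, Finset.mem_insert, Finset.mem_singleton, IsEmpty.exists_iff,
    or_false]
  show a = x ∨ b = x ∨ c = x ↔ _
  simp [eq_comm]

theorem cyc_apply (e : Fin 3 ↪ α) (i : Fin 3) : (cyc e : Perm α) (e i) = e (i + 1) := by
  show permExt e c3.1 (e i) = _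
  rw [permExt_apply]; congr 1; revert i; decide

theorem cyc_apply_of_notMem (e : Fin 3 ↪ α) {a : α} (h : a ∉ pts e) : (cyc e : Perm α) a = a :=
  permExt_apply_of_notMem e _ fun ⟨i, hi⟩ => h (mem_pts.2 ⟨i, hi⟩)

theorem c3_self_emb (f : Fin 3 ↪ Fin 3) : altExt f c3 = c3 ∨ altExt f c3 = c3⁻¹ := by
  have key : ∀ σ : Perm (Fin 3), altExt σ.toEmbedding c3 = c3 ∨ altExt σ.toEmbedding c3 = c3⁻¹ := by
    decide
  have hb : Function.Bijective f := ⟨f.injective, Finite.injective_iff_surjective.1 f.injective⟩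
  have he : f = (Equiv.ofBijective f hb).toEmbedding := Function.Embedding.ext fun _ => rfl
  rw [he]; exact key _

/-- A three-cycle depends up to inversion only on its support. -/
theorem cyc_eq_or_inv {e f : Fin 3 ↪ α} (h : pts e = pts f) : cyc f = cyc e ∨ cyc f = (cyc e)⁻¹ := by
  have hf : ∀ i, ∃ j, e j = f i := fun i => mem_pts.1 (h ▸ mem_pts.2 ⟨i, rfl⟩)
  choose σ hσ using hf
  have hσi : Function.Injective σ := fun i j hij => f.injective (by rw [← hσ i, ← hσ j, hij])
  have he : f = (⟨σ, hσi⟩ : Fin 3 ↪ Fin 3).trans e := Function.Embedding.ext fun i => (hσ i).symm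
  rw [cyc, cyc, he, altExt_trans]
  rcases c3_self_emb ⟨σ, hσi⟩ with h1 | h1 <;> rw [h1]
  · exact Or.inl rfl
  · exact Or.inr (map_inv _ _)

/-- A three-cycle with two moved points outside `M` is a conjugate of one with fewer. -/
theorem cyc_step {M : Finset α} (hM : 3 ≤ M.card) (e : Fin 3 ↪ α)
    {i j : Fin 3} (hij : i ≠ j) (hi : e i ∉ M) (hj : e j ∉ M) :
    ∃ (σ : alternatingGroup α) (e' : Fin 3 ↪ α), σ ∈ altOn (insert (e i) M) ∧
      cyc e = σ * cyc e' * σ⁻¹ ∧ (pts e' \ M).card < (pts e \ M).card := by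
  have hinter : (pts e ∩ M).card ≤ 1 := by
    have h1 : ({e i, e j} : Finset α) ⊆ pts e \ M := by
      intro x hx
      rcases Finset.mem_insert.1 hx with rfl | hx
      · exact Finset.mem_sdiff.2 ⟨mem_pts.2 ⟨i, rfl⟩, hi⟩
      · rw [Finset.mem_singleton] at hx; subst hx
        exact Finset.mem_sdiff.2 ⟨mem_pts.2 ⟨j, rfl⟩, hj⟩
    have h2 := Finset.card_le_card h1
    rw [Finset.card_pair fun h => hij (e.injective h)] at h2
    have h3 := Finset.card_sdiff_add_card_inter (pts e) M
    rw [card_pts] at h3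
    omega
  have hfree : 1 < (M \ pts e).card := by
    have h3 := Finset.card_sdiff_add_card_inter M (pts e)
    rw [Finset.inter_comm] at h3
    omega
  obtain ⟨d, hd, x, hx, hdx⟩ := Finset.one_lt_card.1 hfree
  rw [Finset.mem_sdiff] at hd hx
  have hdi : d ≠ e i := fun h => hi (h ▸ hd.1)
  have hxi : e i ≠ x := fun h => hi (h.symm ▸ hx.1)
  let τ := cyc (emb3 d (e i) x hdi hdx hxi)
  have hτd : (τ : Perm α) d = e i := cyc_apply (emb3 d (e i) x hdi hdx hxi) 0
  have hτfix : ∀ y, y ∈ pts e → y ≠ e i → (τ : Perm α) y = y := fun y hy hne => by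
    refine cyc_apply_of_notMem _ ?_
    rw [pts_emb3, Finset.mem_insert, Finset.mem_insert, Finset.mem_singleton]
    rintro (rfl | rfl | rfl)
    · exact hd.2 hy
    · exact hne rfl
    · exact hx.2 hy
  let f : Fin 3 → α := Function.update e i d
  have hf : Function.Injective f := by
    intro a b hab
    by_cases ha : a = i <;> by_cases hb : b = i
    · rw [ha, hb]
    · subst ha; simp [f, hb] at hab; exact absurd (mem_pts.2 ⟨b, hab.symm⟩) hd.2
    · subst hb; simp [f, ha] at hab; exact absurd (mem_pts.2 ⟨a, hab⟩) hd.2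
    · simp [f, ha, hb] at hab; exact hab
  refine ⟨τ, ⟨f, hf⟩, ?_, ?_, ?_⟩
  · refine altExt_mem_altOn ?_ _
    rw [pts_emb3]
    intro y hy
    simp only [Finset.mem_insert, Finset.mem_singleton] at hy ⊢
    rcases hy with rfl | rfl | rfl
    · exact Or.inr hd.1
    · exact Or.inl rfl
    · exact Or.inr hx.1
  · rw [cyc_conj]
    congr 1
    refine Function.Embedding.ext fun a => ?_
    rw [moveEmb_apply]
    show e a = (τ : Perm α) (Function.update e i d a)
    by_cases ha : a = i
    · subst ha; rw [Function.update_self, hτd]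
    · rw [Function.update_of_ne ha, hτfix _ (mem_pts.2 ⟨a, rfl⟩) fun h => ha (e.injective h)]
  · refine Finset.card_lt_card ⟨fun y hy => ?_, fun h => ?_⟩
    · rw [Finset.mem_sdiff, mem_pts] at hy ⊢
      obtain ⟨⟨a, rfl⟩, hy⟩ := hy
      by_cases ha : a = i
      · exact absurd (by show f a ∈ M; simp [f, ha, hd.1]) hy
      · exact ⟨⟨a, by show e a = f a; simp [f, ha]⟩, hy⟩
    · have := h (Finset.mem_sdiff.2 ⟨mem_pts.2 ⟨i, rfl⟩, hi⟩)
      rw [Finset.mem_sdiff, mem_pts] at this
      obtain ⟨⟨a, ha⟩, -⟩ := this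
      change f a = e i at ha
      by_cases hai : a = i
      · simp [f, hai] at ha; exact hdi ha
      · simp [f, hai] at ha

/-- Even permutations supported in `N` are generated by those supported in `M + b`, `b ∈ N`. -/
theorem altOn_le_of_insert {M N : Finset α} (hM : 3 ≤ M.card) (hMN : M ⊂ N)
    {K : Subgroup (alternatingGroup α)} (h : ∀ b ∈ N, b ∉ M → altOn (insert b M) ≤ K) :
    altOn N ≤ K := by
  refine (altOn_le_closure_cyc N).trans ((Subgroup.closure_le _).2 ?_)
  rintro _ ⟨e, he, rfl⟩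
  induction hk : (pts e \ M).card using Nat.strong_induction_on generalizing e with
  | _ n ih =>
    rcases Nat.lt_or_ge n 2 with h2 | h2
    · obtain ⟨b, hb, hsub⟩ : ∃ b, (b ∈ N ∧ b ∉ M) ∧ pts e ⊆ insert b M := by
        rcases Nat.eq_zero_or_pos n with h0 | h0
        · obtain ⟨b, hbN, hbM⟩ := Finset.exists_of_ssubset hMN
          refine ⟨b, ⟨hbN, hbM⟩, fun y hy => Finset.mem_insert_of_mem ?_⟩
          rw [h0, Finset.card_eq_zero, Finset.sdiff_eq_empty_iff_subset] at hk
          exact hk hy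
        · obtain ⟨b, hb⟩ := Finset.card_eq_one.1 (show (pts e \ M).card = 1 by omega)
          have hb' : b ∈ pts e \ M := hb ▸ Finset.mem_singleton_self b
          rw [Finset.mem_sdiff] at hb'
          refine ⟨b, ⟨he hb'.1, hb'.2⟩, fun y hy => ?_⟩
          by_cases hyM : y ∈ M
          · exact Finset.mem_insert_of_mem hyM
          · have : y ∈ pts e \ M := Finset.mem_sdiff.2 ⟨hy, hyM⟩
            rw [hb, Finset.mem_singleton] at this
            exact this ▸ Finset.mem_insert_self _ _
      exact h b hb.1 hb.2 (altExt_mem_altOn hsub _)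
    · obtain ⟨y, hy, z, hz, hyz⟩ := Finset.one_lt_card.1 (show 1 < (pts e \ M).card by omega)
      rw [Finset.mem_sdiff, mem_pts] at hy hz
      obtain ⟨⟨i, rfl⟩, hiM⟩ := hy
      obtain ⟨⟨j, rfl⟩, hjM⟩ := hz
      obtain ⟨σ, e', hσ, heq, hlt⟩ := cyc_step hM e (fun h => hyz (congrArg e h)) hiM hjM
      have hσK : σ ∈ K := h _ (he (mem_pts.2 ⟨i, rfl⟩)) hiM hσ
      have he' : pts e' ⊆ N := by
        intro w hw
        by_cases hwM : w ∈ M
        · exact hMN.1 hwM
        · have hσw : cyc e' = σ⁻¹ * cyc e * σ := by rw [heq]; group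
          have hmem : cyc e' ∈ altOn N := by
            rw [hσw]
            have hσN : σ ∈ altOn N := altOn_mono (Finset.insert_subset_iff.2
              ⟨he (mem_pts.2 ⟨i, rfl⟩), hMN.1⟩) hσ
            exact mul_mem (mul_mem (inv_mem hσN) (altExt_mem_altOn he _)) hσN
          obtain ⟨a, rfl⟩ := mem_pts.1 hw
          refine mem_altOn.1 hmem _ fun hfix => ?_
          rw [cyc_apply] at hfix
          have := e'.injective hfix
          have hne : ∀ k : Fin 3, k + 1 ≠ k := by decide
          exact hne a this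
      rw [heq]
      exact mul_mem (mul_mem hσK (ih _ (hk ▸ hlt) e' he' rfl)) (inv_mem hσK)

theorem cyc_eq_dbl_mul : cyc (⟨![0, 1, 2], by decide⟩ : Fin 3 ↪ Fin 5) =
    dbl ⟨![0, 1, 3, 4], by decide⟩ * dbl ⟨![3, 4, 1, 2], by decide⟩ := by decide

/-- A three-cycle is a product of double transpositions on five points. -/
theorem cyc_mem_closure_dbl (e : Fin 5 ↪ α) :
    cyc ((⟨![0, 1, 2], by decide⟩ : Fin 3 ↪ Fin 5).trans e) ∈
      Subgroup.closure {g | ∃ f : Fin 4 ↪ α, pts f ⊆ pts e ∧ g = dbl f} := by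
  rw [cyc, altExt_trans, ← cyc, cyc_eq_dbl_mul, map_mul, dbl, dbl, ← altExt_trans, ← altExt_trans]
  refine mul_mem (Subgroup.subset_closure ⟨_, ?_, rfl⟩) (Subgroup.subset_closure ⟨_, ?_, rfl⟩) <;>
  · intro a ha
    obtain ⟨i, rfl⟩ := mem_pts.1 ha
    exact mem_pts.2 ⟨_, rfl⟩

theorem exists_emb5 (e : Fin 3 ↪ α) {a b : α} (hab : a ≠ b) (ha : a ∉ pts e) (hb : b ∉ pts e) :
    ∃ f : Fin 5 ↪ α, (⟨![0, 1, 2], by decide⟩ : Fin 3 ↪ Fin 5).trans f = e ∧
      pts f ⊆ insert a (insert b (pts e)) := by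
  have ha' : ∀ i, e i ≠ a := fun i h => ha (mem_pts.2 ⟨i, h⟩)
  have hb' : ∀ i, e i ≠ b := fun i h => hb (mem_pts.2 ⟨i, h⟩)
  let f : Fin 5 → α := ![e 0, e 1, e 2, a, b]
  have hf : Function.Injective f := by
    intro i j hij
    fin_cases i <;> fin_cases j <;>
      simp [f, ha', hb', fun i => (ha' i).symm, fun i => (hb' i).symm, hab, hab.symm] at hij ⊢
  refine ⟨⟨f, hf⟩, Function.Embedding.ext fun i => ?_, fun x hx => ?_⟩
  · fin_cases i <;> rfl
  · obtain ⟨i, rfl⟩ := mem_pts.1 hx
    fin_cases i <;> simp [f, mem_pts]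

theorem altOn_le_closure_dbl {M : Finset α} (hM : 5 ≤ M.card) :
    altOn M ≤ Subgroup.closure {g | ∃ f : Fin 4 ↪ α, pts f ⊆ M ∧ g = dbl f} := by
  refine (altOn_le_closure_cyc M).trans ((Subgroup.closure_le _).2 ?_)
  rintro _ ⟨e, he, rfl⟩
  have h2 : 1 < (M \ pts e).card := by
    have := Finset.le_card_sdiff (pts e) M
    rw [card_pts] at this
    omega
  obtain ⟨a, ha, b, hb, hab⟩ := Finset.one_lt_card.1 h2
  rw [Finset.mem_sdiff] at ha hb
  obtain ⟨f, hf, hfM⟩ := exists_emb5 e hab ha.2 hb.2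
  rw [← hf]
  refine Subgroup.closure_mono ?_ (cyc_mem_closure_dbl f)
  rintro _ ⟨g, hg, rfl⟩
  exact ⟨g, hg.trans (hfM.trans (Finset.insert_subset ha.1 (Finset.insert_subset hb.1 he))), rfl⟩

theorem injective_of_apply_ne_one {H : Type*} [MulOneClass H] (h5 : 5 ≤ Fintype.card α)
    (φ : alternatingGroup α →* H) {g : alternatingGroup α} (hg : φ g ≠ 1) :
    ∀ x, φ x = 1 → x = 1 := by
  haveI := alternatingGroup.isSimpleGroup (α := α) (by rwa [Nat.card_eq_fintype_card])
  intro x hx
  rcases IsSimpleGroup.eq_bot_or_eq_top_of_normal φ.ker inferInstance with h | h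
  · have : x ∈ φ.ker := hx
    rwa [h, Subgroup.mem_bot] at this
  · exact absurd (show g ∈ φ.ker from h ▸ Subgroup.mem_top g) (fun h => hg h)

theorem center_trivial (h5 : 4 ≤ Fintype.card α) {x : alternatingGroup α}
    (h : ∀ g, g * x = x * g) : x = 1 := by
  have : x ∈ Subgroup.center (alternatingGroup α) := Subgroup.mem_center_iff.2 h
  rwa [alternatingGroup.center_eq_bot (by rwa [Nat.card_eq_fintype_card]), Subgroup.mem_bot] at this

end Cfsg.Agent.AltSection
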