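import Cfsg.Agent.Lib.AltSection.Basic
import Cfsg.Agent.Lib.AltSection.Combi

/-!
Shared lemmas for the growth argument.
-/

set_option autoImplicit false
set_option linter.unusedSectionVars false

namespace Cfsg.Agent.AltSection

open Equiv Module

variable {α : Type*} [Fintype α] [DecidableEq α]
variable {k V : Type*} [Field k] [AddCommGroup V] [Module k V]

section General

variable {G : Type*} [Group G] (ρ : G →* Module.End k V)

theorem fix_of_mem_closure {s : Set G} {w : V} (h : ∀ g ∈ s, ρ g w = w) {g : G}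
    (hg : g ∈ Subgroup.closure s) : ρ g w = w := by
  induction hg using Subgroup.closure_induction with
  | mem x hx => exact h x hx
  | one => exact rho_one ρ w
  | mul x y _ _ hx hy => rw [rho_mul, hy, hx]
  | inv x _ hx => conv_lhs => rw [← hx]
                  exact rho_inv_apply ρ x w

/-- `(h - 1) (g - 1) = 0` for commuting elements is symmetric. -/
theorem fix_moved_comm {g h : G} (hc : g * h = h * g) (hh : ∀ w ∈ moved ρ g, ρ h w = w) :
    ∀ w ∈ moved ρ h, ρ g w = w := by
  intro w hw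
  obtain ⟨v, rfl⟩ := (mem_moved ρ).1 hw
  have h1 := hh _ (sub_mem_moved ρ g v)
  have h2 : ρ h (ρ g v) = ρ g (ρ h v) := by rw [← rho_mul, ← rho_mul, hc]
  rw [map_sub, h2] at h1
  rw [map_sub]
  calc ρ g (ρ h v) - ρ g v = (ρ g v - v + ρ h v) - ρ g v := by rw [← h1]; abel
    _ = ρ h v - v := by abel

end General

theorem commute_of_disjoint {M N : Finset α} (h : Disjoint M N) {g x : alternatingGroup α}
    (hg : g ∈ altOn M) (hx : x ∈ altOn N) : g * x = x * g := by
  refine Subtype.ext (Perm.Disjoint.commute fun a => ?_)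
  by_contra hcon
  push Not at hcon
  exact Finset.disjoint_left.1 h (mem_altOn.1 hg a hcon.1) (mem_altOn.1 hx a hcon.2)

theorem altExt_commute_altOn {m : ℕ} (e : Fin m ↪ α) {M : Finset α} (h : Disjoint (pts e) M)
    (x : alternatingGroup (Fin m)) {g : alternatingGroup α} (hg : g ∈ altOn M) :
    g * altExt e x = altExt e x * g :=
  (commute_of_disjoint h (altExt_mem_altOn subset_rfl x) hg).symm

variable (ρ : alternatingGroup α →* Module.End k V)

/-- The space moved by the even permutations supported in `M`. -/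
def Sb (M : Finset α) : Submodule k V := bracket ρ (altOn M : Set (alternatingGroup α))

theorem Sb_le_of_closure {M : Finset α} {s : Set (alternatingGroup α)}
    (h : altOn M ≤ Subgroup.closure s) : Sb ρ M ≤ bracket ρ s :=
  bracket_le ρ fun _ hg => moved_le_bracket_of_mem_closure ρ (h hg)

theorem Sb_mono {M N : Finset α} (h : M ⊆ N) : Sb ρ M ≤ Sb ρ N :=
  bracket_mono ρ fun _ hg => altOn_mono h hg

theorem moved_le_Sb {M : Finset α} {g : alternatingGroup α} (hg : g ∈ altOn M) :
    moved ρ g ≤ Sb ρ M := moved_le_bracket ρ hg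

theorem map_Sb (g : alternatingGroup α) (M : Finset α) :
    (Sb ρ M).map (ρ g) = Sb ρ (M.map (g : Perm α).toEmbedding) := by
  rw [Sb, map_bracket, Sb]
  congr 1
  ext x
  constructor
  · rintro ⟨y, hy, rfl⟩; exact conj_mem_altOn hy
  · intro hx
    refine ⟨g⁻¹ * x * g, ?_, by group⟩
    have h := conj_mem_altOn (g := g⁻¹) hx
    rw [inv_inv, Finset.map_map] at h
    have e : M.map ((g : Perm α).toEmbedding.trans
        ((g⁻¹ : alternatingGroup α) : Perm α).toEmbedding) = M := by
      ext y; simp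
    rwa [e] at h

/-- An element supported outside `M` moving one point to another. -/
theorem exists_move_outside {M : Finset α} (hM : 3 ≤ Mᶜ.card) {a b : α} (ha : a ∉ M) (hb : b ∉ M) :
    ∃ g : alternatingGroup α, g ∈ altOn Mᶜ ∧ (g : Perm α) a = b ∧
      M.map (g : Perm α).toEmbedding = M := by
  rcases eq_or_ne a b with rfl | hab
  · exact ⟨1, one_mem _, rfl, by ext y; simp [Equiv.Perm.one_def]⟩
  obtain ⟨c, hc, hc'⟩ : ∃ c, c ∈ Mᶜ ∧ c ∉ ({a, b} : Finset α) := by
    have h2 : ({a, b} : Finset α).card ≤ 2 := Finset.card_le_two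
    have := Finset.le_card_sdiff ({a, b} : Finset α) Mᶜ
    obtain ⟨c, hc⟩ := Finset.card_pos.1 (show 0 < (Mᶜ \ ({a, b} : Finset α)).card by omega)
    exact ⟨c, Finset.mem_sdiff.1 hc⟩
  simp only [Finset.mem_insert, Finset.mem_singleton, not_or] at hc'
  have hfix : ∀ y ∈ M, (cyc (emb3 a b c hab (Ne.symm hc'.1) (Ne.symm hc'.2)) : Perm α) y = y :=
    fun y hy => cyc_apply_of_notMem _ (by
      rw [pts_emb3, Finset.mem_insert, Finset.mem_insert, Finset.mem_singleton]
      rintro (rfl | rfl | rfl)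
      exacts [ha hy, hb hy, Finset.mem_compl.1 hc hy])
  refine ⟨_, ?_, cyc_apply (emb3 a b c hab (Ne.symm hc'.1) (Ne.symm hc'.2)) 0, ?_⟩
  · refine altExt_mem_altOn ?_ _
    rw [pts_emb3]
    intro y hy
    simp only [Finset.mem_insert, Finset.mem_singleton] at hy
    rcases hy with rfl | rfl | rfl
    exacts [Finset.mem_compl.2 ha, Finset.mem_compl.2 hb, hc]
  · ext y
    rw [Finset.mem_map]
    exact ⟨fun ⟨z, hz, hzy⟩ => by rw [← hzy, Equiv.coe_toEmbedding, hfix z hz]; exact hz,
      fun hy => ⟨y, hy, hfix y hy⟩⟩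

/-- The growth step. -/
theorem Sb_ne_insert {M : Finset α} (hM : 3 ≤ M.card) (hout : 3 ≤ Mᶜ.card) {a : α} (ha : a ∉ M)
    {h : alternatingGroup α} {m : ℕ} (hm : h ^ m = 1) (hmk : (m : k) ≠ 0) (hne : ρ h ≠ 1)
    (hfix : ∀ w ∈ Sb ρ M, ρ h w = w) : Sb ρ M ≠ Sb ρ (insert a M) := by
  intro heq
  have hall : ∀ b, b ∉ M → Sb ρ (insert b M) ≤ Sb ρ M := by
    intro b hb
    obtain ⟨g, -, hgab, hgM⟩ := exists_move_outside hout ha hb
    have h1 := congrArg (Submodule.map (ρ g)) heq
    rw [map_Sb, map_Sb, Finset.map_insert, hgM, Equiv.coe_toEmbedding, hgab] at h1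
    exact h1.ge
  have hssub : M ⊂ Finset.univ := Finset.ssubset_univ_iff.2 fun h => ha (h ▸ Finset.mem_univ a)
  have hclos : altOn (Finset.univ : Finset α) ≤
      Subgroup.closure (⋃ b ∈ {b | b ∉ M}, (altOn (insert b M) : Set (alternatingGroup α))) :=
    altOn_le_of_insert hM hssub fun b _ hb g hg =>
      Subgroup.subset_closure (Set.mem_biUnion (show b ∈ {b | b ∉ M} from hb) hg)
  have htop : moved ρ h ≤ Sb ρ M := by
    refine (moved_le_bracket_of_mem_closure ρ (hclos (by rw [altOn_univ]; trivial))).trans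
      (bracket_le ρ fun g hg => ?_)
    obtain ⟨b, hb, hg⟩ := Set.mem_iUnion₂.1 hg
    exact (moved_le_Sb ρ hg).trans (hall b hb)
  refine hne (LinearMap.ext fun v => sub_eq_zero.1 ?_)
  exact eq_zero_of_moved_of_fixed ρ hm hmk (sub_mem_moved ρ h v) (hfix _ (htop (sub_mem_moved ρ h v)))

/-- Growth along a chain. -/
theorem Sb_chain [FiniteDimensional k V] {N : Finset α}
    (hstep : ∀ M : Finset α, 3 ≤ M.card → M ⊂ N → ∀ a, a ∉ M → Sb ρ M ≠ Sb ρ (insert a M))
    {M : Finset α} (hM : 3 ≤ M.card) (hMN : M ⊆ N) :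
    finrank k (Sb ρ M) + (N.card - M.card) ≤ finrank k (Sb ρ N) := by
  induction hk : N.card - M.card generalizing M with
  | zero => simpa using Submodule.finrank_mono (Sb_mono ρ hMN)
  | succ j ih =>
    have hss : M ⊂ N := hMN.ssubset_of_ne fun h => by subst h; omega
    obtain ⟨a, haN, haM⟩ := Finset.exists_of_ssubset hss
    have h1 := finrank_lt_of_lt' (Sb_mono ρ (Finset.subset_insert a M)) (hstep M hM hss a haM)
    have hc := Finset.card_insert_of_notMem haM
    have h2 := ih (M := insert a M) (by omega) (Finset.insert_subset haN hMN) (by omega)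
    omega

/-- The embedding `0, 1, 2`. -/
def e012 : Fin 3 ↪ Fin 4 := ⟨![0, 1, 2], by decide⟩

/-- The embedding `0, 1, 3`. -/
def e013 : Fin 3 ↪ Fin 4 := ⟨![0, 1, 3], by decide⟩

theorem altOn_four_le (e : Fin 4 ↪ α) :
    altOn (pts e) ≤ Subgroup.closure
      ({cyc (e012.trans e),
        cyc (e013.trans e)} : Set (alternatingGroup α)) := by
  have key : ∀ g : alternatingGroup (Fin 4), ∃ a b c : Fin 3,
      g = altExt e012 c3 ^ a.val *
        altExt e013 c3 ^ b.val *
        altExt e012 c3 ^ c.val := by decide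
  refine (altOn_le_closure_cyc _).trans ((Subgroup.closure_le _).2 ?_)
  rintro _ ⟨f, hf, rfl⟩
  have hf' : ∀ i, ∃ j, e j = f i := fun i => mem_pts.1 (hf (mem_pts.2 ⟨i, rfl⟩))
  choose σ hσ using hf'
  have hσi : Function.Injective σ := fun i j hij => f.injective (by rw [← hσ i, ← hσ j, hij])
  have he : f = (⟨σ, hσi⟩ : Fin 3 ↪ Fin 4).trans e := Function.Embedding.ext fun i => (hσ i).symm
  obtain ⟨a, b, c, hg⟩ := key (altExt ⟨σ, hσi⟩ c3)
  have hfe : cyc f = altExt e (altExt ⟨σ, hσi⟩ c3) := by rw [he, cyc, altExt_trans]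
  rw [SetLike.mem_coe, hfe, hg, map_mul, map_mul, map_pow, map_pow, map_pow, ← altExt_trans,
    ← altExt_trans]
  refine mul_mem (mul_mem (pow_mem (Subgroup.subset_closure ?_) _)
    (pow_mem (Subgroup.subset_closure ?_) _)) (pow_mem (Subgroup.subset_closure ?_) _)
  exacts [Or.inl rfl, Or.inr rfl, Or.inl rfl]

end Cfsg.Agent.AltSection
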