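import Cfsg.Agent.Lib.AltSection.Basic
import Cfsg.Agent.Lib.AltSection.Combi

/-!
A representation of an alternating group in which every three-cycle moves a plane and any two
adjacent planes meet in a line comes from the natural module.
-/

set_option autoImplicit false
set_option linter.unusedSectionVars false

namespace Cfsg.Agent.AltSection

open Equiv Module

variable {α : Type*} [Fintype α] [DecidableEq α]
variable {k V : Type*} [Field k] [AddCommGroup V] [Module k V] [FiniteDimensional k V]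
variable (ρ : alternatingGroup α →* Module.End k V)

/-- The space moved by the three-cycles with support `Q`. -/
def plane (Q : Finset α) : Submodule k V :=
  bracket ρ {g | ∃ e : Fin 3 ↪ α, pts e = Q ∧ g = cyc e}

theorem plane_eq (e : Fin 3 ↪ α) : plane ρ (pts e) = moved ρ (cyc e) := by
  refine le_antisymm (bracket_le ρ ?_) (moved_le_bracket ρ ⟨e, rfl, rfl⟩)
  rintro _ ⟨f, hf, rfl⟩
  rcases cyc_eq_or_inv hf.symm with h | h <;> rw [h]
  rw [moved_inv]

theorem map_plane (g : alternatingGroup α) (Q : Finset α) :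
    (plane ρ Q).map (ρ g) = plane ρ (Q.map (g : Perm α).toEmbedding) := by
  rw [plane, map_bracket, plane]
  congr 1
  ext x
  constructor
  · rintro ⟨_, ⟨e, rfl, rfl⟩, rfl⟩
    exact ⟨moveEmb g e, pts_moveEmb g e, cyc_conj g e⟩
  · rintro ⟨e, he, rfl⟩
    refine ⟨g⁻¹ * cyc e * g, ⟨moveEmb g⁻¹ e, ?_, by
      rw [show g⁻¹ * cyc e * g = g⁻¹ * cyc e * (g⁻¹)⁻¹ by rw [inv_inv], cyc_conj]⟩, by group⟩
    rw [pts_moveEmb, he, Finset.map_map]
    ext y
    simp

theorem eq_of_mem_line {A B : Submodule k V} (hA : finrank k A = 1) (hB : finrank k B = 1) {w : V}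
    (hwA : w ∈ A) (hwB : w ∈ B) (hw : w ≠ 0) : A = B := by
  have h1 : Submodule.span k {w} = A := Submodule.eq_of_le_of_finrank_le
    (Submodule.span_le.2 (by simpa using hwA)) (by rw [hA, finrank_span_singleton hw])
  have h2 : Submodule.span k {w} = B := Submodule.eq_of_le_of_finrank_le
    (Submodule.span_le.2 (by simpa using hwB)) (by rw [hB, finrank_span_singleton hw])
  rw [← h1, h2]

/-- The hypotheses. -/
structure Geometry : Prop where
  dim : ∀ e : Fin 3 ↪ α, finrank k (moved ρ (cyc e)) = 2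
  dim4 : ∀ a b c d : α, [a, b, c, d].Nodup →
    finrank k (plane ρ {a, b, c} ⊔ plane ρ {a, b, d} : Submodule k V) = 3
  dim5 : ∀ a b c d e : α, [a, b, c, d, e].Nodup →
    plane ρ {a, b, c} ⊔ plane ρ {a, b, d} ≠ plane ρ {a, b, c} ⊔ plane ρ {a, b, e}
  nofix : ∀ (e : Fin 3 ↪ α) (v : V), v ∈ moved ρ (cyc e) → (∀ g, ρ g v = v) → v = 0

variable {ρ} (H : Geometry ρ)

include H

theorem plane_dim {a b c : α} (hab : a ≠ b) (hac : a ≠ c) (hbc : b ≠ c) :
    finrank k (plane ρ {a, b, c}) = 2 := by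
  rw [← pts_emb3 hab hac hbc, plane_eq]; exact H.dim _

theorem inter_dim {a b c d : α} (h : [a, b, c, d].Nodup) :
    finrank k (plane ρ {a, b, c} ⊓ plane ρ {a, b, d} : Submodule k V) = 1 := by
  have h4 := H.dim4 a b c d h
  simp only [List.nodup_cons, List.mem_cons, List.not_mem_nil, or_false, not_or] at h
  obtain ⟨⟨hab, hac, had⟩, ⟨hbc, hbd⟩, hcd, -⟩ := h
  have h1 := plane_dim H hab hac hbc
  have h2 := plane_dim H hab had hbd
  have := Submodule.finrank_sup_add_finrank_inf_eq (plane ρ {a, b, c}) (plane ρ {a, b, d})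
  omega

theorem inter_le {a b c d e : α} (h : [a, b, c, d, e].Nodup) :
    plane ρ {a, b, c} ⊓ plane ρ {a, b, d} ≤ plane ρ {a, b, e} := by
  have hne := H.dim5 a b c d e h
  simp only [List.nodup_cons, List.mem_cons, List.not_mem_nil, or_false, not_or] at h
  obtain ⟨⟨hab, hac, had, hae⟩, ⟨hbc, hbd, hbe⟩, ⟨hcd, hce⟩, hde, -⟩ := h
  have hC := plane_dim H hab hac hbc
  have hce' := inter_dim H (a := a) (b := b) (c := c) (d := e) (by simp [*])
  have hcd' := inter_dim H (a := a) (b := b) (c := c) (d := d) (by simp [*])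
  have h4d := H.dim4 a b c d (by simp [*])
  have h4e := H.dim4 a b c e (by simp [*])
  have h4de := H.dim4 a b d e (by simp [*])
  set Pc := plane ρ {a, b, c}
  set Pd := plane ρ {a, b, d}
  set Pe := plane ρ {a, b, e}
  by_contra hcon
  have hlt : Pc ⊓ Pd ≠ Pc ⊓ Pe := fun h => hcon (h.le.trans inf_le_right)
  have hsum : (Pc ⊓ Pd) ⊔ (Pc ⊓ Pe) = Pc := by
    refine Submodule.eq_of_le_of_finrank_le (sup_le inf_le_left inf_le_left) ?_
    have h0 : finrank k (Pc ⊓ Pd : Submodule k V) < finrank k ((Pc ⊓ Pd) ⊔ (Pc ⊓ Pe) : Submodule k V) := by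
      refine finrank_lt_of_lt' le_sup_left fun h => hlt ?_
      exact (Submodule.eq_of_le_of_finrank_le (h ▸ le_sup_right) (by omega)).symm
    omega
  have hcle : Pc ≤ Pd ⊔ Pe := hsum.symm.le.trans (sup_le_sup inf_le_right inf_le_right)
  refine hne ?_
  rw [Submodule.eq_of_le_of_finrank_le (sup_le hcle le_sup_left : Pc ⊔ Pd ≤ Pd ⊔ Pe) (by omega),
    Submodule.eq_of_le_of_finrank_le (sup_le hcle le_sup_right : Pc ⊔ Pe ≤ Pd ⊔ Pe) (by omega)]

omit H

variable (ρ) in
/-- The common line of the planes through two points. -/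
def lin (a b : α) : Submodule k V :=
  ⨅ c : {c : α // c ≠ a ∧ c ≠ b}, plane ρ {a, b, (c : α)}

theorem lin_le {a b c : α} (hca : c ≠ a) (hcb : c ≠ b) : lin ρ a b ≤ plane ρ {a, b, c} :=
  iInf_le (fun c : {c : α // c ≠ a ∧ c ≠ b} => plane ρ {a, b, (c : α)}) ⟨c, hca, hcb⟩

theorem lin_comm (a b : α) : lin ρ a b = lin ρ b a := by
  refine le_antisymm (le_iInf fun c => ?_) (le_iInf fun c => ?_) <;>
  · rw [Finset.insert_comm]
    exact lin_le c.2.2 c.2.1

theorem lin_le_left {a b c : α} (hca : c ≠ a) (hcb : c ≠ b) :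
    lin ρ a b ≤ plane ρ {c, a, b} := by
  rw [Finset.insert_comm c a, Finset.pair_comm c b]; exact lin_le hca hcb

theorem map_lin_le (g : alternatingGroup α) (a b : α) :
    (lin ρ a b).map (ρ g) ≤ lin ρ ((g : Perm α) a) ((g : Perm α) b) := by
  refine le_iInf fun c => ?_
  obtain ⟨c', hc'⟩ := (g : Perm α).surjective c
  have h := map_plane ρ g {a, b, c'}
  simp only [Finset.map_insert, Finset.map_singleton, Equiv.coe_toEmbedding, hc'] at h
  rw [← h]
  refine Submodule.map_mono (lin_le ?_ ?_)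
  · intro e; exact c.2.1 (by rw [← hc', e])
  · intro e; exact c.2.2 (by rw [← hc', e])

variable (hcard : 9 ≤ Fintype.card α)
include H hcard

theorem lin_eq {a b c d : α} (h : [a, b, c, d].Nodup) :
    lin ρ a b = plane ρ {a, b, c} ⊓ plane ρ {a, b, d} := by
  have h' := h
  simp only [List.nodup_cons, List.mem_cons, List.not_mem_nil, or_false, not_or] at h'
  obtain ⟨⟨hab, hac, had⟩, ⟨hbc, hbd⟩, hcd, -⟩ := h'
  refine le_antisymm (le_inf (lin_le (Ne.symm hac) (Ne.symm hbc)) (lin_le (Ne.symm had) (Ne.symm hbd)))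
    (le_iInf fun e => ?_)
  by_cases hec : (e : α) = c
  · rw [hec]; exact inf_le_left
  by_cases hed : (e : α) = d
  · rw [hed]; exact inf_le_right
  exact inter_le H (by simp [*, eq_comm, e.2.1, e.2.2, Ne.symm e.2.1, Ne.symm e.2.2, Ne.symm hec,
    Ne.symm hed])

theorem exists_two {a b : α} (hab : a ≠ b) : ∃ c d, [a, b, c, d].Nodup := by
  have h : 1 < (({a, b} : Finset α)ᶜ).card := by
    rw [Finset.card_compl, Finset.card_pair hab]; omega
  obtain ⟨c, hc, d, hd, hcd⟩ := Finset.one_lt_card.1 h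
  simp only [Finset.mem_compl, Finset.mem_insert, Finset.mem_singleton, not_or] at hc hd
  exact ⟨c, d, by simp [hab, hcd, Ne.symm hc.1, Ne.symm hc.2, Ne.symm hd.1, Ne.symm hd.2]⟩

theorem lin_dim {a b : α} (hab : a ≠ b) : finrank k (lin ρ a b) = 1 := by
  obtain ⟨c, d, h⟩ := exists_two H hcard hab
  rw [lin_eq H hcard h]; exact inter_dim H h

theorem map_lin {a b : α} (g : alternatingGroup α) (hab : a ≠ b) :
    (lin ρ a b).map (ρ g) = lin ρ ((g : Perm α) a) ((g : Perm α) b) :=
  Submodule.eq_of_le_of_finrank_le (map_lin_le g a b)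
    (by rw [finrank_map_rho, lin_dim H hcard hab, lin_dim H hcard fun h => hab ((g : Perm α).injective h)])

theorem lin_ne {a b c : α} (hab : a ≠ b) (hac : a ≠ c) (hbc : b ≠ c) :
    lin ρ a b ≠ lin ρ a c := by
  intro heq
  have hadj : ∀ x y z : α, x ≠ y → x ≠ z → y ≠ z → lin ρ x y = lin ρ x z := by
    intro x y z hxy hxz hyz
    obtain ⟨g, hg⟩ := exists_move (m := 3) (by omega) (emb3 a b c hab hac hbc)
      (emb3 x y z hxy hxz hyz)
    have h0 : (g : Perm α) a = x := congrArg (fun f : Fin 3 ↪ α => f 0) hg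
    have h1 : (g : Perm α) b = y := congrArg (fun f : Fin 3 ↪ α => f 1) hg
    have h2 : (g : Perm α) c = z := congrArg (fun f : Fin 3 ↪ α => f 2) hg
    have := congrArg (Submodule.map (ρ g)) heq
    rwa [map_lin H hcard g hab, map_lin H hcard g hac, h0, h1, h2] at this
  have hall : ∀ x y : α, x ≠ y → lin ρ x y = lin ρ a b := by
    intro x y hxy
    have h1 : ∀ y, a ≠ y → lin ρ a y = lin ρ a b := fun y hy => by
      rcases eq_or_ne y b with rfl | h
      · rfl
      · exact hadj a y b hy hab h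
    rcases eq_or_ne x a with rfl | hxa
    · exact h1 y hxy
    rcases eq_or_ne y a with rfl | hya
    · rw [lin_comm]; exact h1 x (Ne.symm hxa)
    rw [hadj x y a hxy hxa hya, lin_comm]; exact h1 x (Ne.symm hxa)
  obtain ⟨v, hv, hv0⟩ := (lin ρ a b).exists_mem_ne_zero_of_ne_bot fun h => by
    have := lin_dim H hcard hab; rw [h, finrank_bot] at this; omega
  have hscal : ∀ g : alternatingGroup α, ∃ μ : k, ρ g v = μ • v := by
    intro g
    have hmem : ρ g v ∈ lin ρ a b := by
      rw [← hall _ _ fun h => hab ((g : Perm α).injective h), ← map_lin H hcard g hab]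
      exact Submodule.mem_map_of_mem hv
    obtain ⟨μ, hμ⟩ := (finrank_eq_one_iff_of_nonzero' (⟨v, hv⟩ : lin ρ a b)
      (by simpa using hv0)).1 (lin_dim H hcard hab) ⟨_, hmem⟩
    exact ⟨μ, (congrArg Subtype.val hμ).symm⟩
  choose χ hχ using hscal
  have hmul : ∀ g h, χ (g * h) = χ g * χ h := fun g h => smul_left_injective k hv0 <| by
    show χ (g * h) • v = (χ g * χ h) • v
    rw [← hχ, rho_mul, hχ, map_smul, hχ, smul_smul, mul_comm]
  have hne : ∀ g, χ g ≠ 0 := fun g h => hv0 <| rho_injective_apply ρ g <| by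
    rw [hχ, h, zero_smul, map_zero]
  have hcycfix : ∀ e : Fin 3 ↪ α, ρ (cyc e) v = v := by
    intro e
    obtain ⟨g, hg⟩ := exists_move (m := 3) (by omega) e
      (emb3 (e 0) (e 2) (e 1) (e.injective.ne (by decide)) (e.injective.ne (by decide))
        (e.injective.ne (by decide)))
    have hinv : g * cyc e * g⁻¹ = (cyc e)⁻¹ := by
      rw [cyc_conj, hg]
      have : emb3 (e 0) (e 2) (e 1) (e.injective.ne (by decide)) (e.injective.ne (by decide))
          (e.injective.ne (by decide)) = (⟨![0, 2, 1], by decide⟩ : Fin 3 ↪ Fin 3).trans e :=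
        Function.Embedding.ext fun i => by fin_cases i <;> rfl
      rw [this, cyc, altExt_trans, cyc, ← map_inv]
      exact congrArg _ (by decide)
    have h1 : χ 1 = 1 := smul_left_injective k hv0 <| by
      show χ 1 • v = (1 : k) • v; rw [← hχ, rho_one, one_smul]
    have h2 : χ (cyc e) ^ 2 = 1 := by
      have h := congrArg χ hinv
      rw [hmul, hmul] at h
      have h' : χ g * χ g⁻¹ = 1 := by rw [← hmul, mul_inv_cancel, h1]
      have h'' : χ (cyc e) * χ (cyc e)⁻¹ = 1 := by rw [← hmul, mul_inv_cancel, h1]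
      rw [sq]
      calc χ (cyc e) * χ (cyc e) = χ (cyc e) * (χ g * χ (cyc e) * χ g⁻¹) := by
            rw [mul_comm (χ g), mul_assoc (χ (cyc e)) (χ g), h', mul_one]
        _ = χ (cyc e) * χ (cyc e)⁻¹ := by rw [h]
        _ = 1 := h''
    have h3 : χ (cyc e) ^ 3 = 1 := by
      rw [show χ (cyc e) ^ 3 = χ (cyc e ^ 3) by rw [pow_succ, sq, pow_succ, sq, hmul, hmul],
        cyc_pow_three, h1]
    have : χ (cyc e) = 1 := by rw [pow_succ, h2, one_mul] at h3; exact h3
    rw [hχ, this, one_smul]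
  have hfix : ∀ g, ρ g v = v := by
    intro g
    have hg : g ∈ altOn (Finset.univ : Finset α) := by rw [altOn_univ]; trivial
    have hg' := altOn_le_closure_cyc _ hg
    induction hg' using Subgroup.closure_induction with
    | mem x hx => obtain ⟨e, -, rfl⟩ := hx; exact hcycfix e
    | one => exact rho_one ρ v
    | mul x y _ _ hx hy => rw [rho_mul, hy (by rw [altOn_univ]; trivial), hx (by rw [altOn_univ]; trivial)]
    | inv x _ hx =>
      conv_lhs => rw [← hx (by rw [altOn_univ]; trivial)]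
      exact rho_inv_apply ρ x v
  obtain ⟨c', hc'⟩ : ∃ c', c' ≠ a ∧ c' ≠ b := ⟨c, Ne.symm hac, Ne.symm hbc⟩
  refine hv0 (H.nofix (emb3 a b c' hab (Ne.symm hc'.1) (Ne.symm hc'.2)) v ?_ hfix)
  rw [← plane_eq, pts_emb3]
  exact lin_le hc'.1 hc'.2 hv

/-- The vectors of the natural module. -/
theorem exists_points : ∃ e : α → V, ∀ i j, i ≠ j → e j - e i ∈ lin ρ i j ∧ e j - e i ≠ 0 := by
  obtain ⟨o⟩ : Nonempty α := Fintype.card_pos_iff.1 (by omega)
  obtain ⟨q, hq⟩ : ∃ q, q ≠ o := Fintype.exists_ne_of_one_lt_card (by omega) o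
  obtain ⟨f2, hf2, hf20⟩ := (lin ρ o q).exists_mem_ne_zero_of_ne_bot fun h => by
    have := lin_dim H hcard (Ne.symm hq); rw [h, finrank_bot] at this; omega
  have hsplit : ∀ i, i ≠ o → i ≠ q → ∃ u, u ∈ lin ρ o i ∧ u - f2 ∈ lin ρ q i ∧ u ≠ 0 := by
    intro i hio hiq
    obtain ⟨w, hw, hw0⟩ := (lin ρ q i).exists_mem_ne_zero_of_ne_bot fun h => by
      have := lin_dim H hcard (Ne.symm hiq); rw [h, finrank_bot] at this; omega
    have hne := lin_ne H hcard (Ne.symm hq) (Ne.symm hio) (Ne.symm hiq)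
    have hP := plane_dim H (Ne.symm hq) (Ne.symm hio) (Ne.symm hiq)
    have hle : lin ρ o q ⊔ lin ρ o i ≤ plane ρ {o, q, i} := sup_le (lin_le hio hiq)
      (by rw [Finset.pair_comm q i]; exact lin_le hq (Ne.symm hiq))
    have hsum : lin ρ o q ⊔ lin ρ o i = plane ρ {o, q, i} := by
      refine Submodule.eq_of_le_of_finrank_le hle ?_
      have h0 : finrank k (lin ρ o q) < finrank k (lin ρ o q ⊔ lin ρ o i : Submodule k V) := by
        refine finrank_lt_of_lt' le_sup_left fun h => hne ?_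
        exact (Submodule.eq_of_le_of_finrank_le (h ▸ le_sup_right)
          (by rw [lin_dim H hcard (Ne.symm hq), lin_dim H hcard (Ne.symm hio)])).symm
      rw [lin_dim H hcard (Ne.symm hq)] at h0
      omega
    have hw' : w ∈ lin ρ o q ⊔ lin ρ o i := by
      rw [hsum]; exact lin_le_left (Ne.symm hq) (Ne.symm hio) hw
    obtain ⟨A, hA, B, hB, hAB⟩ := Submodule.mem_sup.1 hw'
    obtain ⟨t, ht⟩ := (finrank_eq_one_iff_of_nonzero' (⟨f2, hf2⟩ : lin ρ o q)
      (by simpa using hf20)).1 (lin_dim H hcard (Ne.symm hq)) ⟨A, hA⟩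
    have hA' : A = t • f2 := (congrArg Subtype.val ht).symm
    have ht0 : t ≠ 0 := by
      intro h
      rw [hA', h, zero_smul, zero_add] at hAB
      subst hAB
      refine lin_ne H hcard hio hiq (Ne.symm hq) ?_
      rw [lin_comm i o, lin_comm i q]
      refine eq_of_mem_line (lin_dim H hcard (Ne.symm hio)) (lin_dim H hcard (Ne.symm hiq)) hB hw hw0
    have hB0 : B ≠ 0 := by
      intro h
      rw [h, add_zero] at hAB
      subst hAB
      refine lin_ne H hcard hq (Ne.symm hiq) (Ne.symm hio) ?_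
      rw [lin_comm q o]
      exact eq_of_mem_line (lin_dim H hcard (Ne.symm hq)) (lin_dim H hcard (Ne.symm hiq)) hA hw hw0
    refine ⟨-(t⁻¹ • B), neg_mem (Submodule.smul_mem _ _ hB), ?_, ?_⟩
    · have hs : -(t⁻¹ • B) - f2 = -(t⁻¹ • w) := by
        rw [← hAB, hA', smul_add, smul_smul, inv_mul_cancel₀ ht0, one_smul]; abel
      rw [hs]; exact neg_mem (Submodule.smul_mem _ _ hw)
    · exact neg_ne_zero.2 (smul_ne_zero (inv_ne_zero ht0) hB0)
  choose u hu1 hu2 hu3 using hsplit
  classical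
  let e : α → V := fun i => if ho : i = o then 0 else if hq' : i = q then f2 else u i ho hq'
  have heo : e o = 0 := dif_pos rfl
  have he1 : ∀ i, i ≠ o → e i ∈ lin ρ o i ∧ e i ≠ 0 := fun i hi => by
    by_cases h : i = q
    · subst h; simp only [e, dif_neg hi, dif_pos]; exact ⟨hf2, hf20⟩
    · simp only [e, dif_neg hi, dif_neg h]; exact ⟨hu1 i hi h, hu3 i hi h⟩
  have he2 : ∀ i, i ≠ o → i ≠ q → e i - e q ∈ lin ρ q i := fun i hi h => by
    simp only [e, dif_neg hi, dif_neg h, dif_neg hq, dif_pos]; exact hu2 i hi h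
  refine ⟨e, fun i j hij => ⟨?_, ?_⟩⟩
  · by_cases hio : i = o
    · subst hio; rw [heo, sub_zero]; exact (he1 j (Ne.symm hij)).1
    by_cases hjo : j = o
    · subst hjo; rw [heo, zero_sub, lin_comm]; exact neg_mem (he1 i hio).1
    by_cases hiq : i = q
    · subst hiq; exact he2 j hjo (Ne.symm hij)
    by_cases hjq : j = q
    · subst hjq; rw [lin_comm, ← neg_sub]; exact neg_mem (he2 i hio hiq)
    rw [lin_eq H hcard (c := o) (d := q)
      (by simp [hij, hio, hiq, hjo, hjq, Ne.symm hq])]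
    refine ⟨sub_mem ?_ ?_, ?_⟩
    · exact (lin_le_left hio hij : lin ρ o j ≤ plane ρ {i, o, j}).trans_eq
        (by rw [Finset.pair_comm o j]) (he1 j hjo).1
    · exact (lin_le_left hjo (Ne.symm hij) : lin ρ o i ≤ plane ρ {j, o, i}).trans_eq
        (by rw [Finset.pair_comm o i, Finset.insert_comm]) (he1 i hio).1
    · rw [show e j - e i = (e j - e q) - (e i - e q) by abel]
      refine sub_mem ?_ ?_
      · exact (lin_le_left hiq hij : lin ρ q j ≤ plane ρ {i, q, j}).trans_eq
          (by rw [Finset.pair_comm q j]) (he2 j hjo hjq)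
      · exact (lin_le_left hjq (Ne.symm hij) : lin ρ q i ≤ plane ρ {j, q, i}).trans_eq
          (by rw [Finset.pair_comm q i, Finset.insert_comm]) (he2 i hio hiq)
  · intro h0
    have heq : e j = e i := sub_eq_zero.1 h0
    by_cases hio : i = o
    · subst hio; exact (he1 j (Ne.symm hij)).2 (heq.trans heo)
    by_cases hjo : j = o
    · subst hjo; exact (he1 i hio).2 (heq.symm.trans heo)
    exact lin_ne H hcard (Ne.symm hio) (Ne.symm hjo) hij (eq_of_mem_line
      (lin_dim H hcard (Ne.symm hio)) (lin_dim H hcard (Ne.symm hjo)) (he1 i hio).1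
      (heq ▸ (he1 j hjo).1) (he1 i hio).2)

/-- The main consequence: a small such representation forces the characteristic to divide the
degree. -/
theorem natCast_card_eq_zero (hn : finrank k V + 1 < Fintype.card α) :
    (Fintype.card α : k) = 0 := by
  obtain ⟨e, he⟩ := exists_points H hcard
  obtain ⟨o⟩ : Nonempty α := Fintype.card_pos_iff.1 (by omega)
  have hind : ∀ {i j l : α}, i ≠ j → i ≠ l → j ≠ l → ∀ s t : k,
      s • (e j - e i) + t • (e l - e i) = 0 → s = 0 ∧ t = 0 := by
    intro i j l hij hil hjl s t h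
    have hdisj : Disjoint (lin ρ i j) (lin ρ i l) := by
      rw [Submodule.disjoint_def]
      intro w h1 h2
      by_contra hw
      exact lin_ne H hcard hij hil hjl (eq_of_mem_line (lin_dim H hcard hij)
        (lin_dim H hcard hil) h1 h2 hw)
    have h0 : s • (e j - e i) = 0 := Submodule.disjoint_def.1 hdisj _
      (Submodule.smul_mem _ _ (he i j hij).1) (by
        rw [eq_neg_of_add_eq_zero_left h]; exact neg_mem (Submodule.smul_mem _ _ (he i l hil).1))
    rw [h0, zero_add] at h
    exact ⟨(smul_eq_zero.1 h0).resolve_right (he i j hij).2,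
      (smul_eq_zero.1 h).resolve_right (he i l hil).2⟩
  have hscal : ∀ g : alternatingGroup α, ∃ c : k, c ≠ 0 ∧
      ∀ i, ρ g (e i - e o) = c • (e ((g : Perm α) i) - e ((g : Perm α) o)) := by
    intro g
    have hc : ∀ i j, i ≠ j → ∃ c : k, ρ g (e j - e i) = c • (e ((g : Perm α) j) - e ((g : Perm α) i)) := by
      intro i j hij
      have hij' : (g : Perm α) i ≠ (g : Perm α) j := fun h => hij ((g : Perm α).injective h)
      have hmem : ρ g (e j - e i) ∈ lin ρ ((g : Perm α) i) ((g : Perm α) j) := by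
        rw [← map_lin H hcard g hij]; exact Submodule.mem_map_of_mem (he i j hij).1
      obtain ⟨c, hc⟩ := (finrank_eq_one_iff_of_nonzero'
        (⟨_, (he _ _ hij').1⟩ : lin ρ ((g : Perm α) i) ((g : Perm α) j))
        (by simpa using (he _ _ hij').2)).1 (lin_dim H hcard hij') ⟨_, hmem⟩
      exact ⟨c, (congrArg Subtype.val hc).symm⟩
    choose c hc using hc
    obtain ⟨j₀, hj₀⟩ : ∃ j₀, j₀ ≠ o := Fintype.exists_ne_of_one_lt_card (by omega) o
    refine ⟨c o j₀ (Ne.symm hj₀), ?_, fun i => ?_⟩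
    · intro h
      refine (he o j₀ (Ne.symm hj₀)).2 (rho_injective_apply ρ g ?_)
      rw [hc o j₀ (Ne.symm hj₀), h, zero_smul, map_zero]
    · by_cases hio : i = o
      · subst hio; simp
      by_cases hij₀ : i = j₀
      · subst hij₀; exact hc o i (Ne.symm hj₀)
      rw [hc o i (Ne.symm hio)]
      congr 1
      have hg : ∀ {x y : α}, x ≠ y → (g : Perm α) x ≠ (g : Perm α) y :=
        fun h e => h ((g : Perm α).injective e)
      have e1 := hc o i (Ne.symm hio)
      have e2 := hc o j₀ (Ne.symm hj₀)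
      have e3 := hc i j₀ hij₀
      have hsum : ρ g (e j₀ - e i) = ρ g (e j₀ - e o) - ρ g (e i - e o) := by
        rw [← map_sub]; congr 1; abel
      rw [e1, e2, e3] at hsum
      set A := c i j₀ hij₀
      set B := c o j₀ (Ne.symm hj₀)
      set C := c o i (Ne.symm hio)
      have hfinal : (A - B) • (e ((g : Perm α) j₀) - e ((g : Perm α) o)) +
          (C - A) • (e ((g : Perm α) i) - e ((g : Perm α) o)) = 0 := by
        have hrw : e ((g : Perm α) j₀) - e ((g : Perm α) i) =
            (e ((g : Perm α) j₀) - e ((g : Perm α) o)) - (e ((g : Perm α) i) - e ((g : Perm α) o)) := by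
          abel
        rw [hrw, smul_sub] at hsum
        rw [sub_smul, sub_smul, ← sub_eq_zero.2 hsum]
        abel
      obtain ⟨h1, h2⟩ := hind (hg (Ne.symm hj₀)) (hg (Ne.symm hio)) (hg (Ne.symm hij₀)) _ _ hfinal
      rw [sub_eq_zero] at h1 h2
      rw [h2, h1]
  let Φ : (α → k) →ₗ[k] V := ∑ i, (LinearMap.proj i).smulRight (e i)
  have hΦ : ∀ a : α → k, Φ a = ∑ i, a i • e i := fun a => by
    simp [Φ, LinearMap.sum_apply]
  let Ψ : (α → k) →ₗ[k] V × k := Φ.prod (∑ i, LinearMap.proj i)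
  have hker : LinearMap.ker Ψ ≠ ⊥ := by
    intro h
    have := LinearMap.finrank_le_finrank_of_injective (LinearMap.ker_eq_bot.1 h)
    rw [finrank_prod, finrank_self, finrank_fintype_fun_eq_card] at this
    omega
  obtain ⟨a, ha, ha0⟩ := (LinearMap.ker Ψ).exists_mem_ne_zero_of_ne_bot hker
  have haΦ : ∑ i, a i • e i = 0 := by rw [← hΦ]; exact congrArg Prod.fst (LinearMap.mem_ker.1 ha)
  have has : ∑ i, a i = 0 := by
    have h := congrArg Prod.snd (LinearMap.mem_ker.1 ha)
    simpa [Ψ, LinearMap.sum_apply] using h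
  have hconst : ∀ i j l, i ≠ j → i ≠ l → j ≠ l → a i = a j := by
    intro i j l hij hil hjl
    let x := cyc (emb3 i j l hij hil hjl)
    obtain ⟨c, hc0, hc⟩ := hscal x
    have hx : ∑ t, a t • (e ((x : Perm α) t) - e ((x : Perm α) o)) = 0 := by
      have h := congrArg (ρ x) (show ∑ t, a t • (e t - e o) = 0 by
        simp [smul_sub, Finset.sum_sub_distrib, haΦ, ← Finset.sum_smul, has])
      simp only [map_sum, map_smul, map_zero, hc, smul_smul, mul_comm (a _) c] at h
      simp only [← smul_smul, ← Finset.smul_sum] at h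
      exact (smul_eq_zero.1 h).resolve_left hc0
    have hx' : ∑ t, a t • e ((x : Perm α) t) = 0 := by
      simpa [smul_sub, Finset.sum_sub_distrib, ← Finset.sum_smul, has] using hx
    have h1 : (x : Perm α) i = j := cyc_apply (emb3 i j l hij hil hjl) 0
    have h2 : (x : Perm α) j = l := cyc_apply (emb3 i j l hij hil hjl) 1
    have h3 : (x : Perm α) l = i := cyc_apply (emb3 i j l hij hil hjl) 2
    have hd : ∑ t, a t • (e ((x : Perm α) t) - e t) = 0 := by
      simp [smul_sub, Finset.sum_sub_distrib, hx', haΦ]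
    rw [← Finset.sum_subset (Finset.subset_univ ({i, j, l} : Finset α)) fun t _ ht => by
        rw [cyc_apply_of_notMem _ (by rwa [pts_emb3]), sub_self, smul_zero],
      Finset.sum_insert (by simp [hij, hil]), Finset.sum_insert (by simp [hjl]),
      Finset.sum_singleton, h1, h2, h3] at hd
    have hd' : (a i - a j) • (e j - e i) + (a j - a l) • (e l - e i) = 0 := by
      rw [← hd]
      simp only [sub_smul, smul_sub]
      abel
    exact sub_eq_zero.1 (hind hij hil hjl _ _ hd').1
  obtain ⟨i₀, hi₀⟩ := Function.ne_iff.1 ha0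
  have hall : ∀ j, a j = a i₀ := by
    intro j
    rcases eq_or_ne i₀ j with rfl | h
    · rfl
    obtain ⟨l, _, hnd⟩ := exists_two H hcard h
    simp only [List.nodup_cons, List.mem_cons, List.not_mem_nil, or_false, not_or] at hnd
    exact (hconst i₀ j l h hnd.1.2.1 hnd.2.1.1).symm
  rw [Finset.sum_congr rfl fun j _ => hall j, Finset.sum_const, Finset.card_univ, nsmul_eq_mul] at has
  exact (mul_eq_zero.1 has).resolve_right hi₀

end Cfsg.Agent.AltSection
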