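import Cfsg.Agent.Lib.AltSection.Common
import Cfsg.Agent.Lib.AltSection.Identify

/-!
The geometry of planes from the dimensions of the commutator spaces.
-/

set_option autoImplicit false
set_option linter.unusedSectionVars false

namespace Cfsg.Agent.AltSection

open Equiv Module

variable {α : Type*} [Fintype α] [DecidableEq α]
variable {k V : Type*} [Field k] [AddCommGroup V] [Module k V] [FiniteDimensional k V]

/-- Four distinct points as an embedding. -/
def quad (a b c d : α) (hab : a ≠ b) (hac : a ≠ c) (had : a ≠ d) (hbc : b ≠ c) (hbd : b ≠ d)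
    (hcd : c ≠ d) : Fin 4 ↪ α :=
  ⟨![a, b, c, d], by
    intro i j hij
    fin_cases i <;> fin_cases j <;> simp_all [eq_comm]⟩

theorem pts_quad {a b c d : α} (hab : a ≠ b) (hac : a ≠ c) (had : a ≠ d) (hbc : b ≠ c)
    (hbd : b ≠ d) (hcd : c ≠ d) :
    pts (quad a b c d hab hac had hbc hbd hcd) = insert d {a, b, c} := by
  refine (Finset.eq_of_subset_of_card_le (fun y hy => ?_) ?_).symm
  · simp only [Finset.mem_insert, Finset.mem_singleton] at hy
    rcases hy with rfl | rfl | rfl | rfl
    exacts [mem_pts.2 ⟨3, rfl⟩, mem_pts.2 ⟨0, rfl⟩, mem_pts.2 ⟨1, rfl⟩, mem_pts.2 ⟨2, rfl⟩]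
  · rw [card_pts]; simp [*, Ne.symm hcd, Ne.symm had, Ne.symm hbd]

variable {ρ : alternatingGroup α →* Module.End k V}

theorem Sb_quad_eq {a b c d : α} (hab : a ≠ b) (hac : a ≠ c) (had : a ≠ d) (hbc : b ≠ c)
    (hbd : b ≠ d) (hcd : c ≠ d) :
    Sb ρ (insert d {a, b, c}) = plane ρ {a, b, c} ⊔ plane ρ {a, b, d} := by
  set f := quad a b c d hab hac had hbc hbd hcd with hf
  have h1 : e012.trans f = emb3 a b c hab hac hbc :=
    Function.Embedding.ext fun i => by fin_cases i <;> rfl
  have h2 : e013.trans f = emb3 a b d hab had hbd :=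
    Function.Embedding.ext fun i => by fin_cases i <;> rfl
  rw [← pts_quad hab hac had hbc hbd hcd, ← hf]
  refine le_antisymm ((Sb_le_of_closure ρ (altOn_four_le f)).trans (bracket_le ρ ?_)) ?_
  · rintro g (rfl | rfl)
    · rw [← plane_eq, h1, pts_emb3]; exact le_sup_left
    · rw [← plane_eq, h2, pts_emb3]; exact le_sup_right
  · have hsub : ∀ x : Fin 3 ↪ Fin 4, cyc (x.trans f) ∈ altOn (pts f) := fun x =>
      altExt_mem_altOn (fun y hy => by
        obtain ⟨i, rfl⟩ := mem_pts.1 hy
        exact mem_pts.2 ⟨_, rfl⟩) c3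
    refine sup_le ?_ ?_
    · rw [← pts_emb3 hab hac hbc, plane_eq, ← h1]; exact moved_le_Sb ρ (hsub e012)
    · rw [← pts_emb3 hab had hbd, plane_eq, ← h2]; exact moved_le_Sb ρ (hsub e013)

theorem geometry_of_Sb (hdim : ∀ e : Fin 3 ↪ α, finrank k (moved ρ (cyc e)) = 2)
    (h4 : ∀ M : Finset α, M.card = 4 → finrank k (Sb ρ M) = 3)
    (h5 : ∀ M : Finset α, M.card = 5 → finrank k (Sb ρ M) = 4)
    (hnofix : ∀ (e : Fin 3 ↪ α) (v : V), v ∈ moved ρ (cyc e) → (∀ g, ρ g v = v) → v = 0) :
    Geometry ρ := by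
  refine ⟨hdim, ?_, ?_, hnofix⟩
  · intro a b c d hnd
    simp only [List.nodup_cons, List.mem_cons, List.not_mem_nil, or_false, not_or] at hnd
    obtain ⟨⟨hab, hac, had⟩, ⟨hbc, hbd⟩, hcd, -⟩ := hnd
    rw [← Sb_quad_eq hab hac had hbc hbd hcd]
    exact h4 _ (by simp [*, Ne.symm hcd, Ne.symm had, Ne.symm hbd])
  · intro a b c d e hnd heq
    simp only [List.nodup_cons, List.mem_cons, List.not_mem_nil, or_false, not_or] at hnd
    obtain ⟨⟨hab, hac, had, hae⟩, ⟨hbc, hbd, hbe⟩, ⟨hcd, hce⟩, hde, -⟩ := hnd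
    have c4 : (insert d ({a, b, c} : Finset α)).card = 4 := by
      simp [hab, hac, hbc, Ne.symm hcd, Ne.symm had, Ne.symm hbd]
    have c5 : ({a, b, c, d, e} : Finset α).card = 5 := by
      simp [hab, hac, had, hae, hbc, hbd, hbe, hcd, hce, hde]
    have hss : ({a, b, c} : Finset α) ⊂ {a, b, c, d, e} := by
      refine Finset.ssubset_iff_subset_ne.2 ⟨by intro y; simp; tauto, fun h => ?_⟩
      have := congrArg Finset.card h
      have h3 : ({a, b, c} : Finset α).card ≤ 3 := Finset.card_le_three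
      have h5' : ({a, b, c, d, e} : Finset α).card = 5 := by simp [*]
      omega
    have hle := altOn_le_of_insert (M := ({a, b, c} : Finset α)) (by simp [*]) hss
      (K := Subgroup.closure ((altOn (insert d {a, b, c}) : Set (alternatingGroup α)) ∪
        (altOn (insert e {a, b, c}) : Set (alternatingGroup α)))) (fun z hz hz' g hg => by
      have : z = d ∨ z = e := by
        simp only [Finset.mem_insert, Finset.mem_singleton, not_or] at hz hz'; tauto
      rcases this with rfl | rfl
      exacts [Subgroup.subset_closure (Or.inl hg), Subgroup.subset_closure (Or.inr hg)])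
    have h : Sb ρ {a, b, c, d, e} ≤ Sb ρ (insert d {a, b, c}) := by
      refine (Sb_le_of_closure ρ hle).trans (bracket_le ρ ?_)
      rintro g (hg | hg)
      · exact moved_le_Sb ρ hg
      · refine (moved_le_Sb ρ hg).trans ?_
        rw [Sb_quad_eq hab hac hae hbc hbe hce, Sb_quad_eq hab hac had hbc hbd hcd, heq]
    have := Submodule.finrank_mono h
    rw [h4 _ c4, h5 _ c5] at this
    omega

end Cfsg.Agent.AltSection
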