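import Cfsg.Agent.Lib.AltSection.Common
import Cfsg.Agent.Lib.AltSection.Geo

/-!
Lower bound for the degree of a representation of an alternating group, characteristic not two.
-/

set_option autoImplicit false
set_option linter.unusedSectionVars false

namespace Cfsg.Agent.AltSection

open Equiv Module

/-- The three involutions of the four group. -/
def kv : Fin 3 → alternatingGroup (Fin 4) :=
  ![⟨swap 0 1 * swap 2 3, Perm.mem_alternatingGroup.2 (by decide)⟩,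
    ⟨swap 0 2 * swap 1 3, Perm.mem_alternatingGroup.2 (by decide)⟩,
    ⟨swap 0 3 * swap 1 2, Perm.mem_alternatingGroup.2 (by decide)⟩]

/-- The last three points. -/
def e123 : Fin 3 ↪ Fin 4 := ⟨![1, 2, 3], by decide⟩

theorem kv_zero : kv 0 = d4 := by decide

theorem kv_sq (i : Fin 3) : kv i * kv i = 1 := by revert i; decide

theorem kv_comm (i j : Fin 3) : kv i * kv j = kv j * kv i := by revert i j; decide

theorem kv_mul (i : Fin 3) : kv (i + 2) = kv i * kv (i + 1) := by revert i; decide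

theorem kv_rot (i : Fin 3) : altExt e123 c3 * kv i * (altExt e123 c3)⁻¹ = kv (i + 1) := by
  revert i; decide

theorem kv_eq_dbl (i : Fin 3) : ∃ σ : Fin 4 ↪ Fin 4, kv i = altExt σ d4 := by
  fin_cases i
  · exact ⟨⟨![0, 1, 2, 3], by decide⟩, by decide⟩
  · exact ⟨⟨![0, 2, 1, 3], by decide⟩, by decide⟩
  · exact ⟨⟨![0, 3, 1, 2], by decide⟩, by decide⟩

variable {α : Type*} [Fintype α] [DecidableEq α]
variable {k V : Type*} [Field k] [AddCommGroup V] [Module k V] [FiniteDimensional k V]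
variable (ρ : alternatingGroup α →* Module.End k V)

/-- The involutions on four points. -/
def inv4 (e : Fin 4 ↪ α) (i : Fin 3) : alternatingGroup α := altExt e (kv i)

theorem inv4_eq_dbl (e : Fin 4 ↪ α) (i : Fin 3) :
    ∃ f : Fin 4 ↪ α, pts f ⊆ pts e ∧ inv4 e i = dbl f := by
  obtain ⟨σ, hσ⟩ := kv_eq_dbl i
  refine ⟨σ.trans e, fun a ha => ?_, by rw [inv4, hσ, dbl, altExt_trans]⟩
  obtain ⟨j, rfl⟩ := mem_pts.1 ha
  exact mem_pts.2 ⟨_, rfl⟩

theorem inv4_mem (e : Fin 4 ↪ α) (i : Fin 3) : inv4 e i ∈ altOn (pts e) :=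
  altExt_mem_altOn subset_rfl _

/-- The rotation of the last three points. -/
def rot (e : Fin 4 ↪ α) : alternatingGroup α := altExt e (altExt e123 c3)

theorem rot_conj (e : Fin 4 ↪ α) (i : Fin 3) :
    rot e * inv4 e i * (rot e)⁻¹ = inv4 e (i + 1) := by
  rw [rot, inv4, inv4, ← map_inv, ← map_mul, ← map_mul, kv_rot]

/-- The three nontrivial joint eigenspaces of the four group on the points of `e`. -/
def Cs (e : Fin 4 ↪ α) (i : Fin 3) : Submodule k V :=
  Module.End.eigenspace (ρ (inv4 e i)) 1 ⊓ Module.End.eigenspace (ρ (inv4 e (i + 1))) (-1)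

/-- Their sum. -/
def Sp (e : Fin 4 ↪ α) : Submodule k V := Cs ρ e 0 ⊔ Cs ρ e 1 ⊔ Cs ρ e 2

variable {ρ}

theorem inv4_sq (e : Fin 4 ↪ α) (i : Fin 3) (v : V) : ρ (inv4 e i) (ρ (inv4 e i) v) = v := by
  rw [← rho_mul, inv4, ← map_mul, kv_sq, map_one, rho_one]

theorem inv4_comm (e : Fin 4 ↪ α) (i j : Fin 3) (v : V) :
    ρ (inv4 e i) (ρ (inv4 e j) v) = ρ (inv4 e j) (ρ (inv4 e i) v) := by
  rw [← rho_mul, ← rho_mul, inv4, inv4, ← map_mul, ← map_mul, kv_comm]

theorem inv4_mul (e : Fin 4 ↪ α) (i : Fin 3) (v : V) :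
    ρ (inv4 e (i + 2)) v = ρ (inv4 e i) (ρ (inv4 e (i + 1)) v) := by
  rw [← rho_mul, inv4, inv4, inv4, ← map_mul, kv_mul]

theorem mem_Cs {e : Fin 4 ↪ α} {i : Fin 3} {c : V} (hc : c ∈ Cs ρ e i) :
    ρ (inv4 e i) c = c ∧ ρ (inv4 e (i + 1)) c = -c ∧ ρ (inv4 e (i + 2)) c = -c := by
  obtain ⟨h1, h2⟩ := Submodule.mem_inf.1 hc
  rw [mem_eig] at h1 h2
  rw [one_smul] at h1
  rw [neg_one_smul] at h2
  exact ⟨h1, h2, by rw [inv4_mul, h2, map_neg, h1]⟩

theorem rot_Cs (e : Fin 4 ↪ α) (i : Fin 3) : (Cs ρ e i).map (ρ (rot e)) = Cs ρ e (i + 1) := by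
  rw [Cs, Submodule.map_inf _ (rho_injective_apply ρ (rot e)), map_eig, map_eig, rot_conj, rot_conj, Cs]

theorem finrank_Cs (e : Fin 4 ↪ α) (i : Fin 3) :
    finrank k (Cs ρ e i) = finrank k (Cs ρ e 0) := by
  have h : ∀ i : Fin 3, finrank k (Cs ρ e (i + 1)) = finrank k (Cs ρ e i) := fun i => by
    rw [← rot_Cs, finrank_map_rho]
  fin_cases i
  · rfl
  · exact h 0
  · exact (h 1).trans (h 0)

variable (hk : (2 : k) ≠ 0)
include hk

theorem eq_zero_of_two {x : V} (h : x + x = 0) : x = 0 := by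
  rw [← two_smul k x] at h
  exact (smul_eq_zero.1 h).resolve_left hk

theorem decomp (e : Fin 4 ↪ α) (v : V) : ∃ c c0 c1 c2 : V, (∀ i, ρ (inv4 e i) c = c) ∧
    c0 ∈ Cs ρ e 0 ∧ c1 ∈ Cs ρ e 1 ∧ c2 ∈ Cs ρ e 2 ∧ v = c + c0 + c1 + c2 := by
  set a := ρ (inv4 e 0) v with ha
  set b := ρ (inv4 e 1) v with hb
  set d := ρ (inv4 e 2) v with hd
  have e0a : ρ (inv4 e 0) a = v := inv4_sq e 0 v
  have e0b : ρ (inv4 e 0) b = d := by rw [hb, hd]; exact (inv4_mul e 0 v).symm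
  have e0d : ρ (inv4 e 0) d = b := by rw [← e0b, inv4_sq]
  have e1b : ρ (inv4 e 1) b = v := inv4_sq e 1 v
  have e1a : ρ (inv4 e 1) a = d := by rw [ha, inv4_comm]; exact e0b
  have e1d : ρ (inv4 e 1) d = a := by rw [← e1a, inv4_sq]
  have e2d : ρ (inv4 e 2) d = v := inv4_sq e 2 v
  have e2a : ρ (inv4 e 2) a = b := by rw [ha, inv4_comm]; exact e0d
  have e2b : ρ (inv4 e 2) b = a := by rw [hb, inv4_comm]; exact e1d
  have hq : ∀ x : V, (4 : k)⁻¹ • ((x + x) + (x + x)) = x := by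
    intro x
    have h4 : (4 : k) ≠ 0 := by
      have : (4 : k) = 2 * 2 := by norm_num
      rw [this]; exact mul_ne_zero hk hk
    rw [show (x + x) + (x + x) = (4 : k) • x by
      rw [show (4 : k) = 1 + 1 + 1 + 1 by norm_num]; simp only [add_smul, one_smul]; abel,
      smul_smul, inv_mul_cancel₀ h4, one_smul]
  refine ⟨(4 : k)⁻¹ • (v + a + b + d), (4 : k)⁻¹ • (v + a - b - d), (4 : k)⁻¹ • (v - a + b - d),
    (4 : k)⁻¹ • (v - a - b + d), ?_, ?_, ?_, ?_, ?_⟩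
  · intro i
    fin_cases i <;> simp [map_add, e0a, e0b, e0d, e1a, e1b, e1d, e2a, e2b, e2d, ← ha, ← hb, ← hd] <;>
      abel_nf
  · refine Submodule.mem_inf.2 ⟨(mem_eig ρ).2 ?_, (mem_eig ρ).2 ?_⟩
    · rw [one_smul]; simp only [map_smul, map_add, map_sub, e0a, e0b, e0d, ← ha]; abel_nf
    · rw [neg_one_smul, ← smul_neg]
      simp only [zero_add, map_smul, map_add, map_sub, e1a, e1b, e1d, ← hb]; abel_nf
  · refine Submodule.mem_inf.2 ⟨(mem_eig ρ).2 ?_, (mem_eig ρ).2 ?_⟩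
    · rw [one_smul]; simp only [map_smul, map_add, map_sub, e1a, e1b, e1d, ← hb]; abel_nf
    · rw [neg_one_smul, ← smul_neg]
      simp only [map_smul, map_add, map_sub, show (1 : Fin 3) + 1 = 2 from rfl, e2a, e2b, e2d, ← hd]
      abel_nf
  · refine Submodule.mem_inf.2 ⟨(mem_eig ρ).2 ?_, (mem_eig ρ).2 ?_⟩
    · rw [one_smul]; simp only [map_smul, map_add, map_sub, e2a, e2b, e2d, ← hd]; abel_nf
    · rw [neg_one_smul, ← smul_neg]
      simp only [map_smul, map_add, map_sub, show (2 : Fin 3) + 1 = 0 from rfl, e0a, e0b, e0d, ← ha]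
      abel_nf
  · rw [← smul_add, ← smul_add, ← smul_add]
    refine (hq v).symm.trans (congrArg _ ?_)
    abel

theorem eq_zero_of_fixed {e : Fin 4 ↪ α} {c0 c1 c2 : V} (h0 : c0 ∈ Cs ρ e 0) (h1 : c1 ∈ Cs ρ e 1)
    (h2 : c2 ∈ Cs ρ e 2) (hfix : ∀ i, ρ (inv4 e i) (c0 + c1 + c2) = c0 + c1 + c2) :
    c0 = 0 ∧ c1 = 0 ∧ c2 = 0 := by
  obtain ⟨a0, a1, a2⟩ := mem_Cs h0
  obtain ⟨b1, b2, b0⟩ := mem_Cs h1
  obtain ⟨d2, d0, d1⟩ := mem_Cs h2
  simp only [show (1 : Fin 3) + 1 = 2 from rfl, show (1 : Fin 3) + 2 = 0 from rfl,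
    show (2 : Fin 3) + 1 = 0 from rfl, show (2 : Fin 3) + 2 = 1 from rfl, zero_add]
    at a1 a2 b2 b0 d0 d1
  have f0 := hfix 0
  have f1 := hfix 1
  have f2 := hfix 2
  rw [map_add, map_add, a0, b0, d0] at f0
  rw [map_add, map_add, a1, b1, d1] at f1
  rw [map_add, map_add, a2, b2, d2] at f2
  have g0 : c1 + c2 = 0 := eq_zero_of_two hk (by
    calc c1 + c2 + (c1 + c2) = (c0 + c1 + c2) - (c0 + -c1 + -c2) := by abel
      _ = 0 := sub_eq_zero.2 f0.symm)
  have g1 : c0 + c2 = 0 := eq_zero_of_two hk (by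
    calc c0 + c2 + (c0 + c2) = (c0 + c1 + c2) - (-c0 + c1 + -c2) := by abel
      _ = 0 := sub_eq_zero.2 f1.symm)
  have g2 : c0 + c1 = 0 := eq_zero_of_two hk (by
    calc c0 + c1 + (c0 + c1) = (c0 + c1 + c2) - (-c0 + -c1 + c2) := by abel
      _ = 0 := sub_eq_zero.2 f2.symm)
  refine ⟨eq_zero_of_two hk ?_, eq_zero_of_two hk ?_, eq_zero_of_two hk ?_⟩
  · calc c0 + c0 = (c0 + c1) + (c0 + c2) - (c1 + c2) := by abel
      _ = 0 := by rw [g0, g1, g2]; simp
  · calc c1 + c1 = (c0 + c1) + (c1 + c2) - (c0 + c2) := by abel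
      _ = 0 := by rw [g0, g1, g2]; simp
  · calc c2 + c2 = (c0 + c2) + (c1 + c2) - (c0 + c1) := by abel
      _ = 0 := by rw [g0, g1, g2]; simp

theorem Sp_fixed_eq_zero {e : Fin 4 ↪ α} {x : V} (hx : x ∈ Sp ρ e)
    (hfix : ∀ i, ρ (inv4 e i) x = x) : x = 0 := by
  obtain ⟨y, hy, c2, h2, rfl⟩ := Submodule.mem_sup.1 hx
  obtain ⟨c0, h0, c1, h1, rfl⟩ := Submodule.mem_sup.1 hy
  obtain ⟨r0, r1, r2⟩ := eq_zero_of_fixed hk h0 h1 h2 hfix
  simp [r0, r1, r2]

theorem finrank_Sp (e : Fin 4 ↪ α) : finrank k (Sp ρ e) = 3 * finrank k (Cs ρ e 0) := by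
  have key : ∀ c0 ∈ Cs ρ e 0, ∀ c1 ∈ Cs ρ e 1, ∀ c2 ∈ Cs ρ e 2, c0 + c1 + c2 = 0 →
      c0 = 0 ∧ c1 = 0 ∧ c2 = 0 := fun c0 h0 c1 h1 c2 h2 h =>
    eq_zero_of_fixed hk h0 h1 h2 fun i => by rw [h, map_zero]
  have h01 : Cs ρ e 0 ⊓ Cs ρ e 1 = ⊥ := (Submodule.eq_bot_iff _).2 fun x hx =>
    (key x hx.1 (-x) (neg_mem hx.2) 0 (zero_mem _) (by abel)).1
  have h012 : (Cs ρ e 0 ⊔ Cs ρ e 1) ⊓ Cs ρ e 2 = ⊥ := (Submodule.eq_bot_iff _).2 fun x hx => by
    obtain ⟨c0, h0, c1, h1, rfl⟩ := Submodule.mem_sup.1 hx.1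
    exact neg_eq_zero.1 (key c0 h0 c1 h1 (-(c0 + c1)) (neg_mem hx.2) (by abel)).2.2
  have e1 := Submodule.finrank_sup_add_finrank_inf_eq (Cs ρ e 0) (Cs ρ e 1)
  have e2 := Submodule.finrank_sup_add_finrank_inf_eq (Cs ρ e 0 ⊔ Cs ρ e 1) (Cs ρ e 2)
  rw [h01, finrank_bot, add_zero, finrank_Cs e 1] at e1
  rw [h012, finrank_bot, add_zero, finrank_Cs e 2, e1] at e2
  rw [Sp, e2]; ring

theorem moved_inv4_le (e : Fin 4 ↪ α) (i : Fin 3) : moved ρ (inv4 e i) ≤ Sp ρ e := by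
  rintro _ ⟨v, rfl⟩
  obtain ⟨c, c0, c1, c2, hc, h0, h1, h2, rfl⟩ := decomp (ρ := ρ) hk e v
  have hmem : ∀ j (x : V), x ∈ Cs ρ e j → ρ (inv4 e i) x - x ∈ Sp ρ e := by
    intro j x hx
    have hle : Cs ρ e j ≤ Sp ρ e := by
      fin_cases j
      exacts [le_sup_left.trans le_sup_left, le_sup_right.trans le_sup_left, le_sup_right]
    obtain ⟨s0, s1, s2⟩ := mem_Cs hx
    have : ρ (inv4 e i) x = x ∨ ρ (inv4 e i) x = -x := by
      obtain h | h | h := (by decide : ∀ i j : Fin 3, i = j ∨ i = j + 1 ∨ i = j + 2) i j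
      · exact Or.inl (h ▸ s0)
      · exact Or.inr (h ▸ s1)
      · exact Or.inr (h ▸ s2)
    rcases this with h | h <;> rw [h]
    · rw [sub_self]; exact zero_mem _
    · exact sub_mem (neg_mem (hle hx)) (hle hx)
  show ρ (inv4 e i) (c + c0 + c1 + c2) - (c + c0 + c1 + c2) ∈ _
  have hsplit : ρ (inv4 e i) (c + c0 + c1 + c2) - (c + c0 + c1 + c2) =
      (ρ (inv4 e i) c0 - c0) + (ρ (inv4 e i) c1 - c1) + (ρ (inv4 e i) c2 - c2) := by
    simp only [map_add, hc i]; abel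
  rw [hsplit]
  exact add_mem (add_mem (hmem 0 _ h0) (hmem 1 _ h1)) (hmem 2 _ h2)

theorem Sp_le_Sb (e : Fin 4 ↪ α) : Sp ρ e ≤ Sb ρ (pts e) := by
  have h : ∀ i, Cs ρ e i ≤ Sb ρ (pts e) := fun i c hc => by
    obtain ⟨-, s1, -⟩ := mem_Cs hc
    have : c = (-(2 : k))⁻¹ • (ρ (inv4 e (i + 1)) c - c) := by
      rw [s1, show -c - c = (-(2 : k)) • c by rw [neg_smul, two_smul]; abel, smul_smul,
        inv_mul_cancel₀ (neg_ne_zero.2 hk), one_smul]
    rw [this]
    exact Submodule.smul_mem _ _ (moved_le_Sb ρ (inv4_mem e _) (sub_mem_moved ρ _ _))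
  exact sup_le (sup_le (h 0) (h 1)) (h 2)

omit hk

theorem finrank_Cs_eq (h6 : 6 ≤ Fintype.card α) (e f : Fin 4 ↪ α) :
    finrank k (Cs ρ e 0) = finrank k (Cs ρ f 0) := by
  obtain ⟨g, hg⟩ := exists_move h6 e f
  have hc : ∀ i, g * inv4 e i * g⁻¹ = inv4 f i := fun i => by rw [inv4, altExt_conj, hg]; rfl
  rw [show Cs ρ f 0 = (Cs ρ e 0).map (ρ g) by
    rw [Cs, Cs, Submodule.map_inf _ (rho_injective_apply ρ g), map_eig, map_eig, hc, hc],
    finrank_map_rho]

include hk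

theorem one_le_finrank_Cs {e : Fin 4 ↪ α} (he : ρ (dbl e) ≠ 1) :
    1 ≤ finrank k (Cs ρ e 0) := by
  by_contra hcon
  refine he (LinearMap.ext fun v => sub_eq_zero.1 ?_)
  have hS : Sp ρ e = ⊥ := by
    have := finrank_Sp hk (ρ := ρ) e
    rw [← Submodule.finrank_eq_zero]; omega
  have h := moved_inv4_le hk e 0 (sub_mem_moved ρ _ v)
  rw [hS, Submodule.mem_bot] at h
  simpa [inv4, dbl, kv_zero] using h

omit hk

/-- Double transpositions on disjoint supports multiply to zero after subtracting one. -/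
def DZ (ρ : alternatingGroup α →* Module.End k V) : Prop :=
  ∀ e f : Fin 4 ↪ α, Disjoint (pts e) (pts f) → ∀ i, ∀ c ∈ Cs ρ e i, ρ (dbl f) c = c

include hk

theorem DZ.fix (hDZ : DZ ρ) {e f : Fin 4 ↪ α} (h : Disjoint (pts e) (pts f)) :
    ∀ w ∈ Sp ρ e, ρ (dbl f) w = w := by
  intro w hw
  obtain ⟨y, hy, c2, h2, rfl⟩ := Submodule.mem_sup.1 hw
  obtain ⟨c0, h0, c1, h1, rfl⟩ := Submodule.mem_sup.1 hy
  rw [map_add, map_add, hDZ e f h 0 c0 h0, hDZ e f h 1 c1 h1, hDZ e f h 2 c2 h2]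

theorem DZ.fix_dbl (hDZ : DZ ρ) {e f : Fin 4 ↪ α} (h : Disjoint (pts e) (pts f)) :
    ∀ w ∈ moved ρ (dbl e), ρ (dbl f) w = w := fun w hw =>
  hDZ.fix hk h w (moved_inv4_le hk e 0 (by simpa [inv4, dbl, kv_zero] using hw))

theorem DZ.fix_altOn (hDZ : DZ ρ) (h9 : 9 ≤ Fintype.card α) {f : Fin 4 ↪ α} {M : Finset α}
    (h : Disjoint M (pts f)) {g : alternatingGroup α} (hg : g ∈ altOn M) :
    (∀ w ∈ moved ρ (dbl f), ρ g w = w) ∧ ∀ w ∈ moved ρ g, ρ (dbl f) w = w := by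
  have hcomm : dbl f * g = g * dbl f := (altExt_commute_altOn f h.symm d4 hg).symm
  have h1 : ∀ w ∈ moved ρ (dbl f), ρ g w = w := by
    intro w hw
    refine fix_of_mem_closure ρ ?_ (altOn_le_closure_cyc M hg)
    rintro _ ⟨x, hx, rfl⟩
    have hcard : 1 < ((pts x ∪ pts f)ᶜ).card := by
      have := Finset.card_union_le (pts x) (pts f)
      rw [card_pts, card_pts] at this
      rw [Finset.card_compl]; omega
    obtain ⟨a, ha, b, hb, hab⟩ := Finset.one_lt_card.1 hcard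
    simp only [Finset.mem_compl, Finset.mem_union, not_or] at ha hb
    obtain ⟨e5, he5, hsub⟩ := exists_emb5 x hab ha.1 hb.1
    refine fix_of_mem_closure ρ ?_ (he5 ▸ cyc_mem_closure_dbl e5)
    rintro _ ⟨y, hy, rfl⟩
    refine hDZ.fix_dbl hk (Disjoint.symm ?_) w hw
    rw [Finset.disjoint_left]
    intro z hz hzf
    rcases Finset.mem_insert.1 (hsub (hy hz)) with rfl | hz'
    · exact ha.2 hzf
    rcases Finset.mem_insert.1 hz' with rfl | hz''
    · exact hb.2 hzf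
    · exact Finset.disjoint_left.1 h (hx hz'') hzf
  exact ⟨h1, fix_moved_comm ρ hcomm h1⟩

theorem DZ.fix_Sb (hDZ : DZ ρ) (h9 : 9 ≤ Fintype.card α) {f : Fin 4 ↪ α} {M : Finset α}
    (h : Disjoint M (pts f)) {w : V} (hw : w ∈ Sb ρ M) : ρ (dbl f) w = w :=
  fix_bracket ρ (fun _ hg => (hDZ.fix_altOn hk h9 h hg).2) hw

theorem DZ.step (hDZ : DZ ρ) (h9 : 9 ≤ Fintype.card α) (hne : ∀ f : Fin 4 ↪ α, ρ (dbl f) ≠ 1)
    {M : Finset α} (hM : 3 ≤ M.card) (hout : 4 ≤ Mᶜ.card) {a : α} (ha : a ∉ M) :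
    Sb ρ M ≠ Sb ρ (insert a M) := by
  obtain ⟨f, hf⟩ := exists_emb hout
  have hd : Disjoint M (pts f) := Finset.disjoint_left.2 fun y hy hyf =>
    Finset.mem_compl.1 (hf hyf) hy
  exact Sb_ne_insert ρ hM (by omega) ha (h := dbl f) (m := 2) (dbl_sq f) (by exact_mod_cast hk)
    (hne f) fun w hw => hDZ.fix_Sb hk h9 hd hw

theorem DZ.inter (hDZ : DZ ρ) (h9 : 9 ≤ Fintype.card α) {f : Fin 4 ↪ α} :
    Sp ρ f ⊓ Sb ρ (pts f)ᶜ = ⊥ := (Submodule.eq_bot_iff _).2 fun x hx => by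
  refine Sp_fixed_eq_zero hk hx.1 fun i => ?_
  obtain ⟨f', hf', heq⟩ := inv4_eq_dbl f i
  rw [heq]
  exact hDZ.fix_Sb hk h9 (disjoint_compl_left.mono_right hf') hx.2

theorem DZ.total (hDZ : DZ ρ) (h9 : 9 ≤ Fintype.card α) (hne : ∀ f : Fin 4 ↪ α, ρ (dbl f) ≠ 1)
    {M : Finset α} (hM4 : 4 ≤ M.card) (hM : 4 ≤ Mᶜ.card) :
    ∃ d, (∀ e, finrank k (Cs ρ e 0) = d) ∧ 1 ≤ d ∧
      3 * d + (M.card - 4) ≤ finrank k (Sb ρ M) ∧
      finrank k (Sb ρ M) + (Fintype.card α - 4 - M.card) + 3 * d ≤ finrank k V := by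
  obtain ⟨e, he⟩ := exists_emb hM4
  obtain ⟨f, hf⟩ := exists_emb hM
  refine ⟨finrank k (Cs ρ e 0), fun e' => finrank_Cs_eq (by omega) e' e,
    one_le_finrank_Cs hk (hne e), ?_, ?_⟩
  · have h0 := finrank_Sp hk (ρ := ρ) e
    have h1 := Submodule.finrank_mono (Sp_le_Sb hk (ρ := ρ) e)
    have h2 := Sb_chain ρ (N := M) (fun M' hM' hss a ha => hDZ.step hk h9 hne hM' (by
      have := Finset.card_le_card hss.1
      rw [Finset.card_compl] at hM ⊢; omega) ha) (M := pts e) (by rw [card_pts]; omega) he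
    rw [card_pts] at h2
    omega
  · have hsub : M ⊆ (pts f)ᶜ := fun y hy => Finset.mem_compl.2 fun hy' =>
      Finset.mem_compl.1 (hf hy') hy
    have h2 := Sb_chain ρ (N := (pts f)ᶜ) (fun M' hM' hss a ha => hDZ.step hk h9 hne hM' (by
      have := Finset.card_lt_card hss
      rw [Finset.card_compl, card_pts] at this
      rw [Finset.card_compl]; omega) ha) (M := M) (by omega) hsub
    have h3 := two_disjoint_le (hDZ.inter hk h9 (f := f))
    have h4 := finrank_Sp hk (ρ := ρ) f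
    rw [Finset.card_compl, card_pts] at h2
    have := finrank_Cs_eq (ρ := ρ) (by omega : 6 ≤ Fintype.card α) f e
    omega

theorem DZ.finrank_Sb (hDZ : DZ ρ) (h9 : 9 ≤ Fintype.card α)
    (hne : ∀ f : Fin 4 ↪ α, ρ (dbl f) ≠ 1) (hn : finrank k V + 2 ≤ Fintype.card α)
    (hd : ∀ e, finrank k (Cs ρ e 0) = 1) {M : Finset α} (hM4 : 4 ≤ M.card) (hM : 4 ≤ Mᶜ.card) :
    finrank k (Sb ρ M) + 1 = M.card := by
  obtain ⟨d, hd', -, h1, h2⟩ := hDZ.total hk h9 hne hM4 hM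
  obtain ⟨e, -⟩ := exists_emb hM4
  have : d = 1 := by rw [← hd' e, hd e]
  rw [Finset.card_compl] at hM
  omega

theorem DZ.geometry (hDZ : DZ ρ) (h9 : 9 ≤ Fintype.card α)
    (hne : ∀ f : Fin 4 ↪ α, ρ (dbl f) ≠ 1) (hn : finrank k V + 2 ≤ Fintype.card α)
    (hd : ∀ e, finrank k (Cs ρ e 0) = 1) : Geometry ρ := by
  have hSb : ∀ M : Finset α, 4 ≤ M.card → M.card + 4 ≤ Fintype.card α →
      finrank k (Sb ρ M) + 1 = M.card := fun M h1 h2 =>
    hDZ.finrank_Sb hk h9 hne hn hd h1 (by rw [Finset.card_compl]; omega)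
  have hSp3 : ∀ f, finrank k (Sp ρ f) = 3 := fun f => by rw [finrank_Sp hk, hd]
  have hSpSb : ∀ f, Sp ρ f = Sb ρ (pts f) := fun f =>
    Submodule.eq_of_le_of_finrank_le (Sp_le_Sb hk f) (by
      have := hSb (pts f) (by rw [card_pts]) (by rw [card_pts]; omega)
      rw [card_pts] at this; rw [hSp3]; omega)
  have hext : ∀ e : Fin 3 ↪ α, ∃ f : Fin 4 ↪ α, pts e ⊆ pts f ∧ rot f = cyc e := by
    intro e
    obtain ⟨d, hd⟩ := Finset.card_pos.1 (show 0 < ((pts e)ᶜ).card by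
      rw [Finset.card_compl, card_pts]; omega)
    rw [Finset.mem_compl, mem_pts] at hd
    push Not at hd
    let f : Fin 4 ↪ α := ⟨Fin.cons d e, Fin.cons_injective_iff.2
      ⟨fun ⟨i, hi⟩ => hd i hi, e.injective⟩⟩
    have hfe : e = e123.trans f := Function.Embedding.ext fun i => by fin_cases i <;> rfl
    refine ⟨f, fun a ha => ?_, by rw [rot, cyc, hfe, altExt_trans]⟩
    obtain ⟨i, rfl⟩ := mem_pts.1 ha
    exact mem_pts.2 ⟨i.succ, by simp [f]⟩
  refine geometry_of_Sb (fun e => ?_) (fun M hM => ?_) (fun M hM => ?_) ?_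
  · obtain ⟨f, hef, hrot⟩ := hext e
    set N := (pts f)ᶜ with hN
    have hNcard : N.card + 4 = Fintype.card α := by
      rw [hN, Finset.card_compl, card_pts]; omega
    have hinter : Sp ρ f ⊓ Sb ρ N = ⊥ := hDZ.inter hk h9
    have hV : Sp ρ f ⊔ Sb ρ N = ⊤ := by
      refine Submodule.eq_top_of_finrank_eq ?_
      have h := Submodule.finrank_sup_add_finrank_inf_eq (Sp ρ f) (Sb ρ N)
      rw [hinter, finrank_bot, add_zero, hSp3] at h
      have := hSb N (by omega) (by omega)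
      have := Submodule.finrank_le (Sp ρ f ⊔ Sb ρ N)
      omega
    have hxN : ∀ w ∈ Sb ρ N, ρ (cyc e) w = w := by
      intro w hw
      refine fix_bracket ρ ?_ (Sb_le_of_closure ρ (altOn_le_closure_dbl (by omega)) hw)
      rintro _ ⟨y, hy, rfl⟩
      exact (hDZ.fix_altOn hk h9 (M := pts e) (disjoint_compl_right.mono hef hy)
        (altExt_mem_altOn subset_rfl c3)).1
    obtain ⟨c0, hc0, hc00⟩ := (Cs ρ f 0).exists_mem_ne_zero_of_ne_bot fun h => by
      have := hd f; rw [h, finrank_bot] at this; omega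
    set x := ρ (cyc e) with hx
    have hx' : x = ρ (rot f) := by rw [hrot]
    have hmem : ∀ i, ∀ c ∈ Cs ρ f i, x c ∈ Cs ρ f (i + 1) := fun i c hc => by
      rw [← rot_Cs, hx']; exact Submodule.mem_map_of_mem hc
    have hc1 : x c0 ∈ Cs ρ f 1 := hmem 0 c0 hc0
    have hc2 : x (x c0) ∈ Cs ρ f 2 := hmem 1 _ hc1
    have hc3 : x (x (x c0)) = c0 := by
      rw [hx, ← rho_mul, ← rho_mul, ← pow_three', cyc_pow_three, rho_one]
    set u := x c0 - c0
    set w := x (x c0) - x c0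
    have hli : ∀ s t : k, s • u + t • w = 0 → s = 0 ∧ t = 0 := by
      intro s t h
      have h' : (-s) • c0 + (s - t) • x c0 + t • x (x c0) = 0 := by
        rw [← h]; simp only [u, w, smul_sub, sub_smul, neg_smul]; abel
      obtain ⟨r0, -, r2⟩ := eq_zero_of_fixed hk (Submodule.smul_mem _ (-s) hc0)
        (Submodule.smul_mem _ (s - t) hc1) (Submodule.smul_mem _ t hc2)
        (fun i => by rw [h', map_zero])
      have hne2 : x (x c0) ≠ 0 := fun h0 => hc00 (by rw [← hc3, h0, map_zero])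
      exact ⟨neg_eq_zero.1 ((smul_eq_zero.1 r0).resolve_right hc00),
        (smul_eq_zero.1 r2).resolve_right hne2⟩
    have hspan : moved ρ (cyc e) = Submodule.span k (Set.range ![u, w]) := by
      refine le_antisymm ?_ (Submodule.span_le.2 ?_)
      · rintro _ ⟨v, rfl⟩
        have hv : v ∈ Sp ρ f ⊔ Sb ρ N := by rw [hV]; trivial
        obtain ⟨a, ha, b, hb, rfl⟩ := Submodule.mem_sup.1 hv
        obtain ⟨y, hy, a2, ha2, rfl⟩ := Submodule.mem_sup.1 ha
        obtain ⟨a0, ha0, a1, ha1, rfl⟩ := Submodule.mem_sup.1 hy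
        have hline : ∀ i (c : V), c ≠ 0 → c ∈ Cs ρ f i → ∀ z ∈ Cs ρ f i, ∃ t : k, z = t • c := by
          intro i c hc0' hc z hz
          obtain ⟨t, ht⟩ := (finrank_eq_one_iff_of_nonzero' (⟨c, hc⟩ : Cs ρ f i)
            (by simpa using hc0')).1 ((finrank_Cs f i).trans (hd f)) ⟨z, hz⟩
          exact ⟨t, (congrArg Subtype.val ht).symm⟩
        have hne1 : x c0 ≠ 0 := fun h => hc00 (by rw [← hc3, h, map_zero, map_zero])
        have hne2 : x (x c0) ≠ 0 := fun h0 => hc00 (by rw [← hc3, h0, map_zero])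
        obtain ⟨t0, rfl⟩ := hline 0 c0 hc00 hc0 a0 ha0
        obtain ⟨t1, rfl⟩ := hline 1 _ hne1 hc1 a1 ha1
        obtain ⟨t2, rfl⟩ := hline 2 _ hne2 hc2 a2 ha2
        have hcalc : (ρ (cyc e) - 1) (t0 • c0 + t1 • x c0 + t2 • x (x c0) + b) =
            t0 • u + t1 • w + t2 • -(u + w) := by
          show ρ (cyc e) _ - _ = _
          rw [map_add, hxN b hb, ← hx, Module.End.one_apply]
          simp only [map_add, map_smul, hc3, u, w, smul_sub, smul_neg, smul_add]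
          abel
        rw [hcalc]
        have hu : u ∈ Submodule.span k (Set.range ![u, w]) := Submodule.subset_span ⟨0, rfl⟩
        have hw : w ∈ Submodule.span k (Set.range ![u, w]) := Submodule.subset_span ⟨1, rfl⟩
        exact add_mem (add_mem (Submodule.smul_mem _ _ hu) (Submodule.smul_mem _ _ hw))
          (Submodule.smul_mem _ _ (neg_mem (add_mem hu hw)))
      · rintro _ ⟨i, rfl⟩
        fin_cases i
        exacts [sub_mem_moved ρ (cyc e) c0, sub_mem_moved ρ (cyc e) (x c0)]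
    rw [hspan, finrank_span_eq_card (LinearIndependent.pair_iff.2 hli), Fintype.card_fin]
  · have := hSb M (by omega) (by omega); omega
  · have := hSb M (by omega) (by omega); omega
  · intro e v hv hfix
    obtain ⟨f, hef, -⟩ := hext e
    refine Sp_fixed_eq_zero hk (e := f) ?_ fun i => hfix _
    rw [hSpSb]
    exact moved_le_Sb ρ (altExt_mem_altOn hef c3) hv

/-- The bounds. -/
theorem bound_odd : ∀ (s : ℕ) (α : Type*) [Fintype α] [DecidableEq α] (W : Type*) [AddCommGroup W]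
    [Module k W] [FiniteDimensional k W] (σ : alternatingGroup α →* Module.End k W),
    Fintype.card α = s → (∃ f : Fin 4 ↪ α, σ (dbl f) ≠ 1) →
    3 ≤ finrank k W ∧ (7 ≤ s → 4 ≤ finrank k W) ∧ (8 ≤ s → 6 ≤ finrank k W) ∧
      (9 ≤ s → s ≤ finrank k W + 2 ∧ ((s : k) ≠ 0 → s ≤ finrank k W + 1)) := by
  intro s
  induction s using Nat.strong_induction_on with
  | _ s ih =>
    intro α _ _ W _ _ _ σ hs hnt
    obtain ⟨f0, hf0⟩ := hnt
    have hd1 := one_le_finrank_Cs hk hf0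
    have h3 : 3 ≤ finrank k W := by
      have h := Submodule.finrank_le (Sp σ f0)
      rw [finrank_Sp hk] at h; omega
    have hne : 5 ≤ s → ∀ g : alternatingGroup α, g ≠ 1 → σ g ≠ 1 := fun h5 g hg h =>
      hg (injective_of_apply_ne_one (by omega) σ hf0 g h)
    have hrec : 8 ≤ s → ¬ DZ σ → ∃ d, (3 ≤ d ∧ (7 ≤ s - 4 → 4 ≤ d) ∧ (8 ≤ s - 4 → 6 ≤ d) ∧
        (9 ≤ s - 4 → s - 4 ≤ d + 2)) ∧ 3 * d ≤ finrank k W := by
      intro h8 hcon
      simp only [DZ, not_forall] at hcon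
      obtain ⟨e, f, hdis, i, c, hc, hne'⟩ := hcon
      let R : Finset α := (pts e)ᶜ
      have hinv : ∀ g : alternatingGroup R, ∀ w ∈ Cs σ e i,
          (σ.comp (alternatingGroup.ofSubtype R)) g w ∈ Cs σ e i := fun g w hw => by
        have hg : alternatingGroup.ofSubtype R g ∈ altOn R := ⟨g, rfl⟩
        have hcm : ∀ j, alternatingGroup.ofSubtype R g * inv4 e j =
            inv4 e j * alternatingGroup.ofSubtype R g := fun j =>
          altExt_commute_altOn e disjoint_compl_right _ hg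
        exact ⟨apply_eig_mem_of_commute σ (hcm i) hw.1,
          apply_eig_mem_of_commute σ (hcm (i + 1)) hw.2⟩
      let f' : Fin 4 ↪ R := ⟨fun j => ⟨f j, Finset.mem_compl.2 fun h =>
        Finset.disjoint_left.1 hdis h (mem_pts.2 ⟨j, rfl⟩)⟩,
        fun _ _ h => f.injective (congrArg Subtype.val h)⟩
      have hf' : alternatingGroup.ofSubtype R (dbl f') = dbl f := by
        rw [dbl, ofSubtype_altExt]; rfl
      have hR : Fintype.card R = s - 4 := by
        rw [Fintype.card_coe, Finset.card_compl, card_pts, hs]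
      obtain ⟨r1, r2, r3, r4⟩ := ih (s - 4) (by omega) R (Cs σ e i) (subRep _ _ hinv) hR
        ⟨f', fun h => hne' (by
          have := congrArg Subtype.val (LinearMap.congr_fun h ⟨c, hc⟩)
          rw [subRep_apply, MonoidHom.comp_apply, hf'] at this
          exact this)⟩
      refine ⟨finrank k (Cs σ e i), ⟨r1, r2, r3, fun h => (r4 h).1⟩, ?_⟩
      rw [finrank_Cs, ← finrank_Sp hk]
      exact Submodule.finrank_le _
    have h4 : 7 ≤ s → 4 ≤ finrank k W := by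
      intro h7
      by_contra hlt
      have hW : finrank k W = 3 := by omega
      obtain ⟨d, hd⟩ : ∃ d, finrank k (Cs σ f0 0) = d := ⟨_, rfl⟩
      have hSp := finrank_Sp hk (ρ := σ) f0
      have := Submodule.finrank_le (Sp σ f0)
      have hone : finrank k (Cs σ f0 0) = 1 := by omega
      have htop : Sp σ f0 = ⊤ := Submodule.eq_top_of_finrank_eq (by omega)
      obtain ⟨x, hx⟩ := exists_emb (m := 3) (M := (pts f0)ᶜ) (by
        rw [Finset.card_compl, card_pts]; omega)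
      have hxc : cyc x ∈ altOn (pts f0)ᶜ := altExt_mem_altOn hx c3
      obtain ⟨c0, hc0, hc00⟩ := (Cs σ f0 0).exists_mem_ne_zero_of_ne_bot fun h => by
        rw [h, finrank_bot] at hd1; omega
      have hinv : σ (cyc x) c0 ∈ Cs σ f0 0 := ⟨apply_eig_mem_of_commute σ
        (altExt_commute_altOn f0 disjoint_compl_right _ hxc) hc0.1, apply_eig_mem_of_commute σ
        (altExt_commute_altOn f0 disjoint_compl_right _ hxc) hc0.2⟩
      obtain ⟨l, hl⟩ := (finrank_eq_one_iff_of_nonzero' (⟨c0, hc0⟩ : Cs σ f0 0)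
        (by simpa using hc00)).1 hone ⟨_, hinv⟩
      have hl0 : σ (cyc x) c0 = l • c0 := (congrArg Subtype.val hl).symm
      have hrc : rot f0 * cyc x = cyc x * rot f0 :=
        (altExt_commute_altOn f0 disjoint_compl_right _ hxc).symm
      have hmap : ∀ i, (∀ c ∈ Cs σ f0 i, σ (cyc x) c = l • c) →
          ∀ c ∈ Cs σ f0 (i + 1), σ (cyc x) c = l • c := by
        intro i hi c hc
        rw [← rot_Cs] at hc
        obtain ⟨b, hb, rfl⟩ := hc
        rw [← rho_mul, ← hrc, rho_mul, hi b hb, map_smul]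
      have hC0 : ∀ c ∈ Cs σ f0 0, σ (cyc x) c = l • c := by
        intro c hc
        obtain ⟨t, ht⟩ := (finrank_eq_one_iff_of_nonzero' (⟨c0, hc0⟩ : Cs σ f0 0)
          (by simpa using hc00)).1 hone ⟨c, hc⟩
        rw [show c = t • c0 from (congrArg Subtype.val ht).symm, map_smul, hl0, smul_comm]
      have hscal : ∀ w, σ (cyc x) w = l • w := by
        intro w
        have hw : w ∈ Sp σ f0 := by rw [htop]; trivial
        obtain ⟨y, hy, c2, h2, rfl⟩ := Submodule.mem_sup.1 hw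
        obtain ⟨a0, h0, a1, h1, rfl⟩ := Submodule.mem_sup.1 hy
        rw [map_add, map_add, hC0 a0 h0, hmap 0 hC0 a1 h1, hmap 1 (hmap 0 hC0) c2 h2,
          smul_add, smul_add]
      refine cyc_ne_one x (center_trivial (by omega) fun g => ?_)
      have hg : σ (g * cyc x) = σ (cyc x * g) := LinearMap.ext fun w => by
        rw [rho_mul, rho_mul, hscal, hscal, map_smul]
      by_contra hne'
      refine hne (by omega) ((g * cyc x) * (cyc x * g)⁻¹) (fun h => hne' (mul_inv_eq_one.1 h)) ?_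
      rw [map_mul, hg, ← map_mul, mul_inv_cancel, map_one]
    refine ⟨h3, h4, fun h8 => ?_, fun h9 => ?_⟩
    · by_cases hDZ : DZ σ
      · obtain ⟨f, hf⟩ := exists_emb (m := 4) (M := (pts f0)ᶜ) (by
          rw [Finset.card_compl, card_pts]; omega)
        have hd : Disjoint (pts f0) (pts f) := Finset.disjoint_left.2 fun y hy hy' =>
          Finset.mem_compl.1 (hf hy') hy
        have hint : Sp σ f0 ⊓ Sp σ f = ⊥ := (Submodule.eq_bot_iff _).2 fun w hw => by
          refine Sp_fixed_eq_zero hk hw.1 fun i => ?_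
          obtain ⟨f', hf', heq⟩ := inv4_eq_dbl f0 i
          rw [heq]; exact DZ.fix hk hDZ (hd.symm.mono_right hf') w hw.2
        have h := two_disjoint_le hint
        rw [finrank_Sp hk, finrank_Sp hk, ← finrank_Cs_eq (ρ := σ) (by omega) f0 f] at h
        omega
      · obtain ⟨d, ⟨r1, -⟩, hd⟩ := hrec h8 hDZ; omega
    · by_cases hDZ : DZ σ
      · have hne4 : ∀ f : Fin 4 ↪ α, σ (dbl f) ≠ 1 := fun f => hne (by omega) _ (dbl_ne_one f)
        obtain ⟨f, hf⟩ := exists_emb (m := 4) (M := (pts f0)ᶜ) (by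
          rw [Finset.card_compl, card_pts]; omega)
        obtain ⟨d, hd, hd1', ha, hb⟩ := DZ.total hk hDZ (by omega) hne4 (M := pts f0)
          (by rw [card_pts]) (by rw [Finset.card_compl, card_pts]; omega)
        rw [card_pts] at ha hb
        refine ⟨by omega, fun hsk => ?_⟩
        by_contra hlt
        have hdone : d = 1 := by omega
        have hgeo := DZ.geometry hk hDZ (by omega) hne4 (by omega) fun e => (hd e).trans hdone
        exact hsk (hs ▸ natCast_card_eq_zero hgeo (by omega) (by omega))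
      · obtain ⟨d, ⟨r1, r2, r3, r4⟩, hd⟩ := hrec (by omega) hDZ
        constructor
        · omega
        · intro _; omega

end Cfsg.Agent.AltSection
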