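import Cfsg.Agent.Lib.AltSection.Geo

/-!
Lower bound for the degree of a representation of an alternating group in characteristic two.
-/

set_option autoImplicit false
set_option linter.unusedSectionVars false

namespace Cfsg.Agent.AltSection

open Equiv Module

variable {α : Type*} [Fintype α] [DecidableEq α]

/-- The embedding `0, 2, 1`. -/
def e021 : Fin 3 ↪ Fin 3 := ⟨![0, 2, 1], by decide⟩

theorem cyc_rev (e : Fin 3 ↪ α) : cyc (e021.trans e) = (cyc e)⁻¹ := by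
  rw [cyc, altExt_trans, cyc, ← map_inv]; exact congrArg _ (by decide)

theorem pts_rev (e : Fin 3 ↪ α) : pts (e021.trans e) = pts e := by
  ext a
  simp only [mem_pts]
  exact ⟨fun ⟨i, hi⟩ => ⟨e021 i, hi⟩, fun ⟨i, hi⟩ => ⟨e021 i, by
    rw [← hi]; exact congrArg e ((by decide : ∀ i, e021 (e021 i) = i) i)⟩⟩

/-- The union of two disjoint triples. -/
def six (e f : Fin 3 ↪ α) (h : Disjoint (pts e) (pts f)) : Fin 6 ↪ α :=
  ⟨![e 0, e 1, e 2, f 0, f 1, f 2], by
    have hd := disjoint_pts h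
    intro i j hij
    fin_cases i <;> fin_cases j <;>
      simp [e.injective.eq_iff, f.injective.eq_iff, hd, fun i j => (hd i j).symm] at hij ⊢⟩

theorem cyc_six_left (e f : Fin 3 ↪ α) (h : Disjoint (pts e) (pts f)) :
    altExt (six e f h) (altExt (⟨![0, 1, 2], by decide⟩ : Fin 3 ↪ Fin 6) c3) = cyc e := by
  rw [← altExt_trans, cyc, show (⟨![0, 1, 2], by decide⟩ : Fin 3 ↪ Fin 6).trans (six e f h) = e from
    Function.Embedding.ext fun i => by fin_cases i <;> rfl]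

theorem cyc_six_right (e f : Fin 3 ↪ α) (h : Disjoint (pts e) (pts f)) :
    altExt (six e f h) (altExt (⟨![3, 4, 5], by decide⟩ : Fin 3 ↪ Fin 6) c3) = cyc f := by
  rw [← altExt_trans, cyc, show (⟨![3, 4, 5], by decide⟩ : Fin 3 ↪ Fin 6).trans (six e f h) = f from
    Function.Embedding.ext fun i => by fin_cases i <;> rfl]

/-- An element swapping two disjoint three-cycles up to inversion. -/
theorem exists_turn (e f : Fin 3 ↪ α) (h : Disjoint (pts e) (pts f)) :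
    ∃ g ∈ altOn (pts e ∪ pts f), g * cyc e * g⁻¹ = cyc f ∧ g * cyc f * g⁻¹ = (cyc e)⁻¹ := by
  let g6 : alternatingGroup (Fin 6) :=
    ⟨swap 0 3 * swap 1 5 * swap 1 2 * swap 1 4, Perm.mem_alternatingGroup.2 (by decide)⟩
  refine ⟨altExt (six e f h) g6, altExt_mem_altOn (fun a ha => ?_) g6, ?_, ?_⟩
  · obtain ⟨i, rfl⟩ := mem_pts.1 ha
    rw [Finset.mem_union, mem_pts, mem_pts]
    fin_cases i
    exacts [Or.inl ⟨0, rfl⟩, Or.inl ⟨1, rfl⟩, Or.inl ⟨2, rfl⟩, Or.inr ⟨0, rfl⟩, Or.inr ⟨1, rfl⟩,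
      Or.inr ⟨2, rfl⟩]
  · rw [← cyc_six_left e f h, ← cyc_six_right e f h, ← map_inv, ← map_mul, ← map_mul]
    exact congrArg _ (by decide)
  · rw [← cyc_six_left e f h, ← cyc_six_right e f h, ← map_inv, ← map_inv, ← map_mul, ← map_mul]
    exact congrArg _ (by decide)

variable {k V : Type*} [Field k] [AddCommGroup V] [Module k V] [FiniteDimensional k V]
variable (ρ : alternatingGroup α →* Module.End k V) (ω : k)

/-- The moving eigenspace of a three-cycle. -/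
def Eg (e : Fin 3 ↪ α) : Submodule k V := Module.End.eigenspace (ρ (cyc e)) ω

/-- The two moving eigenspaces. -/
def Sw (e : Fin 3 ↪ α) : Submodule k V := Eg ρ ω e ⊔ Eg ρ (ω ^ 2) e

variable {ρ ω}

/-- The standing assumptions on the cube root of unity. -/
structure CubeRoot (ω : k) : Prop where
  two : (2 : k) = 0
  root : ω ^ 2 + ω + 1 = 0

variable (hω : CubeRoot ω)
include hω

theorem add_self_eq_zero' (x : V) : x + x = 0 := by rw [← two_smul k x, hω.two, zero_smul]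

theorem omega_cube : ω ^ 3 = 1 := by linear_combination (ω - 1) * hω.root

theorem omega_ne_zero : ω ≠ 0 := fun h => by have := hω.root; simp [h] at this

theorem omega_ne_one : ω ≠ 1 := fun h => by
  have h1 := hω.root
  rw [h] at h1
  exact one_ne_zero (show (1 : k) = 0 by linear_combination h1 - hω.two)

theorem omega_sq_ne : ω ^ 2 ≠ ω := fun h => omega_ne_one hω
  (mul_left_cancel₀ (omega_ne_zero hω) (by rw [mul_one, ← sq]; exact h))

theorem omega_sq_ne_one : ω ^ 2 ≠ 1 := fun h => omega_ne_zero hω (by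
  linear_combination hω.root - h - hω.two)

theorem three_ne : (3 : k) ≠ 0 := fun h => one_ne_zero (show (1 : k) = 0 by
  linear_combination h - hω.two)

theorem five_ne : (5 : k) ≠ 0 := fun h => one_ne_zero (show (1 : k) = 0 by
  linear_combination h - 2 * hω.two)

theorem cubeRoot_sq : CubeRoot (ω ^ 2) :=
  ⟨hω.two, by linear_combination hω.root * (ω ^ 2 - ω + 1)⟩

theorem omega_sq_sq : (ω ^ 2) ^ 2 = ω := by
  rw [← pow_mul, show 2 * 2 = 3 + 1 from rfl, pow_succ, omega_cube hω, one_mul]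

theorem omega_inv : ω⁻¹ = ω ^ 2 := inv_eq_of_mul_eq_one_right (by rw [← pow_succ', omega_cube hω])

theorem decomp2 (e : Fin 3 ↪ α) (v : V) :
    ∃ c a b : V, ρ (cyc e) c = c ∧ a ∈ Eg ρ ω e ∧ b ∈ Eg ρ (ω ^ 2) e ∧ v = c + a + b ∧
      ∀ Y : Submodule k V, (∀ y ∈ Y, ρ (cyc e) y ∈ Y) → v ∈ Y → a ∈ Y ∧ b ∈ Y := by
  set x := ρ (cyc e) with hx
  have h3 : x (x (x v)) = v := by
    rw [hx, ← rho_mul, ← rho_mul, ← pow_three', cyc_pow_three, rho_one]
  refine ⟨v + x v + x (x v), v + ω ^ 2 • x v + ω • x (x v), v + ω • x v + ω ^ 2 • x (x v),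
    ?_, (mem_eig ρ).2 ?_, (mem_eig ρ).2 ?_, ?_, fun Y hY hv => ⟨?_, ?_⟩⟩
  · simp only [map_add, h3]; abel
  · rw [← hx]
    simp only [map_add, map_smul, h3, smul_add, smul_smul]
    rw [show ω * ω ^ 2 = 1 by rw [← pow_succ', omega_cube hω], show ω * ω = ω ^ 2 by rw [sq],
      one_smul]
    abel
  · rw [← hx]
    simp only [map_add, map_smul, h3, smul_add, smul_smul]
    rw [show ω ^ 2 * ω = 1 by rw [← pow_succ, omega_cube hω],
      show ω ^ 2 * ω ^ 2 = ω by rw [← sq, omega_sq_sq hω], one_smul]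
    abel
  · have hs : (1 + ω + ω ^ 2 : k) = 0 := by linear_combination hω.root
    have he : v + x v + x (x v) + (v + ω ^ 2 • x v + ω • x (x v)) + (v + ω • x v + ω ^ 2 • x (x v)) =
        v + (v + v) + (1 + ω + ω ^ 2) • x v + (1 + ω + ω ^ 2) • x (x v) := by
      simp only [add_smul, one_smul]; abel
    rw [he, hs, zero_smul, zero_smul, add_self_eq_zero' hω]; simp
  · exact add_mem (add_mem hv (Y.smul_mem _ (hY _ hv))) (Y.smul_mem _ (hY _ (hY _ hv)))
  · exact add_mem (add_mem hv (Y.smul_mem _ (hY _ hv))) (Y.smul_mem _ (hY _ (hY _ hv)))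

theorem Sw_fixed_eq_zero {e : Fin 3 ↪ α} {a b : V} (ha : a ∈ Eg ρ ω e) (hb : b ∈ Eg ρ (ω ^ 2) e)
    (hfix : ρ (cyc e) (a + b) = a + b) : a = 0 ∧ b = 0 := by
  rw [Eg, mem_eig] at ha hb
  have h1 : (ω - 1) • a + (ω ^ 2 - 1) • b = 0 := by
    rw [map_add, ha, hb] at hfix
    rw [sub_smul, sub_smul, one_smul, one_smul]
    calc ω • a - a + (ω ^ 2 • b - b) = (ω • a + ω ^ 2 • b) - (a + b) := by abel
      _ = 0 := sub_eq_zero.2 hfix
  have h2 : ((ω - 1) * ω) • a + ((ω ^ 2 - 1) * ω ^ 2) • b = 0 := by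
    have := congrArg (ρ (cyc e)) h1
    rwa [map_add, map_smul, map_smul, map_zero, ha, hb, smul_smul, smul_smul] at this
  have h3 : ((ω ^ 2 - 1) * (ω ^ 2 - ω)) • b = 0 := by
    calc ((ω ^ 2 - 1) * (ω ^ 2 - ω)) • b
        = (((ω - 1) * ω) • a + ((ω ^ 2 - 1) * ω ^ 2) • b) - ω • ((ω - 1) • a + (ω ^ 2 - 1) • b) := by
          module
      _ = 0 := by rw [h1, h2, smul_zero, sub_zero]
  have hb0 : b = 0 := (smul_eq_zero.1 h3).resolve_left
    (mul_ne_zero (sub_ne_zero.2 (omega_sq_ne_one hω)) (sub_ne_zero.2 (omega_sq_ne hω)))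
  rw [hb0, smul_zero, add_zero] at h1
  exact ⟨(smul_eq_zero.1 h1).resolve_left (sub_ne_zero.2 (omega_ne_one hω)), hb0⟩

theorem Sw_eq_zero {e : Fin 3 ↪ α} {x : V} (hx : x ∈ Sw ρ ω e) (hfix : ρ (cyc e) x = x) : x = 0 := by
  obtain ⟨a, ha, b, hb, rfl⟩ := Submodule.mem_sup.1 hx
  obtain ⟨h1, h2⟩ := Sw_fixed_eq_zero hω ha hb hfix
  simp [h1, h2]

theorem moved_eq_Sw (e : Fin 3 ↪ α) : moved ρ (cyc e) = Sw ρ ω e := by
  refine le_antisymm ?_ (sup_le ?_ ?_)
  · rintro _ ⟨v, rfl⟩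
    obtain ⟨c, a, b, hc, ha, hb, rfl, -⟩ := decomp2 (ρ := ρ) hω e v
    show ρ (cyc e) (c + a + b) - (c + a + b) ∈ _
    rw [map_add, map_add, hc, (mem_eig ρ).1 ha, (mem_eig ρ).1 hb,
      show c + ω • a + ω ^ 2 • b - (c + a + b) = (ω • a - a) + (ω ^ 2 • b - b) by abel]
    exact Submodule.add_mem_sup (sub_mem (Submodule.smul_mem _ _ ha) ha)
      (sub_mem (Submodule.smul_mem _ _ hb) hb)
  · intro a ha
    refine ⟨(ω - 1)⁻¹ • a, ?_⟩
    show ρ (cyc e) ((ω - 1)⁻¹ • a) - (ω - 1)⁻¹ • a = a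
    rw [map_smul, (mem_eig ρ).1 ha, ← smul_sub, show ω • a - a = (ω - 1) • a by
      rw [sub_smul, one_smul], smul_smul, inv_mul_cancel₀ (sub_ne_zero.2 (omega_ne_one hω)), one_smul]
  · intro a ha
    refine ⟨(ω ^ 2 - 1)⁻¹ • a, ?_⟩
    show ρ (cyc e) ((ω ^ 2 - 1)⁻¹ • a) - (ω ^ 2 - 1)⁻¹ • a = a
    rw [map_smul, (mem_eig ρ).1 ha, ← smul_sub, show ω ^ 2 • a - a = (ω ^ 2 - 1) • a by
      rw [sub_smul, one_smul], smul_smul, inv_mul_cancel₀ (sub_ne_zero.2 (omega_sq_ne_one hω)),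
      one_smul]

theorem Eg_rev (e : Fin 3 ↪ α) : Eg ρ (ω ^ 2) (e021.trans e) = Eg ρ ω e := by
  rw [Eg, cyc_rev, ← omega_inv hω]
  exact eig_inv ρ (omega_ne_zero hω)

theorem finrank_Eg_sq (h5 : 5 ≤ Fintype.card α) (e : Fin 3 ↪ α) :
    finrank k (Eg ρ (ω ^ 2) e) = finrank k (Eg ρ ω e) := by
  obtain ⟨g, hg⟩ := exists_move h5 e (e021.trans e)
  rw [← Eg_rev hω e, ← hg]
  rw [Eg, Eg, ← cyc_conj, ← map_eig, finrank_map_rho]

omit hω

theorem finrank_Eg_eq (h5 : 5 ≤ Fintype.card α) (μ : k) (e f : Fin 3 ↪ α) :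
    finrank k (Eg ρ μ e) = finrank k (Eg ρ μ f) := by
  obtain ⟨g, hg⟩ := exists_move h5 e f
  rw [Eg, Eg, ← hg, ← cyc_conj, ← map_eig, finrank_map_rho]

include hω

theorem finrank_Sw (h5 : 5 ≤ Fintype.card α) (e : Fin 3 ↪ α) :
    finrank k (Sw ρ ω e) = 2 * finrank k (Eg ρ ω e) := by
  have h : Eg ρ ω e ⊓ Eg ρ (ω ^ 2) e = ⊥ := (Submodule.eq_bot_iff _).2 fun x hx => by
    exact (Sw_fixed_eq_zero hω hx.1 (neg_mem hx.2) (by simp)).1
  have h1 := Submodule.finrank_sup_add_finrank_inf_eq (Eg ρ ω e) (Eg ρ (ω ^ 2) e)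
  rw [h, finrank_bot, add_zero, finrank_Eg_sq hω h5] at h1
  rw [Sw, h1]; ring

theorem one_le_finrank_Eg (h5 : 5 ≤ Fintype.card α) {e : Fin 3 ↪ α} (he : ρ (cyc e) ≠ 1) :
    1 ≤ finrank k (Eg ρ ω e) := by
  by_contra hcon
  refine he (LinearMap.ext fun v => sub_eq_zero.1 ?_)
  have hS : Sw ρ ω e = ⊥ := by
    have := finrank_Sw (ρ := ρ) hω h5 e
    rw [← Submodule.finrank_eq_zero]; omega
  have h := (moved_eq_Sw hω e).le (sub_mem_moved ρ _ v)
  rw [hS, Submodule.mem_bot] at h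
  exact h

omit hω

theorem mapsTo_Eg {μ : k} {e f : Fin 3 ↪ α} (h : Disjoint (pts e) (pts f)) :
    ∀ y ∈ Eg ρ μ e, ρ (cyc f) y ∈ Eg ρ μ e := fun _ hy =>
  apply_eig_mem_of_commute ρ (altExt_commute_altOn e h c3 (altExt_mem_altOn subset_rfl c3)) hy

include hω

/-- Four joint eigenspaces. -/
theorem two_le_of_joint {μ : k} (hμ : μ = ω ∨ μ = ω ^ 2) {e f : Fin 3 ↪ α}
    (h : Disjoint (pts e) (pts f)) {Y : Submodule k V}
    (hYe : ∀ y ∈ Y, ρ (cyc e) y ∈ Y) (hYf : ∀ y ∈ Y, ρ (cyc f) y ∈ Y)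
    (hY : ∀ g ∈ altOn (pts e ∪ pts f), ∀ y ∈ Y, ρ g y ∈ Y) {c : V} (hcY : c ∈ Y)
    (hc : c ∈ Eg ρ μ e) (hne : ρ (cyc f) c ≠ c) :
    2 ≤ finrank k (Y ⊓ Eg ρ ω e : Submodule k V) ∧
      2 ≤ finrank k (Y ⊓ Eg ρ (ω ^ 2) e : Submodule k V) := by
  obtain ⟨r, a, b, hr, ha, hb, hsum, hcl⟩ := decomp2 (ρ := ρ) hω f c
  have hmem := hcl (Y ⊓ Eg ρ μ e) (fun y hy => ⟨hYf y hy.1, mapsTo_Eg h y hy.2⟩) ⟨hcY, hc⟩
  obtain ⟨l, hl, w, hw0, hwY, hwe, hwf⟩ : ∃ l, (l = ω ∨ l = ω ^ 2) ∧ ∃ w, w ≠ 0 ∧ w ∈ Y ∧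
      ρ (cyc e) w = μ • w ∧ ρ (cyc f) w = l • w := by
    by_cases ha0 : a = 0
    · by_cases hb0 : b = 0
      · refine absurd ?_ hne
        rw [hsum, ha0, hb0, add_zero, add_zero, hr]
      · exact ⟨_, Or.inr rfl, b, hb0, hmem.2.1, (mem_eig ρ).1 hmem.2.2, (mem_eig ρ).1 hb⟩
    · exact ⟨_, Or.inl rfl, a, ha0, hmem.1.1, (mem_eig ρ).1 hmem.1.2, (mem_eig ρ).1 ha⟩
  obtain ⟨g, hg, hge, hgf⟩ := exists_turn e f h
  have hstep : ∀ {s t : k}, s ≠ 0 → t ≠ 0 → ∀ {w : V}, w ≠ 0 → w ∈ Y → ρ (cyc e) w = s • w →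
      ρ (cyc f) w = t • w → ρ g w ≠ 0 ∧ ρ g w ∈ Y ∧ ρ (cyc e) (ρ g w) = t⁻¹ • ρ g w ∧
        ρ (cyc f) (ρ g w) = s • ρ g w := by
    intro s t _ ht w hw hwY h1 h2
    refine ⟨fun h0 => hw (rho_injective_apply ρ g (h0.trans (map_zero _).symm)), hY g hg w hwY, ?_, ?_⟩
    · have h3 := apply_eig_mem ρ g (cyc f) ((mem_eig ρ).2 h2)
      rw [hgf] at h3
      have : ρ g w ∈ Module.End.eigenspace (ρ (cyc e)⁻¹) (t⁻¹)⁻¹ := by rwa [inv_inv]
      rw [eig_inv ρ (inv_ne_zero ht)] at this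
      exact (mem_eig ρ).1 this
    · have h3 := apply_eig_mem ρ g (cyc e) ((mem_eig ρ).2 h1)
      rw [hge] at h3
      exact (mem_eig ρ).1 h3
  have hμ0 : μ ≠ 0 := by
    rcases hμ with rfl | rfl
    exacts [omega_ne_zero hω, pow_ne_zero _ (omega_ne_zero hω)]
  have hl0 : l ≠ 0 := by
    rcases hl with rfl | rfl
    exacts [omega_ne_zero hω, pow_ne_zero _ (omega_ne_zero hω)]
  obtain ⟨g1, g1Y, g1e, g1f⟩ := hstep hμ0 hl0 hw0 hwY hwe hwf
  obtain ⟨g2, g2Y, g2e, g2f⟩ := hstep (inv_ne_zero hl0) hμ0 g1 g1Y g1e g1f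
  obtain ⟨g3, g3Y, g3e, g3f⟩ := hstep (inv_ne_zero hμ0) (inv_ne_zero hl0) g2 g2Y g2e g2f
  rw [inv_inv] at g3e
  -- any two of the four joint eigenvectors with the same first eigenvalue are independent
  have hind : ∀ {s t t' : k}, t ≠ t' → ∀ {u u' : V}, u ≠ 0 → u' ≠ 0 → u ∈ Y → u' ∈ Y →
      ρ (cyc e) u = s • u → ρ (cyc e) u' = s • u' → ρ (cyc f) u = t • u →
      ρ (cyc f) u' = t' • u' → 2 ≤ finrank k (Y ⊓ Eg ρ s e : Submodule k V) := by
    intro s t t' htt u u' hu hu' huY hu'Y h1 h1' h2 h2'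
    have hli : LinearIndependent k ![u, u'] := LinearIndependent.pair_iff.2 fun p q hpq => by
      have h' := congrArg (ρ (cyc f)) hpq
      rw [map_add, map_smul, map_smul, map_zero, h2, h2', smul_smul, smul_smul] at h'
      have h'' : (p * (t - t')) • u = 0 := by
        calc (p * (t - t')) • u = ((p * t) • u + (q * t') • u') - t' • (p • u + q • u') := by
              module
          _ = 0 := by rw [h', hpq, smul_zero, sub_zero]
      have hp : p = 0 := by
        rcases mul_eq_zero.1 ((smul_eq_zero.1 h'').resolve_right hu) with h | h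
        exacts [h, absurd (sub_eq_zero.1 h) htt]
      rw [hp, zero_smul, zero_add] at hpq
      exact ⟨hp, (smul_eq_zero.1 hpq).resolve_right hu'⟩
    have hle : Submodule.span k (Set.range ![u, u']) ≤ Y ⊓ Eg ρ s e := Submodule.span_le.2 (by
      rintro _ ⟨i, rfl⟩; fin_cases i
      exacts [⟨huY, (mem_eig ρ).2 h1⟩, ⟨hu'Y, (mem_eig ρ).2 h1'⟩])
    have := Submodule.finrank_mono hle
    rwa [finrank_span_eq_card hli, Fintype.card_fin] at this
  have hsq := omega_sq_ne hω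
  have hi1 : ω⁻¹ = ω ^ 2 := omega_inv hω
  have hi2 : (ω ^ 2)⁻¹ = ω := by rw [← hi1, inv_inv]
  rcases hμ with rfl | rfl <;> rcases hl with rfl | rfl <;> simp only [hi1, hi2] at *
  -- the four cases
  · exact ⟨hind hsq.symm hw0 g3 hwY g3Y hwe g3e hwf g3f, hind hsq.symm g1 g2 g1Y g2Y g1e g2e g1f g2f⟩
  · exact ⟨hind hsq hw0 g1 hwY g1Y hwe g1e hwf g1f,
      hind hsq.symm g2 g3 g2Y g3Y g2e g3e g2f g3f⟩
  · exact ⟨hind hsq g2 g3 g2Y g3Y g2e g3e g2f g3f |>.trans le_rfl,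
      hind hsq.symm hw0 g1 hwY g1Y hwe g1e hwf g1f⟩
  · exact ⟨hind hsq g1 g2 g1Y g2Y g1e g2e g1f g2f, hind hsq hw0 g3 hwY g3Y hwe g3e hwf g3f⟩

omit hω

/-- Disjoint three-cycles multiply to zero after subtracting one. -/
def DZ2 (ρ : alternatingGroup α →* Module.End k V) : Prop :=
  ∀ e f : Fin 3 ↪ α, Disjoint (pts e) (pts f) → ∀ w ∈ moved ρ (cyc e), ρ (cyc f) w = w

theorem DZ2.fix_altOn (hDZ : DZ2 ρ) {f : Fin 3 ↪ α} {M : Finset α} (h : Disjoint M (pts f))
    {g : alternatingGroup α} (hg : g ∈ altOn M) :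
    ∀ w ∈ moved ρ g, ρ (cyc f) w = w := by
  refine fix_moved_comm ρ (altExt_commute_altOn f h.symm c3 hg).symm fun w hw => ?_
  refine fix_of_mem_closure ρ ?_ (altOn_le_closure_cyc M hg)
  rintro _ ⟨y, hy, rfl⟩
  exact hDZ f y (h.symm.mono_right hy) w hw

theorem DZ2.fix_Sb (hDZ : DZ2 ρ) {f : Fin 3 ↪ α} {M : Finset α} (h : Disjoint M (pts f))
    {w : V} (hw : w ∈ Sb ρ M) : ρ (cyc f) w = w :=
  fix_bracket ρ (fun _ hg => hDZ.fix_altOn h hg) hw

include hω

theorem DZ2.step (hDZ : DZ2 ρ) (hne : ∀ f : Fin 3 ↪ α, ρ (cyc f) ≠ 1) {M : Finset α}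
    (hM : 3 ≤ M.card) (hout : 3 ≤ Mᶜ.card) {a : α} (ha : a ∉ M) :
    Sb ρ M ≠ Sb ρ (insert a M) := by
  obtain ⟨f, hf⟩ := exists_emb hout
  have hd : Disjoint M (pts f) := Finset.disjoint_left.2 fun y hy hyf =>
    Finset.mem_compl.1 (hf hyf) hy
  exact Sb_ne_insert ρ hM hout ha (h := cyc f) (m := 3) (cyc_pow_three f)
    (by exact_mod_cast three_ne hω) (hne f) fun w hw => hDZ.fix_Sb hd hw

theorem DZ2.inter (hDZ : DZ2 ρ) {f : Fin 3 ↪ α} : Sw ρ ω f ⊓ Sb ρ (pts f)ᶜ = ⊥ :=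
  (Submodule.eq_bot_iff _).2 fun x hx =>
    Sw_eq_zero hω hx.1 (hDZ.fix_Sb disjoint_compl_left hx.2)

theorem DZ2.total (hDZ : DZ2 ρ) (h6 : 6 ≤ Fintype.card α) (hne : ∀ f : Fin 3 ↪ α, ρ (cyc f) ≠ 1)
    {M : Finset α} (hM3 : 3 ≤ M.card) (hM : 3 ≤ Mᶜ.card) :
    ∃ d, (∀ e, finrank k (Eg ρ ω e) = d) ∧ 1 ≤ d ∧
      2 * d + (M.card - 3) ≤ finrank k (Sb ρ M) ∧
      finrank k (Sb ρ M) + (Fintype.card α - 3 - M.card) + 2 * d ≤ finrank k V := by
  obtain ⟨e, he⟩ := exists_emb hM3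
  obtain ⟨f, hf⟩ := exists_emb hM
  refine ⟨finrank k (Eg ρ ω e), fun e' => finrank_Eg_eq (by omega) ω e' e,
    one_le_finrank_Eg hω (by omega) (hne e), ?_, ?_⟩
  · have h0 := finrank_Sw (ρ := ρ) hω (by omega) e
    have h1 : Sw ρ ω e ≤ Sb ρ (pts e) := by
      rw [← moved_eq_Sw hω]; exact moved_le_Sb ρ (altExt_mem_altOn subset_rfl c3)
    have h1' := Submodule.finrank_mono h1
    have h2 := Sb_chain ρ (N := M) (fun M' hM' hss a ha => hDZ.step hω hne hM' (by
      have := Finset.card_le_card hss.1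
      rw [Finset.card_compl] at hM ⊢; omega) ha) (M := pts e) (by rw [card_pts]) he
    rw [card_pts] at h2
    omega
  · have hsub : M ⊆ (pts f)ᶜ := fun y hy => Finset.mem_compl.2 fun hy' =>
      Finset.mem_compl.1 (hf hy') hy
    have h2 := Sb_chain ρ (N := (pts f)ᶜ) (fun M' hM' hss a ha => hDZ.step hω hne hM' (by
      have := Finset.card_lt_card hss
      rw [Finset.card_compl, card_pts] at this
      rw [Finset.card_compl]; omega) ha) (M := M) hM3 hsub
    have h3 := two_disjoint_le (hDZ.inter hω (f := f))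
    have h4 := finrank_Sw (ρ := ρ) hω (by omega) f
    rw [Finset.card_compl, card_pts] at h2
    have := finrank_Eg_eq (ρ := ρ) (by omega : 5 ≤ Fintype.card α) ω f e
    omega

theorem DZ2.geometry (hDZ : DZ2 ρ) (h8 : 8 ≤ Fintype.card α)
    (hne : ∀ f : Fin 3 ↪ α, ρ (cyc f) ≠ 1) (hn : finrank k V + 2 ≤ Fintype.card α)
    (hd : ∀ e, finrank k (Eg ρ ω e) = 1) : Geometry ρ := by
  have hSb : ∀ M : Finset α, 3 ≤ M.card → M.card + 3 ≤ Fintype.card α →
      finrank k (Sb ρ M) + 1 = M.card := by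
    intro M h1 h2
    obtain ⟨d, hd', -, ha, hb⟩ := hDZ.total hω (by omega) hne h1 (by rw [Finset.card_compl]; omega)
    obtain ⟨e, -⟩ := exists_emb h1
    have : d = 1 := by rw [← hd' e, hd e]
    omega
  refine geometry_of_Sb (fun e => ?_) (fun M hM => ?_) (fun M hM => ?_) ?_
  · rw [moved_eq_Sw hω, finrank_Sw hω (by omega), hd]
  · have := hSb M (by omega) (by omega); omega
  · have := hSb M (by omega) (by omega); omega
  · intro e v hv hfix
    rw [moved_eq_Sw hω] at hv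
    exact Sw_eq_zero hω hv (hfix _)

theorem not_DZ2 (hDZ : ¬ DZ2 ρ) : ∃ (e f : Fin 3 ↪ α) (μ : k), Disjoint (pts e) (pts f) ∧
    (μ = ω ∨ μ = ω ^ 2) ∧ ∃ c ∈ Eg ρ μ e, ρ (cyc f) c ≠ c := by
  simp only [DZ2, not_forall] at hDZ
  obtain ⟨e, f, hd, w, hw, hne⟩ := hDZ
  rw [moved_eq_Sw hω] at hw
  obtain ⟨a, ha, b, hb, rfl⟩ := Submodule.mem_sup.1 hw
  by_cases h : ρ (cyc f) a = a
  · exact ⟨e, f, _, hd, Or.inr rfl, b, hb, fun h' => hne (by rw [map_add, h, h'])⟩
  · exact ⟨e, f, _, hd, Or.inl rfl, a, ha, h⟩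

theorem finrank_Eg_pm (h5 : 5 ≤ Fintype.card α) {μ : k} (hμ : μ = ω ∨ μ = ω ^ 2) (e : Fin 3 ↪ α) :
    finrank k (Eg ρ μ e) = finrank k (Eg ρ ω e) := by
  rcases hμ with rfl | rfl
  exacts [rfl, finrank_Eg_sq hω h5 e]

omit hω

/-- The action of the complementary alternating group on an eigenspace. -/
def sideRep (μ : k) (e : Fin 3 ↪ α) :
    alternatingGroup ((pts e)ᶜ : Finset α) →* Module.End k (Eg ρ μ e) :=
  subRep (ρ.comp (alternatingGroup.ofSubtype _)) _ fun g _ hw =>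
    apply_eig_mem_of_commute ρ (altExt_commute_altOn e disjoint_compl_right c3 ⟨g, rfl⟩) hw

theorem sideRep_ne_one {μ : k} {e f : Fin 3 ↪ α} (h : Disjoint (pts e) (pts f)) {c : V}
    (hc : c ∈ Eg ρ μ e) (hne : ρ (cyc f) c ≠ c) :
    ∃ f' : Fin 3 ↪ ((pts e)ᶜ : Finset α), sideRep μ e (ρ := ρ) (cyc f') ≠ 1 := by
  let f' : Fin 3 ↪ ((pts e)ᶜ : Finset α) := ⟨fun j => ⟨f j, Finset.mem_compl.2 fun hj =>
    Finset.disjoint_left.1 h hj (mem_pts.2 ⟨j, rfl⟩)⟩,
    fun _ _ h => f.injective (congrArg Subtype.val h)⟩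
  refine ⟨f', fun h1 => hne ?_⟩
  have h2 := congrArg Subtype.val (LinearMap.congr_fun h1 ⟨c, hc⟩)
  have h3 : ρ (alternatingGroup.ofSubtype _ (cyc f')) c = c := h2
  rwa [cyc, ofSubtype_altExt] at h3

include hω

omit hω

/-- A five-cycle. -/
def u5 : alternatingGroup (Fin 5) := ⟨finRotate 5, Perm.mem_alternatingGroup.2 (by decide)⟩

/-- An element squaring the five-cycle. -/
def g7 : alternatingGroup (Fin 7) :=
  ⟨swap 1 3 * swap 1 4 * swap 1 2 * swap 5 6, Perm.mem_alternatingGroup.2 (by decide)⟩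

theorem g7_conj : g7 * altExt (Fin.castLEEmb (by decide : 5 ≤ 7)) u5 * g7⁻¹ =
    (altExt (Fin.castLEEmb (by decide : 5 ≤ 7)) u5) ^ 2 := by decide

include hω

/-- The case of eleven points and degree at most nine. -/
theorem eleven (hs : Fintype.card α = 11) (hd : ∀ e, finrank k (Eg ρ ω e) = 4)
    (hfix : ∀ e f : Fin 3 ↪ α, Disjoint (pts e) (pts f) → ∀ v, ρ (cyc f) v = v → ρ (cyc e) v = v)
    (hne : ∀ g, g ≠ 1 → ρ g ≠ 1) [IsAlgClosed k] (hn : finrank k V ≤ 9) : False := by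
  obtain ⟨F⟩ : Nonempty (Fin 11 ≃ α) := ⟨(Fintype.equivFinOfCardEq hs).symm⟩
  let ι5 : Fin 5 ↪ α := (Fin.castLEEmb (by omega)).trans F.toEmbedding
  let a : Fin 3 ↪ α := (⟨![5, 6, 7], by decide⟩ : Fin 3 ↪ Fin 11).trans F.toEmbedding
  let b : Fin 3 ↪ α := (⟨![8, 9, 10], by decide⟩ : Fin 3 ↪ Fin 11).trans F.toEmbedding
  set u := altExt ι5 u5 with hu
  have hab : Disjoint (pts a) (pts b) := by
    rw [Finset.disjoint_left]
    intro y h1 h2
    obtain ⟨i, rfl⟩ := mem_pts.1 h1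
    obtain ⟨j, hj⟩ := mem_pts.1 h2
    exact (by decide : ∀ i j : Fin 3, (![8, 9, 10] : Fin 3 → Fin 11) j ≠ ![5, 6, 7] i) i j
      (F.injective hj)
  have hua : Disjoint (pts ι5) (pts a ∪ pts b) := by
    rw [Finset.disjoint_left]
    intro y h1 h2
    obtain ⟨i, rfl⟩ := mem_pts.1 h1
    rcases Finset.mem_union.1 h2 with h2 | h2
    · obtain ⟨j, hj⟩ := mem_pts.1 h2
      exact (by decide : ∀ (j : Fin 3) (i : Fin 5),
        (![5, 6, 7] : Fin 3 → Fin 11) j ≠ Fin.castLE (by decide) i) j i (F.injective hj)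
    · obtain ⟨j, hj⟩ := mem_pts.1 h2
      exact (by decide : ∀ (j : Fin 3) (i : Fin 5),
        (![8, 9, 10] : Fin 3 → Fin 11) j ≠ Fin.castLE (by decide) i) j i (F.injective hj)
  have hcomm : ∀ g ∈ altOn (pts a ∪ pts b), g * u = u * g := fun g hg =>
    altExt_commute_altOn ι5 hua u5 hg
  have hu5 : u ^ 5 = 1 := by rw [hu, ← map_pow, show u5 ^ 5 = 1 by decide, map_one]
  have hu1 : u ≠ 1 := fun h => (by decide : u5 ≠ 1) (altExt_injective ι5 (h.trans (map_one _).symm))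
  obtain ⟨ζ, hζ1, hζ5, hζne⟩ := exists_eig_ne_one ρ hu5 (by exact_mod_cast five_ne hω) (hne u hu1)
  let ι7 : Fin 7 ↪ α := (Fin.castLEEmb (by omega)).trans F.toEmbedding
  have hsq : altExt ι7 g7 * u * (altExt ι7 g7)⁻¹ = u ^ 2 := by
    have hu7 : u = altExt ι7 (altExt (Fin.castLEEmb (by omega : 5 ≤ 7)) u5) := by
      rw [← altExt_trans, hu]; rfl
    rw [hu7, ← map_inv, ← map_mul, ← map_mul, ← map_pow]
    exact congrArg _ g7_conj
  have hdim : ∀ μ : k, μ ^ 5 = 1 → finrank k (Module.End.eigenspace (ρ u) (μ ^ 3)) =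
      finrank k (Module.End.eigenspace (ρ u) μ) := by
    intro μ hμ
    rw [← finrank_map_rho ρ (altExt ι7 g7) (Module.End.eigenspace (ρ u) μ), map_eig, hsq]
    suffices h : Module.End.eigenspace (ρ u) (μ ^ 3) = Module.End.eigenspace (ρ (u ^ 2)) μ by rw [h]
    ext v
    rw [mem_eig, mem_eig]
    constructor
    · intro h
      rw [pow_apply_eig ρ h 2, ← pow_mul, show 3 * 2 = 5 + 1 from rfl, pow_succ, hμ, one_mul]
    · intro h
      have hu6 : u = (u ^ 2) ^ 3 := by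
        rw [← pow_mul, show 2 * 3 = 5 + 1 from rfl, pow_succ, hu5, one_mul]
      conv_lhs => rw [hu6]
      exact pow_apply_eig ρ h 3
  have h15 : ∀ j : ℕ, (ζ ^ j) ^ 5 = 1 := fun j => by rw [← pow_mul, mul_comm, pow_mul, hζ5, one_pow]
  have hb1 : 1 ≤ finrank k (Module.End.eigenspace (ρ u) ζ) := one_le_finrank hζne
  have d3 := hdim ζ hζ5
  have d4 : finrank k (Module.End.eigenspace (ρ u) (ζ ^ 4)) =
      finrank k (Module.End.eigenspace (ρ u) ζ) := by
    rw [← d3, ← hdim (ζ ^ 3) (h15 3),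
      show (ζ ^ 3) ^ 3 = ζ ^ 4 by linear_combination ζ ^ 4 * hζ5]
  have d2 : finrank k (Module.End.eigenspace (ρ u) (ζ ^ 2)) =
      finrank k (Module.End.eigenspace (ρ u) ζ) := by
    rw [← d4, ← hdim (ζ ^ 4) (h15 4),
      show (ζ ^ 4) ^ 3 = ζ ^ 2 by linear_combination (ζ ^ 7 + ζ ^ 2) * hζ5]
  have hζ0 : ζ ≠ 0 := fun h => by rw [h, zero_pow (by norm_num)] at hζ5; exact zero_ne_one hζ5
  haveI : Fact (Nat.Prime 5) := ⟨by norm_num⟩
  have hord : orderOf ζ = 5 := orderOf_eq_prime hζ5 hζ1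
  let μs : Fin 4 → k := fun i => ζ ^ ((i : ℕ) + 1)
  have hμinj : Function.Injective μs := fun i j hij => by
    have := (IsPrimitiveRoot.orderOf ζ).pow_inj (by rw [hord]; omega) (by rw [hord]; omega) hij
    ext; omega
  have hindep : iSupIndep fun i : Fin 4 => Module.End.eigenspace (ρ u) (μs i) :=
    (Module.End.eigenspaces_iSupIndep (ρ u)).comp hμinj
  have hall : ∀ i, finrank k (Module.End.eigenspace (ρ u) (μs i)) =
      finrank k (Module.End.eigenspace (ρ u) ζ) := by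
    intro i
    fin_cases i
    · show finrank k (Module.End.eigenspace (ρ u) (ζ ^ 1)) = _
      rw [pow_one]
    exacts [d2, d3, d4]
  have htotal := sum_finrank_le _ hindep Finset.univ (Y := (⊤ : Submodule k V)) fun _ _ => le_top
  rw [Finset.sum_congr rfl fun i _ => hall i, finrank_top, Finset.sum_const, Finset.card_univ,
    Fintype.card_fin, smul_eq_mul] at htotal
  have hcase : ∀ i, Module.End.eigenspace (ρ u) (μs i) ≤ Module.End.eigenspace (ρ (cyc a)) 1 := by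
    intro i
    set Y := Module.End.eigenspace (ρ u) (μs i)
    have hY : ∀ g ∈ altOn (pts a ∪ pts b), ∀ y ∈ Y, ρ g y ∈ Y := fun g hg y hy =>
      apply_eig_mem_of_commute ρ (hcomm g hg) hy
    have hYa := hY (cyc a) (altExt_mem_altOn Finset.subset_union_left c3)
    have hYb := hY (cyc b) (altExt_mem_altOn Finset.subset_union_right c3)
    intro v hv
    rw [mem_eig, one_smul]
    by_contra hva
    obtain ⟨r, p, q, hr, hp, hq, hsum, hcl⟩ := decomp2 (ρ := ρ) hω a v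
    obtain ⟨hpY, hqY⟩ := hcl Y hYa hv
    have hbig : 2 ≤ finrank k (Y ⊓ Eg ρ ω a : Submodule k V) ∧
        2 ≤ finrank k (Y ⊓ Eg ρ (ω ^ 2) a : Submodule k V) := by
      by_cases hp0 : p = 0
      · have hq0 : q ≠ 0 := fun h => hva (by rw [hsum, hp0, h, add_zero, add_zero, hr])
        refine two_le_of_joint hω (Or.inr rfl) hab hYa hYb hY hqY hq fun h => hq0 ?_
        exact (Sw_fixed_eq_zero hω (zero_mem _) hq (by rw [zero_add]; exact hfix a b hab q h)).2
      · refine two_le_of_joint hω (Or.inl rfl) hab hYa hYb hY hpY hp fun h => hp0 ?_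
        exact (Sw_fixed_eq_zero hω hp (zero_mem _) (by rw [add_zero]; exact hfix a b hab p h)).1
    have h4 : 4 ≤ finrank k Y := by
      have hi : (Y ⊓ Eg ρ ω a) ⊓ (Y ⊓ Eg ρ (ω ^ 2) a) = ⊥ := (Submodule.eq_bot_iff _).2 fun x hx =>
        (Sw_fixed_eq_zero hω hx.1.2 (neg_mem hx.2.2) (by simp)).1
      have h1 := Submodule.finrank_sup_add_finrank_inf_eq (Y ⊓ Eg ρ ω a) (Y ⊓ Eg ρ (ω ^ 2) a)
      rw [hi, finrank_bot, add_zero] at h1
      have h2 := Submodule.finrank_mono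
        (sup_le inf_le_left inf_le_left : (Y ⊓ Eg ρ ω a) ⊔ (Y ⊓ Eg ρ (ω ^ 2) a) ≤ Y)
      omega
    have : finrank k Y = _ := hall i
    omega
  have hle := sum_finrank_le _ hindep Finset.univ (Y := Module.End.eigenspace (ρ (cyc a)) 1)
    fun i _ => hcase i
  rw [Finset.sum_congr rfl fun i _ => hall i, Finset.sum_const, Finset.card_univ,
    Fintype.card_fin, smul_eq_mul] at hle
  have hsmall : Sw ρ ω a ⊓ Module.End.eigenspace (ρ (cyc a)) 1 = ⊥ :=
    (Submodule.eq_bot_iff _).2 fun x hx => Sw_eq_zero hω hx.1 (by simpa using (mem_eig ρ).1 hx.2)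
  have h9 := two_disjoint_le hsmall
  rw [finrank_Sw hω (by omega), hd] at h9
  omega

/-- The bounds. -/
theorem bound_two [IsAlgClosed k] : ∀ (s : ℕ) (α : Type*) [Fintype α] [DecidableEq α] (W : Type*)
    [AddCommGroup W] [Module k W] [FiniteDimensional k W]
    (σ : alternatingGroup α →* Module.End k W),
    Fintype.card α = s → (∃ f : Fin 3 ↪ α, σ (cyc f) ≠ 1) → 6 ≤ s →
    4 ≤ finrank k W ∧ (9 ≤ s → s ≤ finrank k W + 2 ∧ ((s : k) ≠ 0 → s ≤ finrank k W + 1)) := by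
  intro s
  induction s using Nat.strong_induction_on with
  | _ s ih =>
    intro α _ _ W _ _ _ σ hs hnt h6
    obtain ⟨f0, hf0⟩ := hnt
    have hne : ∀ g : alternatingGroup α, g ≠ 1 → σ g ≠ 1 := fun g hg h =>
      hg (injective_of_apply_ne_one (by omega) σ hf0 g h)
    have hne3 : ∀ f : Fin 3 ↪ α, σ (cyc f) ≠ 1 := fun f => hne _ (cyc_ne_one f)
    have hd2 : ¬ DZ2 σ → ∀ e, 2 ≤ finrank k (Eg σ ω e) := by
      intro hDZ e'
      obtain ⟨e, f, μ, hd, hμ, c, hc, hne'⟩ := not_DZ2 hω hDZ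
      have h := (two_le_of_joint hω hμ hd (Y := ⊤) (fun _ _ => trivial) (fun _ _ => trivial)
        (fun _ _ _ _ => trivial) (c := c) trivial hc hne').1
      rw [top_inf_eq, finrank_Eg_eq (by omega) ω e e'] at h
      exact h
    have htwo : ∀ e, 2 * finrank k (Eg σ ω e) ≤ finrank k W := fun e => by
      rw [← finrank_Sw hω (by omega)]; exact Submodule.finrank_le _
    have h4 : 4 ≤ finrank k W := by
      by_cases hDZ : DZ2 σ
      · obtain ⟨d, hd, hd1, ha, hb⟩ := DZ2.total hω hDZ (by omega) hne3 (M := pts f0)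
          (by rw [card_pts]) (by rw [Finset.card_compl, card_pts]; omega)
        rw [card_pts] at ha hb; omega
      · have := hd2 hDZ f0; have := htwo f0; omega
    refine ⟨h4, fun h9 => ?_⟩
    by_cases hDZ : DZ2 σ
    · obtain ⟨d, hd, hd1, ha, hb⟩ := DZ2.total hω hDZ (by omega) hne3 (M := pts f0)
        (by rw [card_pts]) (by rw [Finset.card_compl, card_pts]; omega)
      rw [card_pts] at ha hb
      refine ⟨by omega, fun hsk => ?_⟩
      by_contra hlt
      have hdone : d = 1 := by omega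
      have hgeo := DZ2.geometry hω hDZ (by omega) hne3 (by omega) fun e => (hd e).trans hdone
      exact hsk (hs ▸ natCast_card_eq_zero hgeo (by omega) (by omega))
    · -- a nontrivial action on the eigenspaces
      have hside : ∀ (μ : k), (μ = ω ∨ μ = ω ^ 2) → ∀ e, ∃ f' : Fin 3 ↪ ((pts e)ᶜ : Finset α),
          sideRep μ e (ρ := σ) (cyc f') ≠ 1 := by
        obtain ⟨e1, f1, μ1, hd1, hμ1, c1, hc1, hne1⟩ := not_DZ2 hω hDZ
        have hmove : ∀ {μ ν : k} {e e' : Fin 3 ↪ α} {g : alternatingGroup α},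
            pts (moveEmb g e) = pts e' → (∀ c, c ∈ Eg σ μ e → σ g c ∈ Eg σ ν e') →
            ∀ {f : Fin 3 ↪ α} {c : W}, Disjoint (pts e) (pts f) → c ∈ Eg σ μ e →
              σ (cyc f) c ≠ c → ∃ f' : Fin 3 ↪ ((pts e')ᶜ : Finset α),
                sideRep ν e' (ρ := σ) (cyc f') ≠ 1 := by
          intro μ ν e e' g hpts hmap f c hd hc hne'
          refine sideRep_ne_one (f := moveEmb g f) (c := σ g c) ?_ (hmap c hc) fun h => hne' ?_
          · rw [← hpts, pts_moveEmb, pts_moveEmb]; exact (Finset.disjoint_map _).2 hd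
          · refine rho_injective_apply σ g ?_
            rw [← cyc_conj, rho_mul, rho_inv_apply, rho_mul] at h
            exact h
        intro μ hμ e
        obtain ⟨g, hg⟩ : ∃ g : alternatingGroup α, pts (moveEmb g e1) = pts e ∧
            ∀ c, c ∈ Eg σ μ1 e1 → σ g c ∈ Eg σ μ e := by
          have hi1 : μ1 = μ ∨ μ1⁻¹ = μ := by
            rcases hμ1 with rfl | rfl <;> rcases hμ with rfl | rfl
            · exact Or.inl rfl
            · exact Or.inr (omega_inv hω)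
            · exact Or.inr (by rw [← omega_inv hω, inv_inv])
            · exact Or.inl rfl
          rcases hi1 with rfl | rfl
          · obtain ⟨g, hg⟩ := exists_move (m := 3) (by omega) e1 e
            exact ⟨g, by rw [hg], fun c hc => by
              have := apply_eig_mem σ g (cyc e1) hc
              rwa [cyc_conj, hg] at this⟩
          · obtain ⟨g, hg⟩ := exists_move (m := 3) (by omega) e1 (e021.trans e)
            refine ⟨g, by rw [hg, pts_rev], fun c hc => ?_⟩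
            have h1 := apply_eig_mem σ g (cyc e1) hc
            have hμ0 : μ1 ≠ 0 := by
              rcases hμ1 with rfl | rfl
              exacts [omega_ne_zero hω, pow_ne_zero _ (omega_ne_zero hω)]
            rw [cyc_conj, hg, cyc_rev, ← eig_inv σ hμ0, inv_inv] at h1
            exact h1
        exact hmove hg.1 hg.2 hd1 hc1 hne1
      have hcardR : ∀ e : Fin 3 ↪ α, Fintype.card ((pts e)ᶜ : Finset α) = s - 3 := fun e => by
        rw [Fintype.card_coe, Finset.card_compl, card_pts, hs]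
      obtain ⟨r1, r2⟩ := ih (s - 3) (by omega) _ (Eg σ ω f0) (sideRep ω f0) (hcardR f0)
        (hside ω (Or.inl rfl) f0) (by omega)
      have hn := htwo f0
      by_cases h11 : s = 11 ∧ finrank k W ≤ 9
      · exfalso
        have hall4 : ∀ e, finrank k (Eg σ ω e) = 4 := fun e => by
          have h1 := (ih (s - 3) (by omega) _ (Eg σ ω e) (sideRep ω e) (hcardR e)
            (hside ω (Or.inl rfl) e) (by omega)).1
          have := htwo e; omega
        refine eleven hω (by omega) hall4 ?_ hne h11.2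
        intro e f hd v hv
        obtain ⟨c, a, b, hc, ha, hb, hsum, -⟩ := decomp2 (ρ := σ) hω e v
        have hkill : ∀ μ : k, (μ = ω ∨ μ = ω ^ 2) → ∀ y ∈ Eg σ μ e, σ (cyc f) y = y → y = 0 := by
          intro μ hμ y hy hfy
          let f' : Fin 3 ↪ ((pts e)ᶜ : Finset α) := ⟨fun j => ⟨f j, Finset.mem_compl.2 fun hj =>
            Finset.disjoint_left.1 hd hj (mem_pts.2 ⟨j, rfl⟩)⟩,
            fun _ _ h => f.injective (congrArg Subtype.val h)⟩
          set τ := sideRep μ e (ρ := σ) with hτ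
          have hR := hcardR e
          obtain ⟨f1, hf1⟩ := hside μ hμ e
          have hne8 : ∀ h : Fin 3 ↪ ((pts e)ᶜ : Finset α), τ (cyc h) ≠ 1 := fun h h1 =>
            cyc_ne_one h (injective_of_apply_ne_one (by omega) τ hf1 _ h1)
          have hdim4 : finrank k (Eg σ μ e) = 4 := by
            rw [finrank_Eg_pm hω (by omega) hμ]; exact hall4 e
          have hnDZ : ¬ DZ2 τ := by
            intro hDZ'
            obtain ⟨d, -, hd1, ha', hb'⟩ := DZ2.total hω hDZ' (by omega) hne8 (M := pts f1)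
              (by rw [card_pts]) (by rw [Finset.card_compl, card_pts]; omega)
            rw [card_pts] at ha' hb'; omega
          have hd2' : 2 ≤ finrank k (Eg τ ω f') := by
            obtain ⟨e', f'', ν, hd', hν, c', hc', hne'⟩ := not_DZ2 hω hnDZ
            have h := (two_le_of_joint hω hν hd' (Y := ⊤) (fun _ _ => trivial) (fun _ _ => trivial)
              (fun _ _ _ _ => trivial) (c := c') trivial hc' hne').1
            rw [top_inf_eq, finrank_Eg_eq (by omega) ω e' f'] at h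
            exact h
          have htop : Sw τ ω f' = ⊤ := Submodule.eq_top_of_finrank_eq (by
            have := Submodule.finrank_le (Sw τ ω f')
            rw [finrank_Sw hω (by omega)] at this ⊢; omega)
          have hf'' : τ (cyc f') ⟨y, hy⟩ = ⟨y, hy⟩ := Subtype.ext (by
            show σ (alternatingGroup.ofSubtype _ (cyc f')) y = y
            rw [cyc, ofSubtype_altExt]
            exact hfy)
          have := Sw_eq_zero hω (e := f') (ρ := τ) (x := ⟨y, hy⟩) (by rw [htop]; trivial) hf''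
          exact congrArg Subtype.val this
        have hfe : ∀ {μ : k} {y : W}, y ∈ Eg σ μ e → σ (cyc f) y ∈ Eg σ μ e := fun hy =>
          mapsTo_Eg hd _ hy
        have h0 : σ (cyc e) (σ (cyc f) c) = σ (cyc f) c := by
          rw [← rho_mul, show cyc e * cyc f = cyc f * cyc e from
            altExt_commute_altOn f hd.symm c3 (altExt_mem_altOn subset_rfl c3), rho_mul]
          rw [show σ (cyc e) c = c from hc]
        have hsum' : (σ (cyc f) c - c) + ((σ (cyc f) a - a) + (σ (cyc f) b - b)) = 0 := by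
          rw [← sub_self v]
          nth_rewrite 1 [← hv]
          rw [hsum, map_add, map_add]; abel
        have hab : (σ (cyc f) a - a) + (σ (cyc f) b - b) = 0 := by
          refine Sw_eq_zero hω (e := e) (ρ := σ) (Submodule.add_mem_sup
            (sub_mem (hfe ha) ha) (sub_mem (hfe hb) hb)) ?_
          rw [eq_neg_of_add_eq_zero_right hsum', map_neg, map_sub, h0, hc]
        obtain ⟨h1, h2⟩ := Sw_fixed_eq_zero hω (sub_mem (hfe ha) ha) (sub_mem (hfe hb) hb)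
          (by rw [hab, map_zero])
        rw [hsum, hkill ω (Or.inl rfl) a ha (sub_eq_zero.1 h1),
          hkill (ω ^ 2) (Or.inr rfl) b hb (sub_eq_zero.1 h2), add_zero, add_zero, hc]
      · constructor
        · by_cases h12 : 12 ≤ s
          · have := (r2 (by omega)).1; omega
          · omega
        · intro hsk
          by_cases h12 : 12 ≤ s
          · have := (r2 (by omega)).1; omega
          · have h10 : s ≠ 10 := fun h => hsk (by
              rw [h, show ((10 : ℕ) : k) = 2 * 5 by norm_num, hω.two, zero_mul])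
            omega

end Cfsg.Agent.AltSection
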