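import Cfsg.Agent.Lib.AltSection.Reduce

/-!
The lower bound for the degree of an alternating section of a linear group.
-/

set_option autoImplicit false
set_option linter.unusedSectionVars false
set_option maxHeartbeats 800000

namespace Cfsg.Agent.AltSection

open Equiv Module
open scoped commutatorElement

namespace Step

variable {m n : ℕ} {K V H : Type} [Field K] [IsAlgClosed K] [AddCommGroup V] [Module K V]
  [FiniteDimensional K V] [Group H] [Finite H] (S : Step m n K V H)

include S

theorem ker_le_frattini : S.φ.ker ≤ frattini H :=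
  le_iInf fun M => le_iInf fun hM => by
    by_contra hne
    have htop : M ⊔ S.φ.ker = ⊤ := hM.2 _ (lt_of_le_of_ne le_sup_left fun h => hne (h ▸ le_sup_right))
    refine hM.1 (S.min M ?_)
    have h := congrArg (Subgroup.map S.φ) htop
    rwa [Subgroup.map_sup, (Subgroup.map_eq_bot_iff _).2 le_rfl, sup_bot_eq,
      Subgroup.map_top_of_surjective _ S.surj] at h

/-- A noncentral kernel is impossible. -/
theorem ker_le_center (hscal : ∀ (B : Subgroup H) [B.Normal], (∀ x ∈ B, ∀ y ∈ B, x * y = y * x) →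
      ∀ b ∈ B, ∃ c : K, ∀ v, S.ρ b v = c • v) :
    S.φ.ker ≤ Subgroup.center H := by
  classical
  haveI := S.nontrivial
  set C := Subgroup.center H with hC
  have hcen : ∀ (B : Subgroup H) [B.Normal], (∀ x ∈ B, ∀ y ∈ B, x * y = y * x) → B ≤ C := by
    intro B _ hB b hb
    obtain ⟨c, hc⟩ := hscal B hB b hb
    exact Subgroup.mem_center_iff.2 fun g => S.inj (LinearMap.ext fun v => by
      rw [rho_mul, rho_mul, hc, hc, map_smul])
  have hcscal : ∀ b ∈ C, ∃ c : K, ∀ v, S.ρ b v = c • v :=
    hscal C fun x _ y hy => Subgroup.mem_center_iff.1 hy x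
  by_contra hnot
  obtain ⟨R, ⟨hRn, hRle, hRC⟩, hRmin⟩ := wellFounded_lt.has_min
    {R : Subgroup H | R.Normal ∧ R ≤ S.φ.ker ∧ ¬ R ≤ C} ⟨S.φ.ker, inferInstance, le_rfl, hnot⟩
  haveI := hRn
  have hmin : ∀ R' : Subgroup H, R'.Normal → R' < R → R' ≤ C := fun R' hn hlt => by
    by_contra h
    exact hRmin R' ⟨hn, hlt.le.trans hRle, h⟩ hlt
  -- class two
  have hcomm : ∀ x ∈ R, ∀ y ∈ R, ⁅x, y⁆ ∈ C := by
    haveI := frattini_nilpotent (G := H)
    haveI : Group.IsSolvable R := Group.isSolvable_of_isSolvable_injective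
      (Subgroup.inclusion_injective (hRle.trans S.ker_le_frattini))
    haveI : Nontrivial R := (Subgroup.nontrivial_iff_ne_bot R).2 fun h => hRC (h ▸ bot_le)
    have hlt : ⁅R, R⁆ < R := by
      rw [← Subgroup.map_subtype_commutator]
      have h := IsSolvable.commutator_lt_top_of_nontrivial (G := R)
      have := Subgroup.map_lt_map_iff_of_injective (f := R.subtype) Subtype.val_injective |>.2 h
      rwa [← MonoidHom.range_eq_map, Subgroup.range_subtype] at this
    intro x hx y hy
    exact hmin _ inferInstance hlt (Subgroup.commutator_mem_commutator hx hy)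
  -- the quotient by the centre
  let C' := C.subgroupOf R
  haveI hC' : C'.Normal := inferInstance
  obtain ⟨x0, hx0, hx0C⟩ := SetLike.not_le_iff_exists.1 hRC
  haveI : Nontrivial (R ⧸ C') := ⟨⟨QuotientGroup.mk ⟨x0, hx0⟩, 1, fun h =>
    hx0C ((QuotientGroup.eq_one_iff (N := C') (⟨x0, hx0⟩ : R)).1 h)⟩⟩
  obtain ⟨ℓ, hℓ, hℓdvd⟩ := Nat.exists_prime_and_dvd
    (show Nat.card (R ⧸ C') ≠ 1 from (Finite.one_lt_card (α := R ⧸ C')).ne')
  haveI := Fact.mk hℓ
  have hQcomm : ∀ a b : R ⧸ C', a * b = b * a := fun a b => by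
    obtain ⟨a, rfl⟩ := QuotientGroup.mk'_surjective C' a
    obtain ⟨b, rfl⟩ := QuotientGroup.mk'_surjective C' b
    rw [← commutatorElement_eq_one_iff_mul_comm, ← map_commutatorElement]
    exact (QuotientGroup.eq_one_iff _).2 (hcomm _ a.2 _ b.2)
  have hmkpow : ∀ (a : R) (j : ℕ), (QuotientGroup.mk' C' a) ^ j = 1 ↔ (a : H) ^ j ∈ C :=
    fun a j => by
      rw [← map_pow]
      exact (QuotientGroup.eq_one_iff _).trans Iff.rfl
  let R1 : Subgroup H :=
    { carrier := {x | x ∈ R ∧ x ^ ℓ ∈ C}
      one_mem' := ⟨one_mem _, by rw [one_pow]; exact one_mem _⟩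
      mul_mem' := fun {a b} ha hb => ⟨mul_mem ha.1 hb.1, (hmkpow ⟨a * b, mul_mem ha.1 hb.1⟩ ℓ).1 (by
        rw [show (⟨a * b, mul_mem ha.1 hb.1⟩ : R) = ⟨a, ha.1⟩ * ⟨b, hb.1⟩ from rfl, map_mul,
          (show Commute _ _ from hQcomm _ _).mul_pow, (hmkpow ⟨a, ha.1⟩ ℓ).2 ha.2,
          (hmkpow ⟨b, hb.1⟩ ℓ).2 hb.2, one_mul])⟩
      inv_mem' := fun {a} ha => ⟨inv_mem ha.1, by rw [inv_pow]; exact inv_mem ha.2⟩ }
  have hR1n : R1.Normal := ⟨fun a ha g => ⟨hRn.conj_mem a ha.1 g, by
    rw [conj_pow]; exact (inferInstance : C.Normal).conj_mem _ ha.2 g⟩⟩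
  have hexp : ∀ x ∈ R, x ^ ℓ ∈ C := by
    have hle : R1 ≤ R := fun a ha => ha.1
    rcases eq_or_lt_of_le hle with h | h
    · exact fun x hx => (show x ∈ R1 by rw [h]; exact hx).2
    exfalso
    have h1 := hmin R1 hR1n h
    obtain ⟨q, hq⟩ := exists_prime_orderOf_dvd_card' ℓ hℓdvd
    obtain ⟨a, rfl⟩ := QuotientGroup.mk'_surjective C' q
    have ha : (a : H) ^ ℓ ∈ C := (hmkpow a ℓ).1 (by rw [← hq]; exact pow_orderOf_eq_one _)
    have : (a : H) ∈ C := h1 ⟨a.2, ha⟩
    rw [show QuotientGroup.mk' C' a = 1 from (QuotientGroup.eq_one_iff _).2 this, orderOf_one] at hq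
    exact hℓ.ne_one hq.symm
  -- the commutator pairing
  have hnondeg : ∀ x ∈ R, (∀ y ∈ R, ⁅y, x⁆ = 1) → x ∈ C := by
    intro x hx h
    let Z : Subgroup H := R ⊓ Subgroup.centralizer (R : Set H)
    haveI : (Subgroup.centralizer (R : Set H)).Normal := inferInstance
    haveI : Z.Normal := inferInstance
    refine hcen Z (fun a ha b hb => (Subgroup.mem_centralizer_iff.1 hb.2 a ha.1)) ⟨hx, ?_⟩
    exact Subgroup.mem_centralizer_iff.2 fun y hy => commutatorElement_eq_one_iff_mul_comm.1 (h y hy)
  let T : R ⧸ C' → Module.End K V := fun q => S.ρ ((Quotient.out q : R) : H)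
  have hex : ∀ (q : R ⧸ C') (y : R), ∃ c : K, ∀ v, S.ρ ⁅(y : H), ((Quotient.out q : R) : H)⁆ v = c • v :=
    fun q y => hcscal _ (hcomm _ y.2 _ (Quotient.out q).2)
  choose lam hlam using hex
  obtain ⟨v0, hv0⟩ := exists_ne (0 : V)
  let χ : R ⧸ C' → R →* K := fun q =>
    { toFun := lam q
      map_one' := smul_left_injective K hv0 (by
        show lam q 1 • v0 = (1 : K) • v0
        rw [← hlam, one_smul, Subgroup.coe_one, commutatorElement_one_left, rho_one])
      map_mul' := fun a b => smul_left_injective K hv0 (by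
        show lam q (a * b) • v0 = (lam q a * lam q b) • v0
        set x := ((Quotient.out q : R) : H)
        have hb : (a : H) * ⁅(b : H), x⁆ = ⁅(b : H), x⁆ * (a : H) :=
          Subgroup.mem_center_iff.1 (hcomm _ b.2 _ (Quotient.out q).2) (a : H)
        have e : ⁅(a : H) * b, x⁆ = ⁅(b : H), x⁆ * ⁅(a : H), x⁆ := by
          rw [commutatorElement_def, show (a : H) * b * x * (a * b : H)⁻¹ * x⁻¹ =
            ((a : H) * ⁅(b : H), x⁆) * (x * (a : H)⁻¹ * x⁻¹) by rw [commutatorElement_def]; group,
            hb, commutatorElement_def (a : H) x]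
          group
        rw [← hlam, Subgroup.coe_mul, e, rho_mul, hlam q a, map_smul, hlam q b, smul_smul, mul_comm]) }
  have hχ_apply : ∀ q y, χ q y = lam q y := fun _ _ => rfl
  have hχinj : Function.Injective χ := by
    intro q q' hqq
    have hy : ∀ y ∈ R, ⁅y, ((Quotient.out q : R) : H)⁆ = ⁅y, ((Quotient.out q' : R) : H)⁆ :=
      fun y hy => S.inj (LinearMap.ext fun v => by
        rw [hlam q ⟨y, hy⟩, hlam q' ⟨y, hy⟩, ← hχ_apply, ← hχ_apply, hqq])
    rw [← Quotient.out_eq q, ← Quotient.out_eq q']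
    refine QuotientGroup.eq.2 (hnondeg _ (mul_mem (inv_mem (Quotient.out q).2) (Quotient.out q').2)
      fun y hy' => commutatorElement_eq_one_iff_mul_comm.2 ?_)
    have h := hy y hy'
    set x := ((Quotient.out q : R) : H)
    set x' := ((Quotient.out q' : R) : H)
    have e2 : y * x' = ⁅y, x⁆ * x' * y := by rw [h, commutatorElement_def]; group
    have hxy : x * y = ⁅y, x⁆⁻¹ * (y * x) := by rw [commutatorElement_def]; group
    calc y * (x⁻¹ * x') = x⁻¹ * (x * y) * (x⁻¹ * x') := by group
      _ = x⁻¹ * (⁅y, x⁆⁻¹ * (y * x')) := by rw [hxy]; group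
      _ = x⁻¹ * (⁅y, x⁆⁻¹ * (⁅y, x⁆ * x' * y)) := by rw [← e2]
      _ = x⁻¹ * x' * y := by group
  let act : R → Module.End K (Module.End K V) := fun y =>
    (LinearMap.mulLeft K (S.ρ y)).comp (LinearMap.mulRight K (S.ρ (y : H)⁻¹))
  have hTne : ∀ q, T q ≠ 0 := fun q h => hv0 (rho_injective_apply S.ρ _ (by
    show T q v0 = T q 0
    rw [h]; rfl))
  have hTact : ∀ q y, act y (T q) = χ q y • T q := fun q y => LinearMap.ext fun v => by
    show S.ρ y (S.ρ ((Quotient.out q : R) : H) (S.ρ (y : H)⁻¹ v)) =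
      lam q y • S.ρ ((Quotient.out q : R) : H) v
    rw [← rho_mul, ← rho_mul, ← hlam, ← rho_mul, commutatorElement_def]; group
  have hind := indep_chars χ hχinj act T hTne hTact
  have hQle : Nat.card (R ⧸ C') ≤ n * n := by
    haveI := Fintype.ofFinite (R ⧸ C')
    have h := hind.fintype_card_le_finrank
    rwa [Module.finrank_linearMap, S.dim, ← Nat.card_eq_fintype_card] at h
  -- the action on the quotient
  letI : CommGroup (R ⧸ C') := { (inferInstance : Group (R ⧸ C')) with mul_comm := hQcomm }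
  have hconj : ∀ g : H, C' ≤ C'.comap (MulAut.conjNormal g : MulAut R).toMonoidHom :=
    fun g a ha => by
      show ((MulAut.conjNormal g a : R) : H) ∈ C
      rw [MulAut.conjNormal_apply]
      exact (inferInstance : C.Normal).conj_mem _ ha g
  let qm : H → (R ⧸ C' →* R ⧸ C') := fun g =>
    QuotientGroup.map C' C' (MulAut.conjNormal g : MulAut R).toMonoidHom (hconj g)
  have qm_mk : ∀ g (a : R), qm g (QuotientGroup.mk a) = QuotientGroup.mk (MulAut.conjNormal g a) :=
    fun g a => rfl
  let τ : H →* AddMonoid.End (Additive (R ⧸ C')) :=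
    { toFun := fun g => MonoidHom.toAdditive (qm g)
      map_one' := DFunLike.ext _ _ fun x => by
        obtain ⟨a, ha⟩ := QuotientGroup.mk'_surjective C' x.toMul
        show Additive.ofMul (qm 1 x.toMul) = x
        rw [← ha, QuotientGroup.mk'_apply, qm_mk, map_one, MulAut.one_apply,
          ← QuotientGroup.mk'_apply, ha]
        rfl
      map_mul' := fun g h => DFunLike.ext _ _ fun x => by
        obtain ⟨a, ha⟩ := QuotientGroup.mk'_surjective C' x.toMul
        show Additive.ofMul (qm (g * h) x.toMul) = Additive.ofMul (qm g (qm h x.toMul))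
        rw [← ha, QuotientGroup.mk'_apply, qm_mk, qm_mk, qm_mk, map_mul, MulAut.mul_apply] }
  have hτ : ∀ g, τ g = 1 → S.φ g = 1 := by
    rcases S.normal_cases τ.ker with h | h
    · exact fun g hg => h g hg
    exfalso
    have hle : ⁅(⊤ : Subgroup H), R⁆ ≤ C := Subgroup.commutator_le.2 fun g _ x hx => by
      have h1 : τ g = 1 := MonoidHom.mem_ker.1 (h ▸ Subgroup.mem_top g : g ∈ τ.ker)
      have h2 : qm g (QuotientGroup.mk ⟨x, hx⟩) = QuotientGroup.mk ⟨x, hx⟩ :=
        congrArg Additive.toMul
          (DFunLike.congr_fun h1 (Additive.ofMul (QuotientGroup.mk (⟨x, hx⟩ : R))))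
      rw [qm_mk, eq_comm, QuotientGroup.eq] at h2
      have h3 : x⁻¹ * (g * x * g⁻¹) ∈ C := h2
      rw [commutatorElement_def]
      have h4 := Subgroup.mem_center_iff.1 h3 x
      rw [show g * x * g⁻¹ * x⁻¹ = x * (x⁻¹ * (g * x * g⁻¹)) * x⁻¹ by group, h4,
        mul_inv_cancel_right]
      exact h3
    have hb : ⁅C, (⊤ : Subgroup H)⁆ = ⊥ := Subgroup.commutator_eq_bot_iff_le_centralizer.2
      (by rw [Subgroup.coe_top, Subgroup.centralizer_univ])
    have h12 : ⁅⁅(⊤ : Subgroup H), ⊤⁆, R⁆ = ⊥ := Subgroup.commutator_commutator_eq_bot_of_rotate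
      (eq_bot_iff.2 ((Subgroup.commutator_mono hle le_rfl).trans hb.le))
      (eq_bot_iff.2 ((Subgroup.commutator_mono ((Subgroup.commutator_comm R ⊤).trans_le hle)
        le_rfl).trans hb.le))
    rw [← commutator_def, S.perfect, Subgroup.commutator_comm,
      Subgroup.commutator_eq_bot_iff_le_centralizer, Subgroup.coe_top, Subgroup.centralizer_univ]
      at h12
    exact hRC h12
  obtain ⟨d, σ, hcard, hσ, hsize⟩ := exists_linearization ℓ (fun x => by
    obtain ⟨a, ha⟩ := QuotientGroup.mk'_surjective C' x.toMul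
    apply Additive.toMul.injective
    rw [toMul_nsmul, ← ha, toMul_zero]
    exact (hmkpow a ℓ).2 (hexp _ a.2)) τ
  rw [Nat.card_congr Additive.toMul] at hcard
  by_cases hdn : d < n
  · have h := (S.image σ (fun g hg => hτ g (hσ g hg)) (by
      rw [Module.finrank_fin_fun]; exact hdn)).1
    rw [Module.finrank_fin_fun] at h
    have := S.small
    omega
  · push Not at hdn
    have hn0 : 0 < n := S.dim ▸ Module.finrank_pos
    have hd : ℓ ^ d ≤ n * n := hcard ▸ hQle
    have hpow : ℓ ^ n ≤ n * n := (Nat.pow_le_pow_right hℓ.pos hdn).trans hd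
    have h3 : ∀ j : ℕ, 1 ≤ j → j * j < 3 ^ j := fun j hj => by
      induction j, hj using Nat.le_induction with
      | base => norm_num
      | succ j hj ih => rw [pow_succ]; nlinarith
    have h2 : ∀ j : ℕ, 5 ≤ j → j * j < 2 ^ j := fun j hj => by
      induction j, hj using Nat.le_induction with
      | base => norm_num
      | succ j hj ih => rw [pow_succ]; nlinarith
    have hℓ2 : ℓ = 2 := by
      by_contra h
      have h' : 3 ≤ ℓ := by have := hℓ.two_le; omega
      have := Nat.pow_le_pow_left h' n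
      have := h3 n hn0
      omega
    subst hℓ2
    have hn4 : n ≤ 4 := by
      by_contra h
      have := h2 n (by omega)
      omega
    have hd4 : d ≤ 4 := by
      by_contra h
      have h5 : 2 ^ 5 ≤ 2 ^ d := Nat.pow_le_pow_right two_pos (by omega)
      have : n * n ≤ 4 * 4 := Nat.mul_le_mul hn4 hn4
      omega
    choose s hs using S.surj
    have hinj : Function.Injective fun a => τ (s a) := fun a b hab => by
      have h := hτ ((s a)⁻¹ * s b) (by
        rw [map_mul, show τ (s b) = τ (s a) from hab.symm, ← map_mul, inv_mul_cancel, map_one])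
      rwa [map_mul, map_inv, hs, hs, inv_mul_eq_one] at h
    have hA := hsize s hinj
    have hA2 : 2 ^ (d * d) ≤ 2 ^ (4 * 4) :=
      Nat.pow_le_pow_right two_pos (Nat.mul_le_mul hd4 hd4)
    have h9 := two_mul_card_alt m
    have := Nat.factorial_le (show 9 ≤ m + 2 by have := S.hm; omega)
    rw [show Nat.factorial 9 = 362880 from rfl] at this
    norm_num at hA2
    omega

/-- The case of a central kernel. -/
theorem bound_central (hscal : ∀ b ∈ Subgroup.center H, ∃ c : K, ∀ v, S.ρ b v = c • v)
    (hker : S.φ.ker ≤ Subgroup.center H) : Concl m K n := by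
  haveI := S.nontrivial
  have hm := S.hm
  have hcard : Fintype.card (Fin (m + 2)) = m + 2 := Fintype.card_fin _
  have h2 : Nat.card S.φ.ker ≤ 2 :=
    S0892.result (m + 2) (by omega) (by omega) (by omega) S.φ.ker hker
      (by rw [S.perfect]; exact le_top) (QuotientGroup.quotientKerEquivOfSurjective S.φ S.surj)
  by_cases h1 : ∀ g, S.φ g = 1 → g = 1
  · let e := MulEquiv.ofBijective S.φ ⟨(injective_iff_map_eq_one _).2 h1, S.surj⟩
    let σ := S.ρ.comp e.symm.toMonoidHom
    have hinj : Function.Injective σ := S.inj.comp e.symm.injective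
    have hne : ∀ g, g ≠ 1 → σ g ≠ 1 := fun g hg h => hg (hinj (h.trans (map_one σ).symm))
    rw [← S.dim]
    by_cases hk : (2 : K) = 0
    · obtain ⟨ω, hω⟩ := IsAlgClosed.exists_root
        (Polynomial.X ^ 2 + Polynomial.X + 1 : Polynomial K) (by
          rw [show (Polynomial.X ^ 2 + Polynomial.X + 1 : Polynomial K) =
            Polynomial.C 1 * Polynomial.X ^ 2 + Polynomial.C 1 * Polynomial.X + Polynomial.C 1 by simp,
            Polynomial.degree_quadratic one_ne_zero]
          decide)
      have hω' : CubeRoot ω := ⟨hk, by simpa [Polynomial.IsRoot] using hω⟩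
      obtain ⟨f, -⟩ := exists_emb (M := (Finset.univ : Finset (Fin (m + 2)))) (m := 3)
        (by rw [Finset.card_univ, hcard]; omega)
      exact ((bound_two hω' (m + 2) _ V σ hcard ⟨f, hne _ (cyc_ne_one f)⟩ (by omega)).2 (by omega))
    · obtain ⟨f, -⟩ := exists_emb (M := (Finset.univ : Finset (Fin (m + 2)))) (m := 4)
        (by rw [Finset.card_univ, hcard]; omega)
      exact ((bound_odd hk (m + 2) _ V σ hcard ⟨f, hne _ (dbl_ne_one f)⟩).2.2.2 (by omega))
  · push Not at h1
    obtain ⟨z, hz, hz1⟩ := h1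
    have hzc : z ∈ Subgroup.center H := hker hz
    have hker2 : ∀ g, S.φ g = 1 → g = 1 ∨ g = z := fun g hg => by
      by_contra hcon
      push Not at hcon
      classical
      haveI := Fintype.ofFinite S.φ.ker
      rw [Nat.card_eq_fintype_card] at h2
      have : ({1, ⟨z, hz⟩, ⟨g, hg⟩} : Finset S.φ.ker).card = 3 := by
        rw [Finset.card_eq_three]
        exact ⟨_, _, _, fun e => hz1 (congrArg Subtype.val e).symm,
          fun e => hcon.1 (congrArg Subtype.val e).symm,
          fun e => hcon.2 (congrArg Subtype.val e).symm, rfl⟩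
      have := Finset.card_le_univ ({1, ⟨z, hz⟩, ⟨g, hg⟩} : Finset S.φ.ker)
      omega
    let C : Cover (Fin (m + 2)) H :=
      ⟨S.φ, S.surj, z, hz, hker2, fun g => Subgroup.mem_center_iff.1 hzc g, hz1, S.perfect⟩
    obtain ⟨c, hc⟩ := hscal z hzc
    obtain ⟨v, hv⟩ := exists_ne (0 : V)
    have hc2 : c * c = 1 := by
      refine smul_left_injective K hv (?_ : (c * c) • v = (1 : K) • v)
      rw [← smul_smul, ← hc v, ← hc (S.ρ z v), ← rho_mul,
        show z * z = 1 from C.z_mul_z, rho_one, one_smul]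
    have hc1 : c ≠ 1 := fun h => hz1 (S.inj (LinearMap.ext fun w => by
      rw [hc, h, one_smul, rho_one]))
    have hcneg : c = -1 := (mul_self_eq_one_iff.1 hc2).resolve_left hc1
    have h2k : (2 : K) ≠ 0 := fun h => hc1 (by
      rw [hcneg]; linear_combination -h)
    let R : SpinRep C K V := ⟨S.ρ, h2k, fun w => by
      show S.ρ z w = -w
      rw [hc, hcneg, neg_one_smul]⟩
    rw [← S.dim]
    exact R.bound hm

theorem bound : Concl m K n := by
  by_contra hno
  have hirr := S.not_small fun hd h => hno (h.mono hd)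
  refine hno (S.bound_central (S.scalar hirr (Subgroup.center H) fun x _ y hy =>
    Subgroup.mem_center_iff.1 hy x) (S.ker_le_center fun B _ hB => S.scalar hirr B hB))

end Step

/-- The bound in every degree. -/
theorem holds {m : ℕ} (hm : 7 ≤ m) : ∀ n, Holds m n := by
  intro n
  induction n using Nat.strong_induction_on with
  | _ n ih =>
    intro K _ _ V _ _ _ H _ _ ρ hinj φ hφ hdim
    by_cases hsmall : n + 1 < m + 2
    · obtain ⟨L, hL, hLmin⟩ := wellFounded_lt.has_min {L : Subgroup H | L.map φ = ⊤}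
        ⟨⊤, Subgroup.map_top_of_surjective φ hφ⟩
      let S : Step m n K V L :=
        { ρ := ρ.comp L.subtype
          inj := hinj.comp Subtype.val_injective
          φ := φ.comp L.subtype
          surj := fun a => by
            obtain ⟨g, hg, e⟩ : a ∈ L.map φ := by rw [show L.map φ = ⊤ from hL]; trivial
            exact ⟨⟨g, hg⟩, e⟩
          dim := hdim
          hm := hm
          ih := ih
          min := fun L' h => by
            rw [← Subgroup.map_map] at h
            have hle : L'.map L.subtype ≤ L := Subgroup.map_subtype_le L'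
            rcases eq_or_lt_of_le hle with e | e
            · refine Subgroup.map_injective L.subtype_injective ?_
              rw [e, ← MonoidHom.range_eq_map, Subgroup.range_subtype]
            · exact absurd e (hLmin _ h)
          small := hsmall }
      exact S.bound
    · exact ⟨by omega, fun _ => by omega⟩

end Cfsg.Agent.AltSection
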