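import Cfsg.Agent.Lib.AltSection.Spin

/-!
The bound for faithful representations of double covers of alternating groups.
-/

set_option autoImplicit false
set_option linter.unusedSectionVars false
set_option maxHeartbeats 800000

namespace Cfsg.Agent.AltSection

open Equiv Module

/-- The points `0, …, 4` among ten. -/
def left10 : Fin 5 ↪ Fin 10 := ⟨![0, 1, 2, 3, 4], by decide⟩
/-- The points `5, …, 9` among ten. -/
def right10 : Fin 5 ↪ Fin 10 := ⟨![5, 6, 7, 8, 9], by decide⟩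
/-- The five-cycle on the left. -/
def p1 : alternatingGroup (Fin 10) :=
  altExt left10 ⟨finRotate 5, Perm.mem_alternatingGroup.2 (by decide)⟩
/-- The five-cycle on the right. -/
def p2 : alternatingGroup (Fin 10) :=
  altExt right10 ⟨finRotate 5, Perm.mem_alternatingGroup.2 (by decide)⟩
/-- Inversion of the left five-cycle. -/
def negLeft : alternatingGroup (Fin 10) :=
  altExt left10 ⟨swap 1 4 * swap 2 3, Perm.mem_alternatingGroup.2 (by decide)⟩
/-- Squaring both five-cycles. -/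
def dblBoth : alternatingGroup (Fin 10) :=
  ⟨swap 1 3 * swap 1 4 * swap 1 2 * (swap 6 8 * swap 6 9 * swap 6 7),
    Perm.mem_alternatingGroup.2 (by decide)⟩
/-- Exchanging the five-cycles, squaring one of them. -/
def twist : alternatingGroup (Fin 10) :=
  ⟨swap 0 5 * swap 1 6 * swap 2 7 * swap 3 8 * swap 4 9 * (swap 1 3 * swap 1 4 * swap 1 2),
    Perm.mem_alternatingGroup.2 (by decide)⟩

set_option maxRecDepth 20000 in
theorem ten_relations :
    p1 ^ 5 = 1 ∧ p2 ^ 5 = 1 ∧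
      negLeft * p1 ^ 4 * negLeft⁻¹ = p1 ∧ negLeft * p2 * negLeft⁻¹ = p2 ∧
      dblBoth * p1 ^ 3 * dblBoth⁻¹ = p1 ∧ dblBoth * p2 ^ 3 * dblBoth⁻¹ = p2 ∧
      twist * p2 * twist⁻¹ = p1 ∧ twist * p1 ^ 3 * twist⁻¹ = p2 := by decide

namespace SpinRep

variable {m : ℕ} {Γ : Type*} [Group Γ] [Finite Γ]
variable {k V : Type*} [Field k] [IsAlgClosed k] [AddCommGroup V] [Module k V] [FiniteDimensional k V]
variable {S : Cover (Fin (m + 2)) Γ} (R : SpinRep S k V)

theorem inv_top (M : Finset (Fin (m + 2))) : R.Inv M ⊤ := fun _ _ _ _ => trivial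

include R

/-- Eleven points. -/
theorem ten_le_of_eleven [Nontrivial V] (hm : m + 2 = 11) : 10 ≤ finrank k V := by
  by_contra hlt
  push Not at hlt
  obtain ⟨M, -, hM⟩ := Finset.exists_subset_card_eq (s := (Finset.univ : Finset (Fin (m + 2))))
    (n := 8) (by rw [Finset.card_univ, Fintype.card_fin]; omega)
  obtain ⟨e, he⟩ := exists_emb (M := Mᶜ) (m := 3) (by
    rw [Finset.card_compl, Fintype.card_fin, hM]; omega)
  obtain ⟨c, hc⟩ := S.surj (cyc e)
  have hd : Disjoint M (pts e) := Finset.disjoint_left.2 fun y hy hye =>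
    Finset.mem_compl.1 (he hye) hy
  have hcomm : ∀ g, S.φ g ∈ altOn M → g * c = c * g := fun g hg =>
    S.commute_of_disjoint hd hg (hc ▸ altExt_mem_altOn subset_rfl _)
  obtain ⟨μ, hμ⟩ := Module.End.exists_eigenvalue (R.ρ c)
  have hEinv : R.Inv M (Module.End.eigenspace (R.ρ c) μ) := fun g hg _ hu =>
    apply_eig_mem_of_commute R.ρ (hcomm g hg) hu
  have hE := (R.growth (by omega) 8 M _ hM hEinv hμ).2.1 le_rfl
  let D : Module.End k V := R.ρ c - μ • 1
  have hrn := LinearMap.finrank_range_add_finrank_ker D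
  have hker : LinearMap.ker D = Module.End.eigenspace (R.ρ c) μ := by
    ext v
    rw [LinearMap.mem_ker, mem_eig]
    show R.ρ c v - μ • v = 0 ↔ _
    exact sub_eq_zero
  rw [hker] at hrn
  have hbot : LinearMap.range D = ⊥ := by
    by_contra hne
    have hinv : R.Inv M (LinearMap.range D) := by
      rintro g hg _ ⟨v, rfl⟩
      refine ⟨R.ρ g v, ?_⟩
      show R.ρ c (R.ρ g v) - μ • R.ρ g v = R.ρ g (R.ρ c v - μ • v)
      rw [← rho_mul, ← hcomm g hg, rho_mul, map_sub, map_smul]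
    have := (R.growth (by omega) 8 M _ hM hinv hne).2.1 le_rfl
    omega
  have hscalar : ∀ v, R.ρ c v = μ • v := fun v => sub_eq_zero.1 (show D v = 0 by
    rw [LinearMap.range_eq_bot.1 hbot]; rfl)
  have := R.eq_one_of_central (by omega) (g := c) fun h v => by rw [hscalar, hscalar, map_smul]
  exact cyc_ne_one e (hc ▸ this)

theorem sixteen_of_ten [Nontrivial V] (hm : m + 2 = 10) (h5 : ((5 : ℕ) : k) ≠ 0) :
    9 ≤ finrank k V := by
  by_contra hlt
  push Not at hlt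
  let F : Fin 10 ↪ Fin (m + 2) := Fin.castLEEmb hm.ge
  obtain ⟨r1, r2, r3, r4, r5, r6, r7, r8⟩ := ten_relations
  obtain ⟨y1, hy1, hy15⟩ := S.exists_lift_odd (a := altExt F p1) (n := 5) ⟨2, rfl⟩
    (by rw [← map_pow, r1, map_one])
  obtain ⟨y2, hy2, hy25⟩ := S.exists_lift_odd (a := altExt F p2) (n := 5) ⟨2, rfl⟩
    (by rw [← map_pow, r2, map_one])
  obtain ⟨A, hA⟩ := S.surj (altExt F negLeft)
  obtain ⟨D, hD⟩ := S.surj (altExt F dblBoth)
  obtain ⟨C, hC⟩ := S.surj (altExt F twist)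
  have hrel : ∀ {G x x' : Γ} {g a a' : alternatingGroup (Fin 10)} (j : ℕ), S.φ G = altExt F g →
      S.φ x = altExt F a → S.φ x' = altExt F a' → x ^ 5 = 1 → x' ^ 5 = 1 → g * a ^ j * g⁻¹ = a' →
      G * x ^ j * G⁻¹ = x' := by
    intro G x x' g a a' j hG hx hx' hx5 hx'5 h
    refine S.lift_odd_unique (n := 5) ⟨2, rfl⟩ ?_ ?_ hx'5
    · rw [map_mul, map_mul, map_inv, map_pow, hG, hx, hx', ← h, map_mul, map_mul, map_inv, map_pow]
    · rw [conj_pow, ← pow_mul, mul_comm, pow_mul, hx5, one_pow, mul_one, mul_inv_cancel]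
  have eA1 := hrel 4 hA hy1 hy1 hy15 hy15 r3
  have eA2 := hrel 1 hA hy2 hy2 hy25 hy25 (by rw [pow_one]; exact r4)
  have eD1 := hrel 3 hD hy1 hy1 hy15 hy15 r5
  have eD2 := hrel 3 hD hy2 hy2 hy25 hy25 r6
  have eC1 := hrel 1 hC hy2 hy1 hy25 hy15 (by rw [pow_one]; exact r7)
  have eC2 := hrel 3 hC hy1 hy2 hy15 hy25 r8
  have hmove : ∀ {G x x' : Γ} {j : ℕ} {a : k}, G * x ^ j * G⁻¹ = x' → ∀ {v : V},
      v ∈ Module.End.eigenspace (R.ρ x) a →
        R.ρ G v ∈ Module.End.eigenspace (R.ρ x') (a ^ j) := by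
    intro G x x' j a e v hv
    rw [← e]
    exact apply_eig_mem R.ρ G _ ((mem_eig R.ρ).2 (pow_apply_eig R.ρ ((mem_eig R.ρ).1 hv) j))
  -- the two supports
  let M1 := pts (left10.trans F)
  let M2 := pts (right10.trans F)
  have hdis : Disjoint M2 M1 := Finset.disjoint_left.2 fun y h1 h2 => by
    obtain ⟨i, rfl⟩ := mem_pts.1 h1
    obtain ⟨j, hj⟩ := mem_pts.1 h2
    exact (by decide : ∀ i j : Fin 5, left10 j ≠ right10 i) i j (F.injective hj)
  have hy1M : S.φ y1 ∈ altOn M1 := by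
    rw [hy1, p1, ← altExt_trans]; exact altExt_mem_altOn subset_rfl _
  have hy2M : S.φ y2 ∈ altOn M2 := by
    rw [hy2, p2, ← altExt_trans]; exact altExt_mem_altOn subset_rfl _
  have hy12 : y1 * y2 = y2 * y1 := (S.commute_of_disjoint hdis hy2M hy1M).symm
  have hEinv : ∀ a, R.Inv M2 (Module.End.eigenspace (R.ρ y1) a) := fun a g hg _ hu =>
    apply_eig_mem_of_commute R.ρ (S.commute_of_disjoint hdis hg hy1M) hu
  have heven : ∀ a, Module.End.eigenspace (R.ρ y1) a ≠ ⊥ →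
      2 ≤ finrank k (Module.End.eigenspace (R.ρ y1) a) := fun a h =>
    R.four (by omega) (hEinv a) h (by rw [card_pts]; norm_num)
  have hy1ne : R.ρ y1 ≠ 1 := fun h => by
    have := R.eq_one_of_central (by omega) (g := y1) fun g v => by rw [h]; rfl
    rw [hy1, ← map_one (altExt F)] at this
    exact (by decide : p1 ≠ 1) (altExt_injective F this)
  obtain ⟨ζ, hζ1, hζ5, hζne⟩ := exists_eig_ne_one R.ρ hy15 h5 hy1ne
  haveI : Fact (Nat.Prime 5) := ⟨by norm_num⟩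
  have hord : orderOf ζ = 5 := orderOf_eq_prime hζ5 hζ1
  have hprim : IsPrimitiveRoot ζ 5 := hord ▸ IsPrimitiveRoot.orderOf ζ
  have hmod : ∀ j, ζ ^ j = ζ ^ (j % 5) := fun j => by
    conv_lhs => rw [← Nat.div_add_mod j 5]
    rw [pow_add, pow_mul, hζ5, one_pow, one_mul]
  have hinj : Function.Injective fun i : Fin 5 => ζ ^ (i : ℕ) := fun i j h =>
    Fin.ext (hprim.pow_inj i.2 j.2 h)
  -- the dimensions
  let d : ℕ → ℕ := fun i => finrank k (Module.End.eigenspace (R.ρ y1) (ζ ^ i))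
  have hd3 : ∀ i j, 3 * i % 5 = j → d i ≤ d j := by
    intro i j hij
    show finrank k _ ≤ finrank k _
    rw [← finrank_map_rho R.ρ D]
    refine Submodule.finrank_mono ?_
    rintro _ ⟨v, hv, rfl⟩
    have := hmove eD1 hv
    rwa [← pow_mul, mul_comm, hmod, hij] at this
  have d1 : 2 ≤ d 1 := heven _ (by rwa [pow_one])
  have := hd3 1 3 rfl
  have := hd3 3 4 rfl
  have := hd3 4 2 rfl
  have := hd3 2 1 rfl
  have hsum := sum_finrank_le (fun i : Fin 5 => Module.End.eigenspace (R.ρ y1) (ζ ^ (i : ℕ)))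
    ((Module.End.eigenspaces_iSupIndep (R.ρ y1)).comp hinj) Finset.univ
    (Y := (⊤ : Submodule k V)) fun _ _ => le_top
  rw [Fin.sum_univ_five, finrank_top] at hsum
  change d 0 + d 1 + d 2 + d 3 + d 4 ≤ finrank k V at hsum
  have hfix1 : Module.End.eigenspace (R.ρ y1) 1 = ⊥ := by
    by_contra hne
    have h := heven 1 hne
    rw [← pow_zero ζ] at h
    change 2 ≤ d 0 at h
    omega
  have hfix2 : Module.End.eigenspace (R.ρ y2) 1 = ⊥ := (Submodule.eq_bot_iff _).2 fun v hv => by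
    have h := hmove eC1 hv
    rw [one_pow, hfix1, Submodule.mem_bot] at h
    exact rho_injective_apply R.ρ C (h.trans (map_zero _).symm)
  have hd1 : d 1 = 2 := by omega
  -- joint eigenvectors
  let P : ℕ → ℕ → Prop := fun a b => ∃ v : V, v ≠ 0 ∧
    v ∈ Module.End.eigenspace (R.ρ y1) (ζ ^ a) ∧ v ∈ Module.End.eigenspace (R.ρ y2) (ζ ^ b)
  have hPmod : ∀ {a b}, P a b → P (a % 5) (b % 5) := fun {a b} h => by
    simp only [P] at h ⊢; rwa [← hmod, ← hmod]
  have hnz : ∀ (G : Γ) {v : V}, v ≠ 0 → R.ρ G v ≠ 0 := fun G v hv h =>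
    hv (rho_injective_apply R.ρ G (h.trans (map_zero _).symm))
  have opA : ∀ {a b}, P a b → P (4 * a % 5) (b % 5) := fun {a b} ⟨v, hv, h1, h2⟩ => by
    refine hPmod ⟨R.ρ A v, hnz A hv, ?_, ?_⟩
    · rw [mul_comm, pow_mul]; exact hmove eA1 h1
    · have := hmove eA2 h2; rwa [pow_one] at this
  have opD : ∀ {a b}, P a b → P (3 * a % 5) (3 * b % 5) := fun {a b} ⟨v, hv, h1, h2⟩ => by
    refine hPmod ⟨R.ρ D v, hnz D hv, ?_, ?_⟩
    · rw [mul_comm, pow_mul]; exact hmove eD1 h1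
    · rw [mul_comm, pow_mul]; exact hmove eD2 h2
  have opC : ∀ {a b}, P a b → P (b % 5) (3 * a % 5) := fun {a b} ⟨v, hv, h1, h2⟩ => by
    refine hPmod ⟨R.ρ C v, hnz C hv, ?_, ?_⟩
    · have := hmove eC1 h2; rwa [pow_one] at this
    · rw [mul_comm, pow_mul]; exact hmove eC2 h1
  obtain ⟨b0, hb0, hb5, hP⟩ : ∃ b, 1 ≤ b ∧ b < 5 ∧ P 1 b := by
    have hinv : ∀ u ∈ Module.End.eigenspace (R.ρ y1) (ζ ^ 1),
        R.ρ y2 u ∈ Module.End.eigenspace (R.ρ y1) (ζ ^ 1) := fun u hu =>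
      apply_eig_mem_of_commute R.ρ hy12.symm hu
    haveI : Nontrivial (Module.End.eigenspace (R.ρ y1) (ζ ^ 1)) :=
      Module.nontrivial_of_finrank_pos (R := k) (by show 0 < d 1; omega)
    obtain ⟨μ, hμ⟩ := Module.End.exists_eigenvalue ((R.ρ y2).restrict hinv)
    obtain ⟨⟨v, hv⟩, he, hv0⟩ := hμ.exists_hasEigenvector
    have he' : R.ρ y2 v = μ • v := congrArg Subtype.val (Module.End.mem_eigenspace_iff.1 he)
    have hv0' : v ≠ 0 := fun h => hv0 (Subtype.ext h)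
    obtain ⟨b, hb, rfl⟩ := hprim.eq_pow_of_pow_eq_one (eigval_pow_eq_one R.ρ hy25 he' hv0')
    refine ⟨b, Nat.one_le_iff_ne_zero.2 fun h0 => hv0' ?_, hb, v, hv0', hv, (mem_eig R.ρ).2 he'⟩
    subst h0
    rw [pow_zero] at he'
    exact (Submodule.eq_bot_iff _).1 hfix2 v ((mem_eig R.ρ).2 he')
  have oA : ∀ {a b} (a' b' : ℕ), P a b → 4 * a % 5 = a' → b % 5 = b' → P a' b' :=
    fun a' b' h ha hb => ha ▸ hb ▸ opA h
  have oD : ∀ {a b} (a' b' : ℕ), P a b → 3 * a % 5 = a' → 3 * b % 5 = b' → P a' b' :=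
    fun a' b' h ha hb => ha ▸ hb ▸ opD h
  have oC : ∀ {a b} (a' b' : ℕ), P a b → b % 5 = a' → 3 * a % 5 = b' → P a' b' :=
    fun a' b' h ha hb => ha ▸ hb ▸ opC h
  have hPdef : ∀ a b, P a b ↔ ∃ v : V, v ≠ 0 ∧ v ∈ Module.End.eigenspace (R.ρ y1) (ζ ^ a) ∧
      v ∈ Module.End.eigenspace (R.ρ y2) (ζ ^ b) := fun a b => Iff.rfl
  clear_value P
  have e1 : P 1 1 → P 1 3 := fun h => oC 1 3 h rfl rfl
  have e2 : P 1 2 → P 1 4 := fun h => oD 1 4 (oC 2 3 h rfl rfl) rfl rfl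
  have e3 : P 1 3 → P 1 1 := fun h =>
    oD 1 1 (oD 2 2 (oD 4 4 (oC 3 3 h rfl rfl) rfl rfl) rfl rfl) rfl rfl
  have e4 : P 1 4 → P 1 2 := fun h => oD 1 2 (oD 2 4 (oC 4 3 h rfl rfl) rfl rfl) rfl rfl
  have n1 : P 1 1 → P 1 4 := fun h => oD 1 4 (oD 2 3 (oA 4 1 h rfl rfl) rfl rfl) rfl rfl
  have n4 : P 1 4 → P 1 1 := fun h => oD 1 1 (oD 2 2 (oA 4 4 h rfl rfl) rfl rfl) rfl rfl
  have hall : P 1 1 ∧ P 1 2 ∧ P 1 3 ∧ P 1 4 := by
    have h11 : P 1 1 := by
      interval_cases b0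
      exacts [hP, n4 (e2 hP), e3 hP, n4 hP]
    exact ⟨h11, e4 (n1 h11), e1 h11, n1 h11⟩
  replace hall : ∀ i : Fin 4, P 1 ((i : ℕ) + 1) := fun i => by
    obtain ⟨a, b, c, e⟩ := hall
    fin_cases i
    exacts [a, b, c, e]
  let Q : Fin 4 → Submodule k V := fun i =>
    Module.End.eigenspace (R.ρ y1) (ζ ^ 1) ⊓ Module.End.eigenspace (R.ρ y2) (ζ ^ ((i : ℕ) + 1))
  have hQ : ∀ i, 1 ≤ finrank k (Q i) := fun i => by
    obtain ⟨v, hv, h1, h2⟩ := (hPdef 1 ((i : ℕ) + 1)).1 (hall i)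
    exact one_le_finrank fun h => hv ((Submodule.eq_bot_iff _).1 h v ⟨h1, h2⟩)
  have hind : iSupIndep Q := ((Module.End.eigenspaces_iSupIndep (R.ρ y2)).comp
    (f := fun i : Fin 4 => ζ ^ ((i : ℕ) + 1)) fun i j h => Fin.ext (by
      have := hprim.pow_inj (i := (i : ℕ) + 1) (j := (j : ℕ) + 1) (by omega) (by omega) h
      omega)).mono fun i => inf_le_right
  have hle := sum_finrank_le Q hind Finset.univ
    (Y := Module.End.eigenspace (R.ρ y1) (ζ ^ 1)) fun i _ => inf_le_left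
  rw [Fin.sum_univ_four] at hle
  have := hQ 0
  have := hQ 1
  have := hQ 2
  have := hQ 3
  change _ ≤ d 1 at hle
  omega

/-- The bound. -/
theorem bound [Nontrivial V] (hm : 7 ≤ m) :
    m + 2 ≤ finrank k V + 2 ∧ (((m + 2 : ℕ) : k) ≠ 0 → m + 2 ≤ finrank k V + 1) := by
  have h := R.growth (by omega) (m + 2) Finset.univ ⊤ (by rw [Finset.card_univ, Fintype.card_fin])
    (R.inv_top _) top_ne_bot
  rw [finrank_top] at h
  obtain ⟨-, h8, h12⟩ := h
  have h8 := h8 (by omega)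
  rcases (show m = 7 ∨ m = 8 ∨ m = 9 ∨ 10 ≤ m by omega) with rfl | rfl | rfl | h10
  · exact ⟨by omega, fun _ => by omega⟩
  · refine ⟨by omega, fun hk => ?_⟩
    have h5 : ((5 : ℕ) : k) ≠ 0 := fun h5 => hk (by
      rw [show (8 + 2 : ℕ) = 2 * 5 from rfl, Nat.cast_mul, h5, mul_zero])
    have := R.sixteen_of_ten rfl h5
    omega
  · have := R.ten_le_of_eleven rfl
    exact ⟨by omega, fun _ => by omega⟩
  · have := h12 (by omega)
    exact ⟨by omega, fun _ => by omega⟩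

end SpinRep

end Cfsg.Agent.AltSection
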