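import Cfsg.Agent.Lib.AltSection.ReduceBasics
import Cfsg.Agent.Lib.AltSection.LinearOdd
import Cfsg.Agent.Lib.AltSection.LinearTwo
import Cfsg.Agent.Lib.AltSection.SpinBound
import Cfsg.Agent.S0892

/-!
The reduction to representations of the alternating group and its double cover.
-/

set_option autoImplicit false
set_option linter.unusedSectionVars false
set_option maxHeartbeats 800000

namespace Cfsg.Agent.AltSection

open Equiv Module
open scoped commutatorElement

/-- The conclusion: the degree is at least `r - 2`, and at least `r - 1` if `r` is nonzero. -/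
def Concl (m : ℕ) (K : Type) [Field K] (n : ℕ) : Prop :=
  m + 2 ≤ n + 2 ∧ (((m + 2 : ℕ) : K) ≠ 0 → m + 2 ≤ n + 1)

/-- The bound for a fixed degree. -/
def Holds (m n : ℕ) : Prop :=
  ∀ (K : Type) [Field K] [IsAlgClosed K] (V : Type) [AddCommGroup V] [Module K V]
    [FiniteDimensional K V] (H : Type) [Group H] [Finite H] (ρ : H →* Module.End K V),
    Function.Injective ρ → ∀ φ : H →* alternatingGroup (Fin (m + 2)), Function.Surjective φ →
      finrank K V = n → Concl m K n

theorem Concl.mono {m : ℕ} {K : Type} [Field K] {a b : ℕ} (h : Concl m K a) (hab : a ≤ b) :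
    Concl m K b := ⟨by have := h.1; omega, fun hk => by have := h.2 hk; omega⟩

theorem alt_noncomm {m : ℕ} (hm : 7 ≤ m) :
    ∃ a b : alternatingGroup (Fin (m + 2)), a * b ≠ b * a := by
  by_contra h
  push Not at h
  obtain ⟨e, -⟩ := exists_emb (M := (Finset.univ : Finset (Fin (m + 2)))) (m := 3)
    (by rw [Finset.card_univ, Fintype.card_fin]; omega)
  exact cyc_ne_one e (center_trivial (by rw [Fintype.card_fin]; omega) fun g => h g _)

theorem two_mul_card_alt (m : ℕ) :
    2 * Nat.card (alternatingGroup (Fin (m + 2))) = (m + 2).factorial := by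
  haveI : Nontrivial (Fin (m + 2)) := Fin.nontrivial_iff_two_le.2 (by omega)
  rw [two_mul_nat_card_alternatingGroup, Nat.card_eq_fintype_card, Fintype.card_perm,
    Fintype.card_fin]

/-- The set-up of the induction step. -/
structure Step (m n : ℕ) (K V H : Type) [Field K] [AddCommGroup V] [Module K V] [Group H] where
  ρ : H →* Module.End K V
  inj : Function.Injective ρ
  φ : H →* alternatingGroup (Fin (m + 2))
  surj : Function.Surjective φ
  dim : finrank K V = n
  hm : 7 ≤ m
  ih : ∀ n' < n, Holds m n'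
  min : ∀ L : Subgroup H, L.map φ = ⊤ → L = ⊤
  small : n + 1 < m + 2

namespace Step

variable {m n : ℕ} {K V H : Type} [Field K] [IsAlgClosed K] [AddCommGroup V] [Module K V]
  [FiniteDimensional K V] [Group H] [Finite H] (S : Step m n K V H)

include S

theorem image {K' V' : Type} [Field K'] [IsAlgClosed K'] [AddCommGroup V'] [Module K' V']
    [FiniteDimensional K' V'] (σ : H →* Module.End K' V') (hker : ∀ g, σ g = 1 → S.φ g = 1)
    (hlt : finrank K' V' < n) : Concl m K' (finrank K' V') := by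
  let σu := σ.toHomUnits
  have hle : σu.rangeRestrict.ker ≤ S.φ.ker := fun g hg => by
    rw [MonoidHom.ker_rangeRestrict, MonoidHom.mem_ker] at hg
    exact hker g (congrArg Units.val hg)
  let φ1 := σu.rangeRestrict.liftOfSurjective σu.rangeRestrict_surjective ⟨S.φ, hle⟩
  have hφ1 : Function.Surjective φ1 := fun a => by
    obtain ⟨g, rfl⟩ := S.surj a
    exact ⟨σu.rangeRestrict g, σu.rangeRestrict.liftOfRightInverse_comp_apply _ _ ⟨S.φ, hle⟩ g⟩
  haveI : Finite σu.range := Finite.of_surjective _ σu.rangeRestrict_surjective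
  exact S.ih _ hlt K' V' σu.range ((Units.coeHom _).comp σu.range.subtype)
    (fun a b h => Subtype.ext (Units.ext h)) φ1 hφ1 rfl

theorem normal_cases (N : Subgroup H) [hN : N.Normal] : (∀ g ∈ N, S.φ g = 1) ∨ N = ⊤ := by
  haveI := alternatingGroup.isSimpleGroup (α := Fin (m + 2)) (by
    rw [Nat.card_eq_fintype_card, Fintype.card_fin]; have := S.hm; omega)
  rcases IsSimpleGroup.eq_bot_or_eq_top_of_normal _ (hN.map S.φ S.surj) with h | h
  · exact Or.inl fun g hg => by
      have : S.φ g ∈ N.map S.φ := ⟨g, hg, rfl⟩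
      rwa [h, Subgroup.mem_bot] at this
  · exact Or.inr (S.min N h)

theorem noncomm : ∃ a b : H, a * b ≠ b * a := by
  obtain ⟨a, b, h⟩ := alt_noncomm S.hm
  obtain ⟨a, rfl⟩ := S.surj a
  obtain ⟨b, rfl⟩ := S.surj b
  exact ⟨a, b, fun e => h (by rw [← map_mul, e, map_mul])⟩

theorem perfect : commutator H = ⊤ := by
  refine (S.normal_cases (commutator H)).resolve_left fun h => ?_
  obtain ⟨a, b, hab⟩ := alt_noncomm S.hm
  obtain ⟨a, rfl⟩ := S.surj a
  obtain ⟨b, rfl⟩ := S.surj b
  refine hab (commutatorElement_eq_one_iff_mul_comm.1 ?_)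
  rw [← map_commutatorElement]
  exact h _ (Subgroup.commutator_mem_commutator (Subgroup.mem_top a) (Subgroup.mem_top b))

theorem nontrivial : Nontrivial V := by
  rcases subsingleton_or_nontrivial V with h | h
  · obtain ⟨a, b, hab⟩ := S.noncomm
    exact absurd (S.inj (LinearMap.ext fun v => Subsingleton.elim _ _)) hab
  · exact h

theorem not_small (hc : ∀ {d : ℕ}, d ≤ n → ∀ _ : Concl m K d, False) (W : Submodule K V)
    (hW : ∀ g, ∀ w ∈ W, S.ρ g w ∈ W) : W = ⊥ ∨ W = ⊤ := by
  by_contra hcon
  push Not at hcon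
  have hpos := one_le_finrank hcon.1
  have hlt := Submodule.finrank_lt hcon.2
  have hquot := W.finrank_quotient_add_finrank
  have hdim := S.dim
  let τ : H →* Module.End K (V ⧸ W) :=
    { toFun := fun g => W.mapQ W (S.ρ g) (fun w hw => hW g w hw)
      map_one' := Submodule.linearMap_qext _ (LinearMap.ext fun v => by simp)
      map_mul' := fun a b => Submodule.linearMap_qext _ (LinearMap.ext fun v => by
        simp [map_mul]) }
  let σ := subRep S.ρ W hW
  have h1 : MonoidHom.ker σ = ⊤ := (S.normal_cases _).resolve_left fun h =>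
    hc (d := finrank K W) (by omega) (S.image σ (fun g hg => h g hg) (by omega))
  have h2 : MonoidHom.ker τ = ⊤ := (S.normal_cases _).resolve_left fun h =>
    hc (d := finrank K (V ⧸ W)) (by omega) (S.image τ (fun g hg => h g hg) (by omega))
  have hfix : ∀ g, ∀ w ∈ W, S.ρ g w = w := fun g w hw =>
    congrArg Subtype.val (LinearMap.congr_fun
      (MonoidHom.mem_ker.1 (h1 ▸ Subgroup.mem_top g : g ∈ MonoidHom.ker σ)) ⟨w, hw⟩)
  have hmv : ∀ g v, S.ρ g v - v ∈ W := fun g v => (Submodule.Quotient.eq W).1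
    (LinearMap.congr_fun (MonoidHom.mem_ker.1 (h2 ▸ Subgroup.mem_top g : g ∈ MonoidHom.ker τ))
      (Submodule.Quotient.mk v))
  obtain ⟨a, b, hab⟩ := S.noncomm
  refine hab (S.inj (LinearMap.ext fun v => ?_))
  have key : ∀ a b, S.ρ (a * b) v = v + (S.ρ a v - v) + (S.ρ b v - v) := fun a b => by
    have h := hfix a _ (hmv b v)
    rw [map_sub] at h
    calc S.ρ (a * b) v = S.ρ a v + (S.ρ a (S.ρ b v) - S.ρ a v) := by rw [rho_mul]; abel
      _ = _ := by rw [h]; abel
  rw [key, key]; abel

/-- Abelian normal subgroups consist of scalars. -/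
theorem scalar (hirr : ∀ W : Submodule K V, (∀ g, ∀ w ∈ W, S.ρ g w ∈ W) → W = ⊥ ∨ W = ⊤)
    (B : Subgroup H) [B.Normal] (hB : ∀ x ∈ B, ∀ y ∈ B, x * y = y * x) :
    ∀ b ∈ B, ∃ c : K, ∀ v, S.ρ b v = c • v := by
  haveI := S.nontrivial
  let E : (B →* K) → Submodule K V := fun χ => ⨅ b : B, Module.End.eigenspace (S.ρ b) (χ b)
  have memE : ∀ {χ v}, v ∈ E χ ↔ ∀ b : B, S.ρ b v = χ b • v := fun {χ v} => by
    simp only [E, Submodule.mem_iInf, mem_eig]
  obtain ⟨χ0, w, hw0, hw⟩ := exists_common_eigen (fun b : B => S.ρ b) fun a b v => by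
    rw [← rho_mul, ← rho_mul, hB _ a.2 _ b.2]
  let χ : B →* K :=
    { toFun := χ0
      map_one' := by
        refine smul_left_injective K hw0 (?_ : χ0 1 • w = (1 : K) • w)
        rw [← hw 1, one_smul, Subgroup.coe_one, rho_one]
      map_mul' := fun a b => by
        refine smul_left_injective K hw0 (?_ : χ0 (a * b) • w = (χ0 a * χ0 b) • w)
        rw [← hw (a * b), Subgroup.coe_mul, rho_mul, hw b, map_smul, hw a, smul_smul, mul_comm] }
  let X := {χ : B →* K // E χ ≠ ⊥}
  have hvec : ∀ i : X, ∃ v, v ≠ 0 ∧ v ∈ E i.1 := fun i => by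
    obtain ⟨v, hv, h0⟩ := Submodule.exists_mem_ne_zero_of_ne_bot i.2
    exact ⟨v, h0, hv⟩
  choose vec hvec0 hvecE using hvec
  have hind : LinearIndependent K vec := indep_chars (fun i : X => i.1) Subtype.val_injective
    (fun b : B => S.ρ b) vec hvec0 fun i b => memE.1 (hvecE i) b
  haveI : Finite X := hind.finite
  have hX : Nat.card X ≤ n := by
    haveI := Fintype.ofFinite X
    rw [Nat.card_eq_fintype_card, ← S.dim]
    exact hind.fintype_card_le_finrank
  let tw : H → (B →* K) → (B →* K) := fun g χ => χ.comp (MulAut.conjNormal g⁻¹).toMonoidHom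
  have tw_apply : ∀ g χ (b : B), tw g χ b = χ (MulAut.conjNormal g⁻¹ b) := fun g χ b => rfl
  have tw_one : ∀ χ, tw 1 χ = χ := fun χ => by ext b; simp [tw_apply]
  have tw_mul : ∀ g h χ, tw (g * h) χ = tw g (tw h χ) := fun g h χ => by
    ext b; simp [tw_apply, map_mul]
  have tw_E : ∀ g χ v, v ∈ E χ → S.ρ g v ∈ E (tw g χ) := fun g χ v hv => memE.2 fun b => by
    have := memE.1 hv (MulAut.conjNormal g⁻¹ b)
    rw [MulAut.conjNormal_apply, inv_inv] at this
    calc S.ρ b (S.ρ g v) = S.ρ g (S.ρ (g⁻¹ * b * g) v) := by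
          rw [← rho_mul, ← rho_mul]; group
      _ = _ := by rw [this, map_smul]; rfl
  have tw_ne : ∀ g χ, E χ ≠ ⊥ → E (tw g χ) ≠ ⊥ := fun g χ h h' => h ((Submodule.eq_bot_iff _).2
    fun v hv => rho_injective_apply S.ρ g (((Submodule.eq_bot_iff _).1 h' _ (tw_E g χ v hv)).trans
      (map_zero _).symm))
  let π : H →* Equiv.Perm X :=
    { toFun := fun g =>
        { toFun := fun i => ⟨tw g i.1, tw_ne g i.1 i.2⟩
          invFun := fun i => ⟨tw g⁻¹ i.1, tw_ne g⁻¹ i.1 i.2⟩
          left_inv := fun i => Subtype.ext (by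
            show tw g⁻¹ (tw g i.1) = i.1
            rw [← tw_mul, inv_mul_cancel, tw_one])
          right_inv := fun i => Subtype.ext (by
            show tw g (tw g⁻¹ i.1) = i.1
            rw [← tw_mul, mul_inv_cancel, tw_one]) }
      map_one' := Equiv.ext fun i => Subtype.ext (tw_one i.1)
      map_mul' := fun g h => Equiv.ext fun i => Subtype.ext (tw_mul g h i.1) }
  have hker : π.ker = ⊤ := (S.normal_cases _).resolve_left fun h => by
    choose s hs using S.surj
    have hinj : Function.Injective fun a => π (s a) := fun a b hab => by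
      have := h ((s a)⁻¹ * s b) (MonoidHom.mem_ker.2 (by
        rw [map_mul, map_inv, show π (s a) = π (s b) from hab, inv_mul_cancel]))
      rwa [map_mul, map_inv, hs, hs, inv_mul_eq_one] at this
    have h1 := Nat.card_le_card_of_injective _ hinj
    rw [Nat.card_perm] at h1
    have h2 := h1.trans (Nat.factorial_le (hX.trans (Nat.le_of_lt_succ (by
      have := S.small; omega : n < m + 1))))
    have h3 := two_mul_card_alt m
    have h4 : 2 * m.factorial < (m + 2).factorial := by
      rw [Nat.factorial_succ, Nat.factorial_succ, ← mul_assoc]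
      have := Nat.factorial_pos m
      exact Nat.mul_lt_mul_of_pos_right (by have := S.hm; nlinarith) this
    omega
  have hχ : E χ ≠ ⊥ := fun h => hw0 ((Submodule.eq_bot_iff _).1 h w (memE.2 hw))
  have htop : E χ = ⊤ := (hirr (E χ) fun g v hv => by
    have h1 : π g ⟨χ, hχ⟩ = ⟨χ, hχ⟩ := by
      rw [MonoidHom.mem_ker.1 (hker ▸ Subgroup.mem_top g : g ∈ π.ker)]; rfl
    have h2 : tw g χ = χ := congrArg Subtype.val h1
    have := tw_E g χ v hv
    rwa [h2] at this).resolve_left hχ
  exact fun b hb => ⟨χ ⟨b, hb⟩, fun v => memE.1 (htop ▸ Submodule.mem_top : v ∈ E χ) ⟨b, hb⟩⟩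

end Step

end Cfsg.Agent.AltSection
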