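import Mathlib

/-!
Characters of abelian normal subgroups and linearization of automorphisms of elementary abelian
groups.
-/

set_option autoImplicit false

namespace Cfsg.Agent.AltSection

open Module

variable {K W : Type*} [Field K] [AddCommGroup W] [Module K W]

/-- Eigenvectors for distinct characters are independent. -/
theorem indep_chars {G ι : Type*} [Monoid G] (χ : ι → G →* K) (hχ : Function.Injective χ)
    (act : G → Module.End K W) (T : ι → W) (hT : ∀ i, T i ≠ 0)
    (h : ∀ i g, act g (T i) = χ i g • T i) : LinearIndependent K T := by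
  rw [linearIndependent_iff']
  intro s c hc i hi
  by_contra hci
  obtain ⟨f, hf⟩ : ∃ f : Dual K W, f (T i) ≠ 0 := by
    by_contra hcon
    push Not at hcon
    exact hT i ((Module.forall_dual_apply_eq_zero_iff K _).1 hcon)
  have hsum : ∀ g, ∑ j ∈ s, (c j * f (T j)) • χ j g = 0 := fun g => by
    have := congrArg (fun w => f (act g w)) hc
    simp only [map_sum, map_smul, h, map_zero, smul_eq_mul] at this
    rw [← this]
    exact Finset.sum_congr rfl fun j _ => by rw [smul_eq_mul]; ring
  have hind := (linearIndependent_monoidHom G K).comp χ hχ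
  rw [linearIndependent_iff'] at hind
  have := hind s (fun j => c j * f (T j)) (funext fun g => by
    simpa [Finset.sum_apply] using hsum g) i hi
  exact (mul_ne_zero hci hf) this

/-- A commuting family has a common eigenvector. -/
theorem exists_common_eigen [IsAlgClosed K] [FiniteDimensional K W] [Nontrivial W] {G : Type*}
    (f : G → Module.End K W) (hf : ∀ a b w, f a (f b w) = f b (f a w)) :
    ∃ (χ : G → K) (w : W), w ≠ 0 ∧ ∀ g, f g w = χ g • w := by
  classical
  let P : ℕ → Prop := fun d => ∃ U : Submodule K W, U ≠ ⊥ ∧ (∀ g, ∀ u ∈ U, f g u ∈ U) ∧ finrank K U = d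
  have hex : ∃ d, P d := ⟨_, ⊤, top_ne_bot, fun _ _ _ => trivial, rfl⟩
  obtain ⟨U, hU0, hU, hd⟩ := Nat.find_spec hex
  obtain ⟨w, hw, hw0⟩ := Submodule.exists_mem_ne_zero_of_ne_bot hU0
  have hscal : ∀ g, ∃ μ : K, ∀ u ∈ U, f g u = μ • u := by
    intro g
    haveI : Nontrivial U := Submodule.nontrivial_iff_ne_bot.2 hU0
    obtain ⟨μ, hμ⟩ := Module.End.exists_eigenvalue ((f g).restrict (hU g))
    obtain ⟨⟨v, hv⟩, he, hv0⟩ := hμ.exists_hasEigenvector
    have he' : f g v = μ • v := congrArg Subtype.val (Module.End.mem_eigenspace_iff.1 he)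
    set E := U ⊓ Module.End.eigenspace (f g) μ with hE
    have hE0 : E ≠ ⊥ := fun h => hv0 (Subtype.ext ((Submodule.eq_bot_iff _).1 h v
      ⟨hv, Module.End.mem_eigenspace_iff.2 he'⟩))
    have hEinv : ∀ a, ∀ u ∈ E, f a u ∈ E := fun a u hu => ⟨hU a u hu.1,
      Module.End.mem_eigenspace_iff.2 (by
        rw [hf, Module.End.mem_eigenspace_iff.1 hu.2, map_smul])⟩
    have hle := Nat.find_min' hex ⟨E, hE0, hEinv, rfl⟩
    have : E = U := Submodule.eq_of_le_of_finrank_le inf_le_left (by rw [hd]; exact hle)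
    exact ⟨μ, fun u hu => Module.End.mem_eigenspace_iff.1 (this ▸ hu : u ∈ E).2⟩
  choose χ hχ using hscal
  exact ⟨χ, w, hw0, fun g => hχ g w hw⟩

theorem exists_linearization_aux {H A : Type} [Group H] [AddCommGroup A] [Finite A] (ℓ : ℕ)
    [Fact ℓ.Prime] [Module (ZMod ℓ) A] (τ : H →* AddMonoid.End A) :
    ∃ (d : ℕ) (σ : H →* Module.End (AlgebraicClosure (ZMod ℓ))
        (Fin d → AlgebraicClosure (ZMod ℓ))),
      Nat.card A = ℓ ^ d ∧ (∀ g, σ g = 1 → τ g = 1) ∧
      ∀ {B : Type} [Finite B] (s : B → H), Function.Injective (fun b => τ (s b)) →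
        Nat.card B ≤ ℓ ^ (d * d) := by
  have : Module.Finite (ZMod ℓ) A := Module.Finite.of_finite
  let b : Basis (Fin (finrank (ZMod ℓ) A)) (ZMod ℓ) A := Module.finBasis (ZMod ℓ) A
  set d := finrank (ZMod ℓ) A
  let lin : H →* Module.End (ZMod ℓ) A :=
    { toFun := fun g => AddMonoidHom.toZModLinearMap ℓ (τ g)
      map_one' := LinearMap.ext fun x => show τ 1 x = x by rw [map_one]; rfl
      map_mul' := fun a c => LinearMap.ext fun x => show τ (a * c) x = τ a (τ c x) by
        rw [map_mul]; rfl }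
  let mat : H →* Matrix (Fin d) (Fin d) (ZMod ℓ) :=
    (LinearMap.toMatrixAlgEquiv b).toMonoidHom.comp lin
  have hmat : Function.Injective (LinearMap.toMatrixAlgEquiv b) := AlgEquiv.injective _
  have hlin : ∀ g g', lin g = lin g' → τ g = τ g' := fun g g' h => DFunLike.ext _ _ fun x => by
    exact LinearMap.congr_fun h x
  let ι := (algebraMap (ZMod ℓ) (AlgebraicClosure (ZMod ℓ))).mapMatrix (m := Fin d)
  let σ : H →* Module.End (AlgebraicClosure (ZMod ℓ)) (Fin d → AlgebraicClosure (ZMod ℓ)) :=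
    (Matrix.toLinAlgEquiv').toMonoidHom.comp (ι.toMonoidHom.comp mat)
  refine ⟨d, σ, ?_, fun g hg => ?_, fun {B} _ s hs => ?_⟩
  · rw [Module.natCard_eq_pow_finrank (K := ZMod ℓ), Nat.card_zmod]
  · have h1 : ι (mat g) = ι (mat 1) := by
      apply Matrix.toLinAlgEquiv'.injective
      show σ g = σ 1
      rw [hg, map_one]
    have h2 : mat g = mat 1 :=
      Matrix.map_injective (algebraMap (ZMod ℓ) (AlgebraicClosure (ZMod ℓ))).injective h1
    have := hlin g 1 (hmat h2)
    rwa [map_one] at this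
  · refine (Nat.card_le_card_of_injective (fun b => mat (s b)) fun x y h =>
      hs (hlin _ _ (hmat h))).trans ?_
    rw [Nat.card_congr (Matrix.of (m := Fin d) (n := Fin d) (α := ZMod ℓ)).symm, Nat.card_fun,
      Nat.card_fun, Nat.card_zmod, Nat.card_fin, ← pow_mul]

/-- An action on an elementary abelian group gives a representation over an algebraically closed
field, with the same kernel. -/
theorem exists_linearization {H A : Type} [Group H] [AddCommGroup A] [Finite A] (ℓ : ℕ)
    [Fact ℓ.Prime] (hA : ∀ x : A, ℓ • x = 0) (τ : H →* AddMonoid.End A) :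
    ∃ (d : ℕ) (σ : H →* Module.End (AlgebraicClosure (ZMod ℓ))
        (Fin d → AlgebraicClosure (ZMod ℓ))),
      Nat.card A = ℓ ^ d ∧ (∀ g, σ g = 1 → τ g = 1) ∧
      ∀ {B : Type} [Finite B] (s : B → H), Function.Injective (fun b => τ (s b)) →
        Nat.card B ≤ ℓ ^ (d * d) :=
  @exists_linearization_aux H A _ _ _ ℓ _ (AddCommGroup.zmodModule hA) τ

end Cfsg.Agent.AltSection
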