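import Cfsg.Agent.Lib.AltSection.SpinGroup

/-!
Lower bound for the degree of a faithful representation of a double cover of an alternating group.
-/

set_option autoImplicit false
set_option linter.unusedSectionVars false
set_option maxHeartbeats 800000

namespace Cfsg.Agent.AltSection

open Equiv Module
open scoped commutatorElement

/-- `(01)(23)` on eight points. -/
def qA : Fin 4 ↪ Fin 8 := ⟨![0, 1, 2, 3], by decide⟩
/-- `(02)(13)` on eight points. -/
def qA2 : Fin 4 ↪ Fin 8 := ⟨![0, 2, 1, 3], by decide⟩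
/-- `(03)(12)` on eight points. -/
def qA3 : Fin 4 ↪ Fin 8 := ⟨![0, 3, 1, 2], by decide⟩
/-- `(01)(45)` on eight points. -/
def qS : Fin 4 ↪ Fin 8 := ⟨![0, 1, 4, 5], by decide⟩
/-- `(23)(45)` on eight points. -/
def qSA : Fin 4 ↪ Fin 8 := ⟨![2, 3, 4, 5], by decide⟩
/-- `(04)(15)` on eight points. -/
def qW1 : Fin 4 ↪ Fin 8 := ⟨![0, 4, 1, 5], by decide⟩
/-- `(05)(14)` on eight points. -/
def qSW : Fin 4 ↪ Fin 8 := ⟨![0, 5, 1, 4], by decide⟩
/-- `(26)(37)` on eight points. -/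
def qW2 : Fin 4 ↪ Fin 8 := ⟨![2, 6, 3, 7], by decide⟩

set_option maxRecDepth 20000 in
theorem f_sq_image :
    dbl qS * dbl qA2 * (dbl qW1 * dbl qW2 * dbl qA2 * (dbl qW1 * dbl qW2)) *
      (dbl qS * dbl qA2 * (dbl qW1 * dbl qW2 * dbl qA2 * (dbl qW1 * dbl qW2))) =
    dbl qA * (dbl qW1 * dbl qW2 * dbl qA * (dbl qW1 * dbl qW2)) := by decide

variable {m : ℕ} {Γ : Type*} [Group Γ] [Finite Γ]
variable {k V : Type*} [Field k] [IsAlgClosed k] [AddCommGroup V] [Module k V] [FiniteDimensional k V]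

/-- A representation of a double cover in which the central involution acts as `-1`. -/
structure SpinRep (S : Cover (Fin (m + 2)) Γ) (k V : Type*) [Field k] [AddCommGroup V] [Module k V]
    where
  ρ : Γ →* Module.End k V
  two : (2 : k) ≠ 0
  neg : ∀ v, ρ S.z v = -v

namespace SpinRep

variable {S : Cover (Fin (m + 2)) Γ} (R : SpinRep S k V)

/-- Invariance under the preimage of the permutations supported in `M`. -/
def Inv (M : Finset (Fin (m + 2))) (U : Submodule k V) : Prop :=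
  ∀ g, S.φ g ∈ altOn M → ∀ u ∈ U, R.ρ g u ∈ U

theorem Inv.mono {M N : Finset (Fin (m + 2))} {U : Submodule k V} (h : R.Inv M U) (hNM : N ⊆ M) :
    R.Inv N U := fun g hg => h g (altOn_mono hNM hg)

include R in
theorem neg_ne_self {v : V} (hv : -v = v) : v = 0 := by
  have h : (2 : k) • v = 0 := by rw [two_smul]; exact add_eq_zero_iff_eq_neg.2 hv.symm
  exact (smul_eq_zero.1 h).resolve_left R.two

theorem anti_apply {x g : Γ} (h : x * g = S.z * (g * x)) (v : V) :
    R.ρ x (R.ρ g v) = -R.ρ g (R.ρ x v) := by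
  rw [← rho_mul, h, rho_mul, R.neg, rho_mul]

/-- Two eigenspaces of the same dimension. -/
theorem split {U : Submodule k V} {x g : Γ} {l : k} (hl : l ≠ 0) (hx : ∀ u ∈ U, R.ρ x u ∈ U)
    (hg : ∀ u ∈ U, R.ρ g u ∈ U) (hsq : ∀ u ∈ U, R.ρ x (R.ρ x u) = (l * l) • u)
    (hanti : x * g = S.z * (g * x)) :
    finrank k U = 2 * finrank k (U ⊓ Module.End.eigenspace (R.ρ x) l : Submodule k V) := by
  have hswap : ∀ c : k, (U ⊓ Module.End.eigenspace (R.ρ x) c).map (R.ρ g) ≤
      U ⊓ Module.End.eigenspace (R.ρ x) (-c) := by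
    rintro c _ ⟨v, ⟨hvU, hv⟩, rfl⟩
    refine ⟨hg v hvU, (mem_eig R.ρ).2 ?_⟩
    rw [R.anti_apply hanti, (mem_eig R.ρ).1 hv, map_smul, neg_smul]
  have h1 := Submodule.finrank_mono (hswap l)
  have h2 := Submodule.finrank_mono (hswap (-l))
  rw [finrank_map_rho] at h1 h2
  rw [neg_neg] at h2
  set A := U ⊓ Module.End.eigenspace (R.ρ x) l
  set B := U ⊓ Module.End.eigenspace (R.ρ x) (-l)
  have hsup : A ⊔ B = U := by
    refine le_antisymm (sup_le inf_le_left inf_le_left) fun u hu => ?_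
    have hc : (2 * l) ≠ 0 := mul_ne_zero R.two hl
    have e : u = (2 * l)⁻¹ • (l • u + R.ρ x u) + (2 * l)⁻¹ • (l • u - R.ρ x u) := by
      rw [← smul_add, show l • u + R.ρ x u + (l • u - R.ρ x u) = (2 * l) • u by module,
        smul_smul, inv_mul_cancel₀ hc, one_smul]
    rw [e]
    refine Submodule.add_mem_sup ⟨U.smul_mem _ (add_mem (U.smul_mem _ hu) (hx u hu)), ?_⟩
      ⟨U.smul_mem _ (sub_mem (U.smul_mem _ hu) (hx u hu)), ?_⟩
    · refine Submodule.smul_mem _ _ ((mem_eig R.ρ).2 ?_)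
      rw [map_add, map_smul, hsq u hu]; module
    · refine Submodule.smul_mem _ _ ((mem_eig R.ρ).2 ?_)
      rw [map_sub, map_smul, hsq u hu]; module
  have hinf : A ⊓ B = ⊥ := by
    refine (Submodule.eq_bot_iff _).2 fun v hv => ?_
    have e1 := (mem_eig R.ρ).1 hv.1.2
    have e2 := (mem_eig R.ρ).1 hv.2.2
    rw [e1, neg_smul] at e2
    have := R.neg_ne_self (v := l • v) e2.symm
    exact (smul_eq_zero.1 this).resolve_left hl
  have h3 := Submodule.finrank_sup_add_finrank_inf_eq A B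
  rw [hsup, hinf, finrank_bot] at h3
  omega

theorem inv_inter {M N : Finset (Fin (m + 2))} {U : Submodule k V} (hU : R.Inv N U) {x : Γ} (c : k)
    (hMN : Disjoint N M) (hx : S.φ x ∈ altOn M) :
    R.Inv N (U ⊓ Module.End.eigenspace (R.ρ x) c) := fun g hg _ hu =>
  ⟨hU g hg _ hu.1, apply_eig_mem_of_commute R.ρ (S.commute_of_disjoint hMN hg hx) hu.2⟩

/-- A root of `-1`. -/
theorem exists_I : ∃ i : k, i * i = -1 ∧ i ≠ 0 := by
  obtain ⟨i, hi⟩ := IsAlgClosed.exists_eq_mul_self (-1 : k)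
  exact ⟨i, hi.symm, fun h => by rw [h, mul_zero] at hi; exact neg_ne_zero.2 one_ne_zero hi⟩

theorem sq_apply {x : Γ} (h : x * x = S.z) {i : k} (hi : i * i = -1) (v : V) :
    R.ρ x (R.ρ x v) = (i * i) • v := by
  rw [← rho_mul, h, R.neg, hi, neg_one_smul]

theorem four (hm : 4 ≤ m) {M : Finset (Fin (m + 2))} {U : Submodule k V} (hU : R.Inv M U)
    (hne : U ≠ ⊥) (hM : 4 ≤ M.card) : 2 ≤ finrank k U := by
  obtain ⟨e, he⟩ := exists_emb hM
  obtain ⟨a, ha⟩ := S.surj (dbl e)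
  let p : Fin 4 ↪ Fin 4 := ⟨![0, 2, 1, 3], by decide⟩
  let q : Fin 4 ↪ Fin 4 := ⟨![0, 3, 1, 2], by decide⟩
  obtain ⟨b, hb⟩ := S.surj (altExt e (dbl p))
  obtain ⟨i, hi, hi0⟩ := exists_I (k := k)
  have hanti : a * b = S.z * (b * a) := by
    refine S.anticomm hm (e := e) (f := p.trans e) (g := q.trans e) ha ?_ ?_
    · rw [hb, dbl, dbl, altExt_trans]
    · rw [ha, hb, dbl, dbl, dbl, altExt_trans, ← map_mul]
      exact congrArg _ (by decide)
  have ha' : S.φ a ∈ altOn M := ha ▸ altExt_mem_altOn he _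
  have hb' : S.φ b ∈ altOn M := hb ▸ altExt_mem_altOn he _
  have h := R.split hi0 (hU a ha') (hU b hb')
    (fun u _ => R.sq_apply (S.dbl_mul_self hm ha) hi u) hanti
  have := one_le_finrank hne
  omega

theorem eight (hm : 4 ≤ m) {F : Fin 8 ↪ Fin (m + 2)} {U : Submodule k V} (hU : R.Inv (pts F) U)
    (hne : U ≠ ⊥) :
    ∃ U' : Submodule k V, U' ≠ ⊥ ∧ 8 * finrank k U' = finrank k U ∧
      ∀ N, Disjoint N (pts F) → R.Inv N U → R.Inv N U' := by
  have hex : ∀ q : Fin 4 ↪ Fin 8, ∃ g, S.φ g = altExt F (dbl q) := fun q => S.surj _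
  choose L hL using hex
  have hd : ∀ q, S.φ (L q) = dbl (q.trans F) := fun q => by rw [hL, dbl, dbl, altExt_trans]
  have hmem : ∀ q, S.φ (L q) ∈ altOn (pts F) := fun q => hL q ▸ altExt_mem_altOn subset_rfl _
  have hanti : ∀ p q r : Fin 4 ↪ Fin 8, dbl p * dbl q = dbl r →
      L p * L q = S.z * (L q * L p) := fun p q r h =>
    S.anticomm hm (hd p) (hd q) (g := r.trans F) (by
      rw [hL, hL, ← map_mul, h, dbl, dbl, altExt_trans])
  set A := L qA with hA
  set A2 := L qA2 with hA2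
  set T := L qS with hT
  set W1 := L qW1 with hW1
  set W2 := L qW2 with hW2
  have hAA2 : A * A2 = S.z * (A2 * A) := hanti qA qA2 qA3 (by decide)
  have hTA : T * A = S.z * (A * T) := hanti qS qA qSA (by decide)
  have hTW1 : T * W1 = S.z * (W1 * T) := hanti qS qW1 qSW (by decide)
  have hdis : ∀ p q : Fin 4 ↪ Fin 8, (∀ i j, p i ≠ q j) → ∀ g h,
      S.φ g ∈ altOn (pts (p.trans F)) → S.φ h ∈ altOn (pts (q.trans F)) → g * h = h * g :=
    fun p q hpq g h hg hh => S.commute_of_disjoint (Finset.disjoint_left.2 fun y h1 h2 => by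
      obtain ⟨i, rfl⟩ := mem_pts.1 h1
      obtain ⟨j, hj⟩ := mem_pts.1 h2
      exact hpq i j (F.injective hj).symm) hg hh
  have hLq : ∀ q : Fin 4 ↪ Fin 8, S.φ (L q) ∈ altOn (pts (q.trans F)) := fun q =>
    hd q ▸ altExt_mem_altOn subset_rfl _
  have hW12 : W1 * W2 = W2 * W1 := hdis qW1 qW2 (by decide) _ _ (hLq _) (hLq _)
  have hTW2 : T * W2 = W2 * T := hdis qS qW2 (by decide) _ _ (hLq _) (hLq _)
  set W := W1 * W2 with hW
  have hWW : W * W = 1 := by
    calc W * W = W1 * (W2 * W1) * W2 := by rw [hW]; group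
      _ = (W1 * W1) * (W2 * W2) := by rw [← hW12]; simp only [hW, mul_assoc]
      _ = 1 := by rw [S.dbl_mul_self hm (hd qW1), S.dbl_mul_self hm (hd qW2), S.z_mul_z]
  have hWc : ∀ g, W * (W * g) = g := fun g => by rw [← mul_assoc, hWW, one_mul]
  have hTW : T * W = S.z * (W * T) := by
    rw [hW, ← mul_assoc, hTW1, mul_assoc S.z, mul_assoc W1 T, hTW2]; group
  set B := W * A * W with hB
  set B2 := W * A2 * W with hB2
  let qB : Fin 4 ↪ Fin 8 := ⟨![4, 5, 6, 7], by decide⟩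
  have hBimg : S.φ B = altExt F (dbl qW1 * dbl qW2 * dbl qA * (dbl qW1 * dbl qW2)) := by
    simp only [hB, hW, map_mul, hW1, hW2, hA, hL]
  have hB2img : S.φ B2 = altExt F (dbl qW1 * dbl qW2 * dbl qA2 * (dbl qW1 * dbl qW2)) := by
    simp only [hB2, hW, map_mul, hW1, hW2, hA2, hL]
  have hBmem : S.φ B ∈ altOn (pts (qB.trans F)) := by
    rw [hBimg, show dbl qW1 * dbl qW2 * dbl qA * (dbl qW1 * dbl qW2) =
      altExt qB d4 by decide, ← altExt_trans]
    exact altExt_mem_altOn subset_rfl _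
  have hB2mem : S.φ B2 ∈ altOn (pts (qB.trans F)) := by
    rw [hB2img, show dbl qW1 * dbl qW2 * dbl qA2 * (dbl qW1 * dbl qW2) =
      altExt qB (dbl ⟨![0, 2, 1, 3], by decide⟩) by decide, ← altExt_trans]
    exact altExt_mem_altOn subset_rfl _
  have hAB : A * B = B * A := hdis qA qB (by decide) _ _ (hLq _) hBmem
  have hAB2 : A * B2 = B2 * A := hdis qA qB (by decide) _ _ (hLq _) hB2mem
  have hA2B : A2 * B = B * A2 := hdis qA2 qB (by decide) _ _ (hLq _) hBmem
  have hA2B2 : A2 * B2 = B2 * A2 := hdis qA2 qB (by decide) _ _ (hLq _) hB2mem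
  have hBB2 : B * B2 = S.z * (B2 * B) := by
    calc B * B2 = W * (A * A2) * W := by simp only [hB, hB2, mul_assoc, hWc]
      _ = S.z * (W * (A2 * A) * W) := by rw [hAA2, S.z_left, mul_assoc S.z]
      _ = S.z * (B2 * B) := by simp only [hB, hB2, mul_assoc, hWc]
  have hBsq : B * B = S.z := by
    calc B * B = W * (A * A) * W := by simp only [hB, mul_assoc, hWc]
      _ = S.z := by rw [S.dbl_mul_self hm (hd qA), S.central W, mul_assoc, hWW, mul_one]
  have hTB : T * B = S.z * (B * T) := by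
    calc T * B = (T * W) * A * W := by rw [hB]; group
      _ = S.z * (W * (T * A) * W) := by rw [hTW]; group
      _ = S.z * (S.z * (W * A * (T * W))) := by rw [hTA, S.z_left, mul_assoc S.z]; group
      _ = W * A * (S.z * (W * T)) := by rw [S.z_cancel, hTW]
      _ = S.z * (B * T) := by rw [S.z_left, hB]; group
  set f := T * A2 * B2 with hf
  have hfA : f * A = A * f := by
    calc f * A = T * (A2 * (B2 * A)) := by rw [hf]; group
      _ = T * (A2 * A) * B2 := by rw [← hAB2]; group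
      _ = T * (S.z * (A * A2)) * B2 := by rw [hAA2, S.z_cancel]
      _ = S.z * (T * A) * A2 * B2 := by rw [S.z_left]; group
      _ = A * f := by rw [hTA, S.z_cancel, hf]; group
  have hfB : f * B = B * f := by
    calc f * B = T * (A2 * (B2 * B)) := by rw [hf]; group
      _ = T * (A2 * (S.z * (B * B2))) := by rw [hBB2, S.z_cancel]
      _ = S.z * (T * (A2 * B) * B2) := by rw [S.z_left, S.z_left]; group
      _ = S.z * (T * B * A2 * B2) := by rw [hA2B]; group
      _ = B * f := by rw [hTB, hf]; simp only [mul_assoc, S.z_cancel]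
  have hWT : W * T = S.z * (T * W) := by rw [hTW, S.z_cancel]
  have hWA2 : W * A2 = B2 * W := by simp only [hB2, mul_assoc, hWW, mul_one]
  have hWB2 : W * B2 = A2 * W := by simp only [hB2, mul_assoc, hWc]
  have hfW : f * W = S.z * (W * f) := by
    calc f * W = S.z * (S.z * (T * (W * W) * (A2 * B2) * W)) := by
          rw [S.z_cancel, hWW, mul_one, hf]; group
      _ = S.z * (S.z * (T * W) * ((W * A2) * B2 * W)) := by group
      _ = S.z * (W * T * (B2 * (W * B2) * W)) := by rw [← hWT, hWA2]; group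
      _ = S.z * (W * T * (B2 * A2)) := by rw [hWB2, mul_assoc B2 (A2 * W) W, mul_assoc A2 W W, hWW, mul_one]
      _ = S.z * (W * f) := by rw [← hA2B2, hf]; group
  -- first split
  obtain ⟨i, hi, hi0⟩ := exists_I (k := k)
  have hFq : ∀ q : Fin 4 ↪ Fin 8, pts (q.trans F) ⊆ pts F := fun q y hy => by
    obtain ⟨j, rfl⟩ := mem_pts.1 hy; exact mem_pts.2 ⟨q j, rfl⟩
  have hWU : ∀ u ∈ U, R.ρ W u ∈ U :=
    hU W (by rw [hW, map_mul]; exact mul_mem (hmem _) (hmem _))
  have hBU : ∀ u ∈ U, R.ρ B u ∈ U := hU B (altOn_mono (hFq _) hBmem)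
  have hB2U : ∀ u ∈ U, R.ρ B2 u ∈ U := hU B2 (altOn_mono (hFq _) hB2mem)
  have hfU : ∀ u ∈ U, R.ρ f u ∈ U := hU f (by
    rw [hf, map_mul, map_mul]; exact mul_mem (mul_mem (hmem _) (hmem _)) (altOn_mono (hFq _) hB2mem))
  set U1 := U ⊓ Module.End.eigenspace (R.ρ A) i with hU1
  have h1 : finrank k U = 2 * finrank k U1 := R.split hi0 (hU A (hmem _)) (hU A2 (hmem _))
    (fun u _ => R.sq_apply (S.dbl_mul_self hm (hd qA)) hi u) hAA2
  have hB2U1 : ∀ u ∈ U1, R.ρ B2 u ∈ U1 := fun u hu =>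
    ⟨hB2U u hu.1, apply_eig_mem_of_commute R.ρ hAB2.symm hu.2⟩
  set U2 := U1 ⊓ Module.End.eigenspace (R.ρ B) i with hU2
  have h2 : finrank k U1 = 2 * finrank k U2 := R.split hi0
    (fun u hu => ⟨hBU u hu.1, apply_eig_mem_of_commute R.ρ hAB.symm hu.2⟩) hB2U1
    (fun u _ => R.sq_apply hBsq hi u) hBB2
  have hfU2 : ∀ u ∈ U2, R.ρ f u ∈ U2 := fun u hu =>
    ⟨⟨hfU u hu.1.1, apply_eig_mem_of_commute R.ρ hfA hu.1.2⟩,
      apply_eig_mem_of_commute R.ρ hfB hu.2⟩
  have hWU2 : ∀ u ∈ U2, R.ρ W u ∈ U2 := fun u hu => by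
    refine ⟨⟨hWU u hu.1.1, (mem_eig R.ρ).2 ?_⟩, (mem_eig R.ρ).2 ?_⟩
    · rw [← rho_mul, show A * W = W * B by simp only [hB, mul_assoc, hWc], rho_mul,
        (mem_eig R.ρ).1 hu.2, map_smul]
    · rw [← rho_mul, show B * W = W * A by simp only [hB, mul_assoc, hWW, mul_one], rho_mul,
        (mem_eig R.ρ).1 hu.1.2, map_smul]
  have hfsq : ∃ l : k, l ≠ 0 ∧ ∀ u ∈ U2, R.ρ f (R.ρ f u) = (l * l) • u := by
    have himg : S.φ (f * f) = S.φ (A * B) := by
      simp only [hf, map_mul, hB2img, hBimg, hT, hA2, hA, hL]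
      simp only [← map_mul]
      exact congrArg _ f_sq_image
    have hABu : ∀ u ∈ U2, R.ρ (A * B) u = -u := fun u hu => by
      rw [rho_mul, (mem_eig R.ρ).1 hu.2, map_smul, (mem_eig R.ρ).1 hu.1.2, smul_smul, hi,
        neg_one_smul]
    rcases S.lift_cases himg with h | h
    · exact ⟨i, hi0, fun u hu => by rw [← rho_mul, h, hABu u hu, hi, neg_one_smul]⟩
    · exact ⟨1, one_ne_zero, fun u hu => by
        rw [← rho_mul, h, rho_mul, R.neg, hABu u hu, neg_neg, one_mul, one_smul]⟩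
  obtain ⟨l, hl, hlsq⟩ := hfsq
  have h3 := R.split hl hfU2 hWU2 hlsq hfW
  refine ⟨U2 ⊓ Module.End.eigenspace (R.ρ f) l, fun h => ?_, by omega, fun N hN hUN => ?_⟩
  · rw [h, finrank_bot] at h3
    have := one_le_finrank hne
    omega
  · exact R.inv_inter (R.inv_inter (R.inv_inter hUN i hN (hmem _)) i hN
      (altOn_mono (hFq _) hBmem)) l hN (by
      rw [hf, map_mul, map_mul]
      exact mul_mem (mul_mem (hmem _) (hmem _)) (altOn_mono (hFq _) hB2mem))

theorem exists_eight (hm : 4 ≤ m) {M : Finset (Fin (m + 2))} {U : Submodule k V} (hU : R.Inv M U)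
    (hne : U ≠ ⊥) (hM : 8 ≤ M.card) :
    ∃ F : Fin 8 ↪ Fin (m + 2), pts F ⊆ M ∧ ∃ U' : Submodule k V, U' ≠ ⊥ ∧
      8 * finrank k U' = finrank k U ∧ ∀ N, Disjoint N (pts F) → R.Inv N U → R.Inv N U' := by
  obtain ⟨F, hF⟩ := exists_emb hM
  exact ⟨F, hF, R.eight hm (hU.mono R hF) hne⟩

/-- The bounds for invariant subspaces. -/
theorem growth (hm : 4 ≤ m) : ∀ (s : ℕ) (M : Finset (Fin (m + 2))) (U : Submodule k V),
    M.card = s → R.Inv M U → U ≠ ⊥ →
    (4 ≤ s → 2 ≤ finrank k U) ∧ (8 ≤ s → 8 ≤ finrank k U) ∧ (12 ≤ s → s ≤ finrank k U + 1) := by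
  intro s
  induction s using Nat.strong_induction_on with
  | _ s ih =>
    intro M U hs hU hne
    refine ⟨fun h => R.four hm hU hne (by omega), fun h => ?_, fun h => ?_⟩
    · obtain ⟨F, -, U', hne', hdim, -⟩ := R.exists_eight hm hU hne (by omega)
      have := one_le_finrank hne'
      omega
    · obtain ⟨F, hF, U', hne', hdim, hinv⟩ := R.exists_eight hm hU hne (by omega)
      have hc : (M \ pts F).card = s - 8 := by
        rw [Finset.card_sdiff_of_subset hF, card_pts, hs]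
      obtain ⟨a, b, c⟩ := ih (s - 8) (by omega) (M \ pts F) U' hc
        (hinv _ Finset.sdiff_disjoint (hU.mono R Finset.sdiff_subset)) hne'
      have := a (by omega)
      rcases (show s < 16 ∨ (16 ≤ s ∧ s < 20) ∨ 20 ≤ s by omega) with h' | ⟨h', h''⟩ | h'
      · omega
      · have := b (by omega); omega
      · have := c (by omega); omega

/-- Elements acting centrally are in the kernel of the cover. -/
theorem eq_one_of_central (hm : 4 ≤ m) [Nontrivial V] {g : Γ}
    (hg : ∀ h v, R.ρ g (R.ρ h v) = R.ρ h (R.ρ g v)) : S.φ g = 1 := by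
  haveI := alternatingGroup.isSimpleGroup (α := Fin (m + 2)) (by
    rw [Nat.card_eq_fintype_card, Fintype.card_fin]; omega)
  let C : Subgroup (Γ ⧸ R.ρ.ker) := Subgroup.center _
  let T := C.comap (QuotientGroup.mk' R.ρ.ker)
  haveI : T.Normal := Subgroup.Normal.comap inferInstance _
  have hgT : g ∈ T := by
    refine Subgroup.mem_center_iff.2 fun q => ?_
    obtain ⟨h, rfl⟩ := QuotientGroup.mk'_surjective _ q
    rw [← map_mul, ← map_mul, QuotientGroup.mk'_eq_mk']
    refine ⟨(h * g)⁻¹ * (g * h), MonoidHom.mem_ker.2 (LinearMap.ext fun v => ?_), by group⟩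
    show R.ρ ((h * g)⁻¹ * (g * h)) v = v
    rw [rho_mul, rho_mul, hg, ← rho_mul R.ρ h g, rho_inv_apply]
  rcases (inferInstance : T.Normal).map S.φ S.surj |> IsSimpleGroup.eq_bot_or_eq_top_of_normal _
    with h | h
  · have : S.φ g ∈ T.map S.φ := ⟨g, hgT, rfl⟩
    rwa [h, Subgroup.mem_bot] at this
  exfalso
  have hzT : S.z ∈ T := by
    refine Subgroup.mem_center_iff.2 fun q => ?_
    obtain ⟨h', rfl⟩ := QuotientGroup.mk'_surjective _ q
    rw [← map_mul, ← map_mul, S.central]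
  have htop : T = ⊤ := eq_top_iff.2 fun x _ => by
    obtain ⟨t, ht, e⟩ : S.φ x ∈ T.map S.φ := by rw [h]; trivial
    rcases S.lift_cases e.symm with rfl | rfl
    exacts [ht, mul_mem hzT ht]
  have hle : commutator Γ ≤ R.ρ.ker := by
    rw [commutator_def, Subgroup.commutator_le]
    intro a _ b _
    rw [← QuotientGroup.eq_one_iff, ← QuotientGroup.mk'_apply (N := R.ρ.ker), map_commutatorElement,
      commutatorElement_eq_one_iff_mul_comm]
    exact Subgroup.mem_center_iff.1 (show QuotientGroup.mk' _ b ∈ C from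
      (htop.symm ▸ Subgroup.mem_top b : b ∈ T)) _
  obtain ⟨v, hv⟩ := exists_ne (0 : V)
  have hz1 : R.ρ S.z = 1 := hle (by rw [S.perfect]; trivial)
  have := R.neg v
  rw [hz1] at this
  exact hv (R.neg_ne_self this.symm)

end SpinRep

end Cfsg.Agent.AltSection
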