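import Cfsg.Agent.Lib.AltSection.Geo
import Cfsg.Agent.Lib.CharTheory.AltPresentation

/-!
Lifts of elements to a double cover of an alternating group.
-/

set_option autoImplicit false
set_option linter.unusedSectionVars false

namespace Cfsg.Agent.AltSection

open Equiv CharTheory.AltPresentation
open scoped commutatorElement

theorem permExt_swap {α : Type*} [Fintype α] [DecidableEq α] {m : ℕ} (e : Fin m ↪ α) (a b : Fin m) :
    permExt e (swap a b) = swap (e a) (e b) := by
  refine Equiv.ext fun y => ?_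
  by_cases hy : y ∈ Set.range e
  · obtain ⟨i, rfl⟩ := hy
    rw [permExt_apply]
    exact e.injective.map_swap a b i
  · rw [permExt_apply_of_notMem e _ hy, swap_apply_of_ne_of_ne]
    · rintro rfl; exact hy ⟨a, rfl⟩
    · rintro rfl; exact hy ⟨b, rfl⟩

theorem coe_dbl {α : Type*} [Fintype α] [DecidableEq α] (e : Fin 4 ↪ α) :
    (dbl e : Perm α) = swap (e 0) (e 1) * swap (e 2) (e 3) := by
  rw [dbl, coe_altExt]
  have h : (d4 : Perm (Fin 4)) = swap 0 1 * swap 2 3 := rfl
  rw [h, map_mul, permExt_swap, permExt_swap]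

/-- A perfect double cover of the alternating group on `α`. -/
structure Cover (α : Type*) [Fintype α] [DecidableEq α] (Γ : Type*) [Group Γ] where
  φ : Γ →* alternatingGroup α
  surj : Function.Surjective φ
  z : Γ
  map_z : φ z = 1
  ker : ∀ g, φ g = 1 → g = 1 ∨ g = z
  central : ∀ g, g * z = z * g
  z_ne : z ≠ 1
  perfect : commutator Γ = ⊤

namespace Cover

variable {α : Type*} [Fintype α] [DecidableEq α] {Γ : Type*} [Group Γ] (S : Cover α Γ)

theorem z_mul_z : S.z * S.z = 1 := by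
  rcases S.ker (S.z * S.z) (by rw [map_mul, S.map_z, one_mul]) with h | h
  · exact h
  · exact absurd (mul_eq_right.1 h) S.z_ne

theorem z_inv : S.z⁻¹ = S.z := inv_eq_of_mul_eq_one_right S.z_mul_z

theorem lift_cases {g h : Γ} (hgh : S.φ g = S.φ h) : g = h ∨ g = S.z * h := by
  rcases S.ker (g * h⁻¹) (by rw [map_mul, map_inv, hgh, mul_inv_cancel]) with e | e
  · exact Or.inl (mul_inv_eq_one.1 e)
  · exact Or.inr (by rw [← e, inv_mul_cancel_right])

theorem z_left (g h : Γ) : g * (S.z * h) = S.z * (g * h) := by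
  rw [← mul_assoc, S.central, mul_assoc]

theorem z_cancel (g : Γ) : S.z * (S.z * g) = g := by rw [← mul_assoc, S.z_mul_z, one_mul]

theorem z_pow_mul (g : Γ) (n : ℕ) : (S.z * g) ^ n = S.z ^ n * g ^ n :=
  (show Commute S.z g from (S.central g).symm).mul_pow n

theorem z_pow_odd {n : ℕ} (hn : Odd n) : S.z ^ n = S.z := by
  obtain ⟨j, rfl⟩ := hn
  rw [pow_succ, pow_mul, sq, S.z_mul_z, one_pow, one_mul]

theorem exists_lift_odd {a : alternatingGroup α} {n : ℕ} (hn : Odd n) (ha : a ^ n = 1) :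
    ∃ g, S.φ g = a ∧ g ^ n = 1 := by
  obtain ⟨g, rfl⟩ := S.surj a
  rcases S.ker (g ^ n) (by rw [map_pow, ha]) with h | h
  · exact ⟨g, rfl, h⟩
  · refine ⟨S.z * g, by rw [map_mul, S.map_z, one_mul], ?_⟩
    rw [S.z_pow_mul, S.z_pow_odd hn, h, S.z_mul_z]

theorem lift_odd_unique {n : ℕ} (hn : Odd n) {g h : Γ} (hgh : S.φ g = S.φ h) (hg : g ^ n = 1)
    (hh : h ^ n = 1) : g = h := by
  rcases S.lift_cases hgh with e | e
  · exact e
  · rw [e, S.z_pow_mul, hh, mul_one, S.z_pow_odd hn] at hg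
    exact absurd hg S.z_ne

theorem commute_of_cyc {M : Finset α} (e : Fin 3 ↪ α) (he : Disjoint (pts e) M) {g h : Γ}
    (hg : S.φ g = cyc e) (hh : S.φ h ∈ altOn M) : g * h = h * g := by
  have hc : S.φ (g * h) = S.φ (h * g) := by
    rw [map_mul, map_mul, hg]
    exact (altExt_commute_altOn e he c3 hh).symm
  rcases S.lift_cases hc with e1 | e1
  · exact e1
  exfalso
  have key : ∀ j : ℕ, g ^ j * h = S.z ^ j * (h * g ^ j) := by
    intro j
    induction j with
    | zero => simp
    | succ j ih =>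
      calc g ^ (j + 1) * h = g ^ j * (g * h) := by rw [pow_succ, mul_assoc]
        _ = S.z * (g ^ j * h * g) := by rw [e1, S.z_left, mul_assoc]
        _ = S.z ^ (j + 1) * (h * g ^ (j + 1)) := by
          rw [ih, pow_succ' S.z, mul_assoc, mul_assoc, mul_assoc, pow_succ]
  have h3 := key 3
  rw [S.z_pow_odd (n := 3) ⟨1, rfl⟩] at h3
  rcases S.ker (g ^ 3) (by rw [map_pow, hg, cyc_pow_three]) with e3 | e3
  · rw [e3, one_mul, mul_one] at h3
    exact S.z_ne (right_eq_mul.1 h3)
  · rw [e3, S.central h, S.z_cancel] at h3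
    exact S.z_ne (mul_eq_right.1 h3)

theorem commute_of_disjoint {M N : Finset α} (hMN : Disjoint M N) {g h : Γ}
    (hg : S.φ g ∈ altOn M) (hh : S.φ h ∈ altOn N) : g * h = h * g := by
  have hle : altOn M ≤ (Subgroup.centralizer ({h} : Set Γ)).map S.φ := by
    refine (altOn_le_closure_cyc M).trans ((Subgroup.closure_le _).2 ?_)
    rintro _ ⟨e, he, rfl⟩
    obtain ⟨c, hc⟩ := S.surj (cyc e)
    exact ⟨c, Subgroup.mem_centralizer_singleton_iff.2
      (S.commute_of_cyc e (hMN.mono_left he) hc hh), hc⟩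
  obtain ⟨g', hg', e⟩ := hle hg
  have hg'' := Subgroup.mem_centralizer_singleton_iff.1 hg'
  rcases S.lift_cases e.symm with rfl | rfl
  · exact hg''
  · rw [S.z_left, mul_assoc, hg'']

end Cover

variable {m : ℕ} {Γ : Type*} [Group Γ] [Finite Γ]

theorem exists_dbl_sq_ne (S : Cover (Fin (m + 2)) Γ) (hm : 4 ≤ m) :
    ∃ g : Γ, (∃ e, S.φ g = dbl e) ∧ g * g ≠ 1 := by
  by_contra hcon
  push Not at hcon
  let ψ : Γ →* Perm (Fin (m + 2)) := (alternatingGroup (Fin (m + 2))).subtype.comp S.φ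
  have hψz : ψ S.z = 1 := congrArg Subtype.val S.map_z
  have hbad : ∀ {g : Γ} {a b c d : Fin (m + 2)}, a ≠ b → a ≠ c → a ≠ d → b ≠ c → b ≠ d → c ≠ d →
      ψ g = swap a b * swap c d → g * g = 1 := fun {g a b c d} h1 h2 h3 h4 h5 h6 hg =>
    hcon g ⟨quad a b c d h1 h2 h3 h4 h5 h6, Subtype.ext (hg.trans (coe_dbl (quad a b c d h1 h2 h3 h4 h5 h6)).symm)⟩
  have hmem : ∀ i, i < m → gen m i ∈ alternatingGroup (Fin (m + 2)) := fun i hi => by
    rw [← closure_gen m]; exact Subgroup.subset_closure ⟨i, hi, rfl⟩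
  have hlift : ∀ i, i < m → ∃ g, ψ g = gen m i := fun i hi => by
    obtain ⟨g, hg⟩ := S.surj ⟨_, hmem i hi⟩
    exact ⟨g, congrArg Subtype.val hg⟩
  have hnext : ∀ i, i + 1 < m → ∀ y, ψ y = gen m i →
      ∃ t, ψ t = gen m (i + 1) ∧ (y * t) ^ 3 = 1 := by
    intro i hi y hy
    obtain ⟨t, ht⟩ := hlift (i + 1) hi
    rcases S.ker ((y * t) ^ 3) (Subtype.ext (by
      show ψ ((y * t) ^ 3) = 1
      rw [map_pow, map_mul, hy, ht]
      exact (gen_rels m).adj i hi)) with h | h
    · exact ⟨t, ht, h⟩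
    · refine ⟨S.z * t, by rw [map_mul, hψz, one_mul, ht], ?_⟩
      rw [S.z_left, S.z_pow_mul, S.z_pow_odd (n := 3) ⟨1, rfl⟩, h, S.z_mul_z]
  obtain ⟨g0, hg0, hg03⟩ := S.exists_lift_odd (a := ⟨_, hmem 0 (by omega)⟩) (n := 3) ⟨1, rfl⟩
    (Subtype.ext ((gen_rels m).cube (by omega)))
  classical
  let x : ℕ → Γ := fun i => Nat.rec g0 (fun i y =>
    if h : i + 1 < m ∧ ψ y = gen m i then (hnext i h.1 y h.2).choose else 1) i
  have hx : ∀ i, i < m → ψ (x i) = gen m i ∧ (i + 1 < m → (x i * x (i + 1)) ^ 3 = 1) := by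
    intro i
    induction i with
    | zero =>
      intro hi
      refine ⟨congrArg Subtype.val hg0, fun h1 => ?_⟩
      have h0 : 0 + 1 < m ∧ ψ g0 = gen m 0 := ⟨h1, congrArg Subtype.val hg0⟩
      show (g0 * if h : 0 + 1 < m ∧ ψ g0 = gen m 0 then (hnext 0 h.1 g0 h.2).choose else 1) ^ 3 = 1
      rw [dif_pos h0]
      exact (hnext 0 h0.1 g0 h0.2).choose_spec.2
    | succ i ih =>
      intro hi
      obtain ⟨h1, -⟩ := ih (by omega)
      have h2 : ψ (x (i + 1)) = gen m (i + 1) := by
        have h0 : i + 1 < m ∧ ψ (x i) = gen m i := ⟨hi, h1⟩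
        show ψ (if h : i + 1 < m ∧ ψ (x i) = gen m i then (hnext i h.1 (x i) h.2).choose else 1) = _
        rw [dif_pos h0]
        exact (hnext i h0.1 (x i) h0.2).choose_spec.1
      refine ⟨h2, fun hi' => ?_⟩
      have h0 : i + 1 + 1 < m ∧ ψ (x (i + 1)) = gen m (i + 1) := ⟨hi', h2⟩
      show (x (i + 1) * if h : i + 1 + 1 < m ∧ ψ (x (i + 1)) = gen m (i + 1) then
        (hnext (i + 1) h.1 (x (i + 1)) h.2).choose else 1) ^ 3 = 1
      rw [dif_pos h0]
      exact (hnext _ h0.1 _ h0.2).choose_spec.2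
  have hp : ∀ {a b : ℕ}, a < m + 2 → b < m + 2 → a ≠ b → pt m a ≠ pt m b :=
    fun ha hb hab => pt_ne ha hb hab
  have hrels : Rels x m := by
    refine ⟨fun _ => hg03, fun i h1 hi => ?_, fun i hi => (hx i (by omega)).2 hi,
      fun i j hij hj => ?_⟩
    · rw [sq]
      exact hbad (hp (by omega) (by omega) (by omega)) (hp (by omega) (by omega) (by omega))
        (hp (by omega) (by omega) (by omega)) (hp (by omega) (by omega) (by omega))
        (hp (by omega) (by omega) (by omega)) (hp (by omega) (by omega) (by omega)) (hx i hi).1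
    · rw [sq]
      rcases Nat.eq_zero_or_pos i with rfl | h0
      · refine hbad (a := pt m 0) (b := pt m 2) (c := pt m (j + 1)) (d := pt m (j + 2))
          (hp (by omega) (by omega) (by omega)) (hp (by omega) (by omega) (by omega))
          (hp (by omega) (by omega) (by omega)) (hp (by omega) (by omega) (by omega))
          (hp (by omega) (by omega) (by omega)) (hp (by omega) (by omega) (by omega)) ?_
        rw [map_mul, (hx 0 (by omega)).1, (hx j hj).1]
        show sw m 0 * sw m 1 * (sw m 0 * sw m (j + 1)) = _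
        rw [← mul_assoc]
        congr 1
        show swap (pt m 0) (pt m 1) * swap (pt m 1) (pt m 2) * swap (pt m 0) (pt m 1) = _
        rw [swap_comm (pt m 0) (pt m 1), swap_comm (pt m 1) (pt m 2), swap_mul_swap_mul_swap]
        · exact hp (by omega) (by omega) (by omega)
        · exact hp (by omega) (by omega) (by omega)
      · refine hbad (a := pt m (i + 1)) (b := pt m (i + 2)) (c := pt m (j + 1)) (d := pt m (j + 2))
          (hp (by omega) (by omega) (by omega)) (hp (by omega) (by omega) (by omega))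
          (hp (by omega) (by omega) (by omega)) (hp (by omega) (by omega) (by omega))
          (hp (by omega) (by omega) (by omega)) (hp (by omega) (by omega) (by omega)) ?_
        rw [map_mul, (hx i (by omega)).1, (hx j hj).1]
        show sw m 0 * sw m (i + 1) * (sw m 0 * sw m (j + 1)) = _
        rw [show sw m 0 * sw m (i + 1) = sw m (i + 1) * sw m 0 from sw_far (by omega) (by omega),
          mul_assoc, ← mul_assoc (sw m 0) (sw m 0), sw_sq, one_mul]
        rfl
  obtain ⟨-, hcard⟩ := card_closure_le hrels m (by omega) le_rfl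
  set L := Subgroup.closure (x '' Set.Iio m) with hL
  have hmap : L.map S.φ = ⊤ := by
    refine eq_top_iff.2 fun a _ => ?_
    have h1 : L.map ψ = alternatingGroup (Fin (m + 2)) := by
      rw [hL, MonoidHom.map_closure, ← closure_gen m, ← Set.image_comp]
      exact congrArg _ (Set.image_congr fun i hi => (hx i hi).1)
    obtain ⟨g, hg, e⟩ : (a : Perm (Fin (m + 2))) ∈ L.map ψ := by rw [h1]; exact a.2
    exact ⟨g, hg, Subtype.ext e⟩
  have hsurj : Function.Surjective (fun g : L => S.φ g) := fun a => by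
    obtain ⟨g, hg, e⟩ : a ∈ L.map S.φ := by rw [hmap]; trivial
    exact ⟨⟨g, hg⟩, e⟩
  have hle : Nat.card L ≤ Nat.card (alternatingGroup (Fin (m + 2))) := by
    haveI : Nontrivial (Fin (m + 2)) := Fin.nontrivial_iff_two_le.2 (by omega)
    have := two_mul_nat_card_alternatingGroup (α := Fin (m + 2))
    rw [Nat.card_eq_fintype_card (α := Perm (Fin (m + 2))), Fintype.card_perm, Fintype.card_fin]
      at this
    omega
  have hbij : Function.Bijective (fun g : L => S.φ g) :=
    hsurj.bijective_of_nat_card_le hle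
  have hz : S.z ∉ L := fun hz => S.z_ne (congrArg Subtype.val
    (hbij.1 (a₁ := ⟨S.z, hz⟩) (a₂ := 1) (by
      show S.φ S.z = S.φ 1
      rw [S.map_z, map_one])))
  refine hz ((?_ : commutator Γ ≤ L) (by rw [S.perfect]; trivial))
  rw [commutator_def, Subgroup.commutator_le]
  intro g _ h _
  obtain ⟨⟨g', hg'⟩, eg⟩ := hsurj (S.φ g)
  obtain ⟨⟨h', hh'⟩, eh⟩ := hsurj (S.φ h)
  have key : ⁅g, h⁆ = ⁅g', h'⁆ := by
    have hzz : ∀ a b : Γ, ⁅S.z * a, b⁆ = ⁅a, b⁆ := fun a b => by
      rw [commutatorElement_def, commutatorElement_def, mul_inv_rev, S.z_inv, mul_assoc S.z a b,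
        mul_assoc S.z (a * b), S.central (a⁻¹), S.z_left (a * b)]
      simp only [mul_assoc, S.z_cancel]
    have hzz' : ∀ a b : Γ, ⁅a, S.z * b⁆ = ⁅a, b⁆ := fun a b => by
      rw [← commutatorElement_inv, hzz, commutatorElement_inv]
    rcases S.lift_cases eg.symm with rfl | rfl <;> rcases S.lift_cases eh.symm with rfl | rfl
    · rfl
    · exact hzz' _ _
    · exact hzz _ _
    · rw [hzz, hzz']
  rw [key, commutatorElement_def]
  exact mul_mem (mul_mem (mul_mem hg' hh') (inv_mem hg')) (inv_mem hh')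

namespace Cover

variable (S : Cover (Fin (m + 2)) Γ)

/-- A lift of a double transposition squares to the central involution. -/
theorem dbl_mul_self (hm : 4 ≤ m) {g : Γ} {e : Fin 4 ↪ Fin (m + 2)} (hg : S.φ g = dbl e) :
    g * g = S.z := by
  obtain ⟨g', ⟨e', he'⟩, hne⟩ := exists_dbl_sq_ne S hm
  obtain ⟨a, ha⟩ := exists_move (m := 4) (by rw [Fintype.card_fin]; omega) e' e
  obtain ⟨t, rfl⟩ := S.surj a
  have hz' : g' * g' = S.z := ((S.ker _ (by
    rw [map_mul, he', ← sq, dbl_sq])).resolve_left hne)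
  have himg : S.φ g = S.φ (t * g' * t⁻¹) := by
    rw [hg, map_mul, map_mul, map_inv, he', dbl_conj, ha]
  have hsq : t * g' * t⁻¹ * (t * g' * t⁻¹) = S.z := by
    rw [conj_mul, hz', S.central, mul_inv_cancel_right]
  rcases S.lift_cases himg with h | h <;> rw [h]
  · exact hsq
  · rw [mul_assoc S.z, S.z_left, S.z_cancel, hsq]

/-- Lifts of two double transpositions with a double transposition as product anticommute. -/
theorem anticomm (hm : 4 ≤ m) {a b : Γ} {e f g : Fin 4 ↪ Fin (m + 2)} (ha : S.φ a = dbl e)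
    (hb : S.φ b = dbl f) (hab : S.φ a * S.φ b = dbl g) : a * b = S.z * (b * a) := by
  have h1 := S.dbl_mul_self hm ha
  have h2 := S.dbl_mul_self hm hb
  have h3 := S.dbl_mul_self hm (g := a * b) (e := g) (by rw [map_mul, hab])
  calc a * b = (a * b) * (a * b) * (b⁻¹ * a⁻¹) := by group
    _ = S.z * (b⁻¹ * a⁻¹) := by rw [h3]
    _ = S.z * ((S.z * b) * (S.z * a)) := by
        rw [inv_eq_of_mul_eq_one_right (show b * (S.z * b) = 1 by rw [S.z_left, h2, S.z_mul_z]),
          inv_eq_of_mul_eq_one_right (show a * (S.z * a) = 1 by rw [S.z_left, h1, S.z_mul_z])]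
    _ = S.z * (b * a) := by rw [mul_assoc S.z b, S.z_left b a, S.z_cancel]

end Cover

end Cfsg.Agent.AltSection
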